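/-
Transitive groups of degree `2pq` in which every element of prime order fixes a point: vocabulary.
-/
import Mathlib
import Cfsg.Agent.S7.ChD

set_option autoImplicit false

namespace Cfsg.Agent.EL

open MulAction

/-- A minimal transitive action of degree `2pq` in which every element of prime order fixes a point. -/
structure Hyp (G Ω : Type*) [Group G] [MulAction G Ω] (p q : ℕ) : Prop where
  tr : IsPretransitive G Ω
  hp : p.Prime
  hq : q.Prime
  q3 : 3 ≤ q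
  qp : q < p
  card : Nat.card Ω = 2 * p * q
  elu : ∀ g : G, (orderOf g).Prime → ∃ ω : Ω, g • ω = ω
  min : ∀ H : Subgroup G, (∀ a b : Ω, ∃ g ∈ H, g • a = b) → H = ⊤

variable {G Ω : Type*} [Group G] [MulAction G Ω]

/-- The length of the orbit of `a` under `H`. -/
noncomputable abbrev ol (H : Subgroup G) (a : Ω) : ℕ := Nat.card (orbit H a)

/-- `P` is a Sylow `p`-subgroup. -/
structure Syl (p : ℕ) (P : Subgroup G) : Prop where
  pg : IsPGroup p P
  nd : ¬ p ∣ P.index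

/-- `P` has the long orbit `Γ = P c` of length `p²`, cut into `p` blocks by `R`. -/
structure Lng (p : ℕ) (P R : Subgroup G) (c : Ω) : Prop where
  long : ol P c = p ^ 2
  short : ∀ a : Ω, a ∉ orbit P c → ol P a = p
  ex : ∃ a : Ω, a ∉ orbit P c
  le : R ≤ P
  idx : Nat.card P = p * Nat.card R
  nrm : ∀ x ∈ P, ∀ y ∈ R, x * y * x⁻¹ ∈ R
  comm : ∀ y ∈ R, ∀ z ∈ R, y * z = z * y
  exp : ∀ y ∈ R, y ^ p = 1
  blk : ∀ d ∈ orbit P c, ol R d = p
  mv : ∀ d ∈ orbit P c, ∀ x ∈ P, x • d ∈ orbit R d → x ∈ R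
  pw : ∀ x ∈ P, x ^ p ∈ R ∧ ∀ a : Ω, a ∉ orbit P c → x ^ p • a = a

/-- The hard configuration: `R` holds all elements of order `p` of `P` and fixes the short orbits. -/
structure Cfa (p : ℕ) (P R : Subgroup G) (c : Ω) : Prop extends Lng p P R c where
  om : ∀ x ∈ P, x ^ p = 1 → x ∈ R
  fix : ∀ a : Ω, a ∉ orbit P c → ∀ y ∈ R, y • a = a
  nofix : ∀ a : Ω, a ∉ orbit P c → ∀ x ∈ P, x • a = a → x ∈ R
  wt : ∀ y ∈ R, ∀ d ∈ orbit P c, (∀ e ∈ orbit P c, e ∉ orbit R d → y • e = e) → y = 1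

/-- The pointwise stabiliser of the long orbit without the block of `d`. -/
abbrev ZD (P R : Subgroup G) (c d : Ω) : Subgroup G := fixingSubgroup G (orbit P c \ orbit R d)

/-- The cyclic case. -/
structure Cyc (p : ℕ) (P R : Subgroup G) (c : Ω) (x : G) : Prop extends Cfa p P R c where
  hP : P = Subgroup.zpowers x
  hR : R = Subgroup.zpowers (x ^ p)
  ord : orderOf x = p ^ 2

/-- The centraliser of `w`. -/
abbrev Cw (w : G) : Subgroup G := Subgroup.centralizer ({w} : Set G)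

/-- The normaliser of `⟨w⟩`. -/
abbrev Nw (w : G) : Subgroup G := Subgroup.normalizer (Subgroup.zpowers w : Set G)

/-- `g` carries the `k`-th linear character of `C(w)` to the `l`-th. -/
def Car {n : ℕ} {w : G} (φ : Cw w →* Multiplicative (ZMod n)) (g : G) (k l : ZMod n) : Prop :=
  ∀ y y' : Cw w, (y' : G) = g * y * g⁻¹ → k * (φ y').toAdd = l * (φ y).toAdd

/-- The `k`-th and the `l`-th linear character are conjugate under `N(⟨w⟩)`. -/
def Eqv {n : ℕ} {w : G} (φ : Cw w →* Multiplicative (ZMod n)) (k l : ZMod n) : Prop :=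
  ∃ g ∈ Nw w, Car φ g k l

/-- The T.I. data. -/
structure PD {n : ℕ} {w : G} (φ : Cw w →* Multiplicative (ZMod n)) : Prop where
  surj : Function.Surjective φ
  nc : ∀ g ∈ Nw w, ∀ y ∈ Cw w, g * y * g⁻¹ ∈ Cw w
  ti : ∀ y : Cw w, φ y ≠ 1 → ∀ g : G, g * y * g⁻¹ ∈ Cw w → g ∈ Nw w
  unit : ∀ g ∈ Nw w, ∃ u : (ZMod n)ˣ, Car φ g 1 u
  free : ∀ g ∈ Nw w, ∀ k : ZMod n, k ≠ 0 → Car φ g k k → g ∈ Cw w
  three : ∃ k₁ k₂ k₃ : ZMod n, IsUnit k₁ ∧ IsUnit k₂ ∧ IsUnit k₃ ∧ ¬ Eqv φ k₁ k₂ ∧ ¬ Eqv φ k₁ k₃ ∧ ¬ Eqv φ k₂ k₃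

/-- The `k`-th linear character of `C(w)`. -/
noncomputable def lc {n : ℕ} [NeZero n] {w : G} (φ : Cw w →* Multiplicative (ZMod n)) (k : ZMod n) : Cw w →* ℂˣ :=
  (((ZMod.stdAddChar (N := n)).mulShift k).toMonoidHom.comp φ).toHomUnits

theorem lc_apply {n : ℕ} [NeZero n] {w : G} (φ : Cw w →* Multiplicative (ZMod n)) (k : ZMod n) (y : Cw w) :
    (lc φ k y : ℂ) = ZMod.stdAddChar (k * (φ y).toAdd) := rfl

end Cfsg.Agent.EL
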