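import Mathlib
import Cfsg.Agent.EL.Defs

set_option autoImplicit false
set_option linter.unusedSectionVars false

namespace Cfsg.Agent.EL

open MulAction

variable {G Ω : Type*} [Group G] [Finite G] [MulAction G Ω] [FaithfulSMul G Ω] [Finite Ω] {p q : ℕ}

theorem o_conj (hp : p.Prime) {P : Subgroup G} (hP : Syl p P) (U : Subgroup G) (hU : IsPGroup p U) :
    ∃ g : G, ∀ y ∈ U, g⁻¹ * y * g ∈ P := by
  have := Fact.mk hp
  obtain ⟨Q, hQ⟩ := hU.exists_le_sylow
  obtain ⟨g, rfl⟩ := exists_smul_eq G (hP.pg.toSylow hP.nd) Q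
  refine ⟨g, fun y hy => ?_⟩
  obtain ⟨x, hx, e⟩ := hQ hy
  have e' : g * x * g⁻¹ = y := e
  rw [← e', show g⁻¹ * (g * x * g⁻¹) * g = x by group]
  exact hx

omit [Finite G] [FaithfulSMul G Ω] [Finite Ω] in
theorem orb_idx (A : Subgroup G) (a : Ω) : ol A a = (stabilizer A a).index :=
  ((index_stabilizer A a).trans (Nat.card_coe_set_eq _).symm).symm

omit [FaithfulSMul G Ω] [Finite Ω] in
theorem orb_norm (hp : p.Prime) (A : Subgroup G) (hA : IsPGroup p A) (a : Ω) (h : ol A a ≤ p) :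
    (stabilizer A a).Normal ∧ (stabilizer A a).index ∣ p := by
  have := Fact.mk hp
  rw [orb_idx] at h
  obtain ⟨i, hi⟩ := hA.index (stabilizer A a)
  have hi1 : i ≤ 1 := (Nat.pow_le_pow_iff_right hp.one_lt).1 (by rw [← hi, pow_one]; exact h)
  obtain rfl | rfl : i = 0 ∨ i = 1 := by omega
  · rw [pow_zero] at hi
    exact ⟨Subgroup.index_eq_one.1 hi ▸ inferInstance, hi ▸ one_dvd _⟩
  · rw [pow_one] at hi
    refine ⟨Subgroup.normal_of_index_eq_minFac_card ?_, hi ▸ dvd_rfl⟩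
    obtain ⟨n, hn⟩ := IsPGroup.iff_card.1 hA
    have n0 : n ≠ 0 := by
      rintro rfl
      have := (stabilizer A a).index_dvd_card
      rw [hi, hn, pow_zero] at this
      exact hp.one_lt.ne' (Nat.dvd_one.1 this)
    rw [hi, hn, hp.pow_minFac n0]

/-- A `p`-group with orbits of length at most `p` is elementary abelian. -/
theorem o_ab (hp : p.Prime) (A : Subgroup G) (hA : IsPGroup p A) (h : ∀ a : Ω, ol A a ≤ p) :
    (∀ y ∈ A, ∀ z ∈ A, y * z = z * y) ∧ ∀ y ∈ A, y ^ p = 1 := by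
  have := Fact.mk hp
  refine ⟨fun y hy z hz => eq_of_smul_eq_smul (α := Ω) fun a => ?_,
    fun y hy => eq_of_smul_eq_smul (α := Ω) fun a => ?_⟩
  · obtain ⟨hn, hd⟩ := orb_norm hp A hA a (h a)
    have hc : IsCyclic (A ⧸ stabilizer A a) := isCyclic_of_card_dvd_prime hd
    have e : ((((⟨y, hy⟩ : A) * ⟨z, hz⟩ : A)) : A ⧸ stabilizer A a) = (((⟨z, hz⟩ : A) * ⟨y, hy⟩ : A)) := by
      rw [QuotientGroup.mk_mul, QuotientGroup.mk_mul]
      exact hc.commGroup.mul_comm _ _
    have e2 : ((y * z)⁻¹ * (z * y)) • a = a := QuotientGroup.eq.1 e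
    rw [mul_smul, inv_smul_eq_iff] at e2
    exact e2.symm
  · obtain ⟨hn, k, hk⟩ := orb_norm hp A hA a (h a)
    have e : (⟨y, hy⟩ : A) ^ p ∈ stabilizer A a := by
      rw [hk, pow_mul]
      exact pow_mem (Subgroup.pow_index_mem _ _) _
    rw [one_smul]
    exact e

/-- On an orbit of length `p` the stabiliser of a point fixes the whole orbit. -/
theorem o_ker (hp : p.Prime) (A : Subgroup G) (hA : IsPGroup p A) (a : Ω) (h : ol A a ≤ p) (y : G) (hy : y ∈ A)
    (hya : y • a = a) : ∀ b ∈ orbit A a, y • b = b := by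
  rintro _ ⟨z, rfl⟩
  have e : ((z : G) ⁻¹ * y * z) • a = a :=
    (orb_norm hp A hA a h).1.conj_mem' (⟨y, hy⟩ : A) hya z
  rw [mul_smul, mul_smul, inv_smul_eq_iff] at e
  exact e

omit [Finite G] [FaithfulSMul G Ω] [Finite Ω] in
theorem Hyp.orb_st (h : Hyp G Ω p q) (a : Ω) : (stabilizer G a).index = 2 * p * q := by
  have := h.tr
  rw [index_stabilizer_of_transitive, h.card]

omit [Finite G] [FaithfulSMul G Ω] [Finite Ω] in
theorem Hyp.orb_nd (h : Hyp G Ω p q) : ¬ p ∣ 2 * q := fun hd => by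
  have h1 := h.qp
  have h2 := h.q3
  rcases (Nat.Prime.dvd_mul h.hp).1 hd with e | e
  · have := Nat.le_of_dvd two_pos e
    omega
  · have := Nat.le_of_dvd h.hq.pos e
    omega

omit [Finite G] [FaithfulSMul G Ω] [Finite Ω] in
theorem orb_inf (P : Subgroup G) (a : Ω) : (P ⊓ stabilizer G a).index = ol P a * P.index := by
  rw [← Subgroup.relIndex_mul_index (inf_le_left : P ⊓ stabilizer G a ≤ P), Subgroup.inf_relIndex_left, orb_idx]
  rfl

theorem Hyp.o_len (h : Hyp G Ω p q) {P : Subgroup G} (hP : Syl p P) (a : Ω) : ol P a = p ∨ ol P a = p ^ 2 := by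
  have := Fact.mk h.hp
  obtain ⟨i, hi⟩ := hP.pg.index (stabilizer P a)
  rw [← orb_idx] at hi
  have h1 : ol P a ≤ 2 * p * q := h.card ▸ Nat.card_le_card_of_injective _ Subtype.val_injective
  have h2 : i < 3 := (Nat.pow_lt_pow_iff_right h.hp.one_lt).1 (by
    have h3 := h.qp
    have h4 := h.q3
    have h5 : 2 * q < p * p := by nlinarith
    calc p ^ i ≤ p * (2 * q) := by rw [← hi]; linarith
      _ < p * (p * p) := Nat.mul_lt_mul_of_pos_left h5 h.hp.pos
      _ = p ^ 3 := by ring)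
  have h3 : i ≠ 0 := by
    rintro rfl
    have h4 := Subgroup.index_dvd_of_le (inf_le_right : P ⊓ stabilizer G a ≤ _)
    rw [orb_inf, hi, pow_zero, one_mul, h.orb_st] at h4
    exact hP.nd (((dvd_mul_left p 2).mul_right q).trans h4)
  obtain rfl | rfl : i = 1 ∨ i = 2 := by omega
  · exact .inl (by rw [hi, pow_one])
  · exact .inr hi

theorem Hyp.o_ex (h : Hyp G Ω p q) {P : Subgroup G} (hP : Syl p P) : ∃ a : Ω, ol P a = p := by
  have := Fact.mk h.hp
  have : Nonempty Ω := (Nat.card_pos_iff.1 (by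
    rw [h.card]; exact mul_pos (mul_pos two_pos h.hp.pos) h.hq.pos)).1
  obtain ⟨a⟩ := this
  obtain ⟨T⟩ : Nonempty (Sylow p (stabilizer G a)) := inferInstance
  obtain ⟨g, hg⟩ := o_conj h.hp hP ((T : Subgroup (stabilizer G a)).map (stabilizer G a).subtype) (T.isPGroup'.map _)
  refine ⟨g⁻¹ • a, (h.o_len hP _).resolve_right fun e => ?_⟩
  have h1 : ((T : Subgroup (stabilizer G a)).map (stabilizer G a).subtype).comap (MulAut.conj g).toMonoidHom ≤
      P ⊓ stabilizer G (g⁻¹ • a) := fun x hx => by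
    have hx' : g * x * g⁻¹ ∈ (T : Subgroup (stabilizer G a)).map (stabilizer G a).subtype := hx
    refine ⟨by have := hg _ hx'; rwa [show g⁻¹ * (g * x * g⁻¹) * g = x by group] at this, ?_⟩
    have h2 : (g * x * g⁻¹) • a = a := Subgroup.map_subtype_le _ hx'
    rw [mul_smul, mul_smul, ← eq_inv_smul_iff] at h2
    exact h2
  have h2 := Subgroup.index_dvd_of_le h1
  rw [Subgroup.index_comap_of_surjective _ (MulAut.conj g).surjective, Subgroup.index_map_subtype, orb_inf, e,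
    h.orb_st] at h2
  have h3 : p * p ∣ p * ((T : Subgroup (stabilizer G a)).index * (2 * q)) := by
    rw [← sq, show p * ((T : Subgroup (stabilizer G a)).index * (2 * q)) =
      (T : Subgroup (stabilizer G a)).index * (2 * p * q) by ring]
    exact (dvd_mul_right _ _).trans h2
  rcases (Nat.Prime.dvd_mul h.hp).1 (Nat.dvd_of_mul_dvd_mul_left h.hp.pos h3) with e1 | e1
  · exact T.not_dvd_index e1
  · exact h.orb_nd e1

theorem Hyp.o_uniq (h : Hyp G Ω p q) (P : Subgroup G) (c d : Ω) (hc : ol P c = p ^ 2) (hd : ol P d = p ^ 2) :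
    d ∈ orbit P c := by
  rcases orbit.eq_or_disjoint (G := P) c d with e | e
  · exact e ▸ mem_orbit_self d
  · exfalso
    have h1 := Set.ncard_union_eq e
    have h2 := Set.ncard_le_card (orbit P c ∪ orbit P d)
    rw [ol, Nat.card_coe_set_eq] at hc hd
    rw [h1, hc, hd, h.card] at h2
    have h3 := h.qp
    have h4 := h.hp.pos
    nlinarith

/-- A `p`-subgroup fixing a point has order at most `|P| / p`. -/
theorem Hyp.o_le (h : Hyp G Ω p q) {P : Subgroup G} (hP : Syl p P) (U : Subgroup G) (hU : IsPGroup p U) (a : Ω)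
    (ha : ∀ u ∈ U, u • a = a) : p * Nat.card U ∣ Nat.card P := by
  have := Fact.mk h.hp
  obtain ⟨n, hn⟩ := IsPGroup.iff_card.1 hU
  have h1 := Subgroup.index_dvd_of_le (show U ≤ stabilizer G a from ha)
  rw [h.orb_st] at h1
  have h2 : p * Nat.card U ∣ Nat.card P * P.index := by
    rw [P.card_mul_index, ← U.index_mul_card]
    exact mul_dvd_mul_right (((dvd_mul_left p 2).mul_right q).trans h1) _
  refine Nat.Coprime.dvd_of_dvd_mul_right ?_ h2
  rw [hn, ← pow_succ']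
  exact ((Nat.Prime.coprime_iff_not_dvd h.hp).2 hP.nd).pow_left _

/-- A `p`-subgroup fixing `a` is conjugate into the stabiliser in `P` of any short point `b`. -/
theorem Hyp.o_f2 (h : Hyp G Ω p q) {P : Subgroup G} (hP : Syl p P) (b : Ω) (hb : ol P b = p) (U : Subgroup G)
    (hU : IsPGroup p U) (a : Ω) (ha : ∀ u ∈ U, u • a = a) : ∃ g : G, g • b = a ∧ ∀ u ∈ U, g⁻¹ * u * g ∈ P := by
  have := h.tr
  obtain ⟨g, rfl⟩ := exists_smul_eq G b a
  have hS : Syl p (P.subgroupOf (stabilizer G b)) := by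
    refine ⟨hP.pg.comap_subtype, fun hd => hP.nd ?_⟩
    have h1 := Subgroup.relIndex_mul_index (inf_le_right : P ⊓ stabilizer G b ≤ _)
    rw [Subgroup.inf_relIndex_right, orb_inf, hb, h.orb_st] at h1
    have h2 : P.relIndex (stabilizer G b) * (2 * q) = P.index :=
      Nat.eq_of_mul_eq_mul_left h.hp.pos (by rw [← h1]; ring)
    exact h2 ▸ Dvd.dvd.mul_right hd _
  obtain ⟨k, hk⟩ := o_conj h.hp hS ((U.comap (MulAut.conj g).toMonoidHom).subgroupOf (stabilizer G b))
    (hU.comap_of_injective _ (MulAut.conj g).injective).comap_subtype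
  refine ⟨g * k, by rw [mul_smul, show (k : G) • b = b from k.2], fun u hu => ?_⟩
  have h1 : g⁻¹ * u * g ∈ stabilizer G b := by
    rw [mem_stabilizer_iff, mul_smul, mul_smul, ha u hu, inv_smul_smul]
  have h2 : (k : G)⁻¹ * (g⁻¹ * u * g) * k ∈ P := hk ⟨_, h1⟩ (by
    change g * (g⁻¹ * u * g) * g⁻¹ ∈ U
    rwa [show g * (g⁻¹ * u * g) * g⁻¹ = u by group])
  rwa [show (g * k)⁻¹ * u * (g * k) = (k : G)⁻¹ * (g⁻¹ * u * g) * k by group]

/-- Witt's lemma. -/
theorem Hyp.o_witt (h : Hyp G Ω p q) {P : Subgroup G} (hP : Syl p P) (R K : Subgroup G) (hR : IsPGroup p R)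
    (hc : Nat.card P = p * Nat.card R) (a : Ω) (hK : ∀ k ∈ K, k • a = a) (hRK : R ≤ K) (z : G)
    (hz : ∀ y ∈ R, z * y * z⁻¹ ∈ K) : ∃ k ∈ K, k * z ∈ Subgroup.normalizer (R : Set G) := by
  have := Fact.mk h.hp
  have hS : Syl p (R.subgroupOf K) := by
    refine ⟨hR.comap_subtype, ?_⟩
    obtain ⟨T, hT⟩ := (hR.comap_subtype (K := K)).exists_le_sylow
    have h1 := h.o_le hP ((T : Subgroup K).map K.subtype) (T.isPGroup'.map _) a
      fun u hu => hK u (Subgroup.map_subtype_le _ hu)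
    rw [hc, Subgroup.card_map_of_injective K.subtype_injective] at h1
    have h2 : R.subgroupOf K = T := Subgroup.eq_of_le_of_card_ge hT (by
      rw [Nat.card_congr (Subgroup.subgroupOfEquivOfLe hRK).toEquiv]
      exact Nat.le_of_dvd Nat.card_pos (Nat.dvd_of_mul_dvd_mul_left h.hp.pos h1))
    rw [h2]
    exact T.not_dvd_index
  obtain ⟨k, hk⟩ := o_conj h.hp hS ((R.map (MulAut.conj z).toMonoidHom).subgroupOf K) (hR.map _).comap_subtype
  refine ⟨(k : G)⁻¹, inv_mem k.2, Subgroup.mem_normalizer_fintype fun y hy => ?_⟩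
  have h2 : (k : G)⁻¹ * (z * y * z⁻¹) * k ∈ R := hk ⟨_, hz y hy⟩ ⟨y, hy, rfl⟩
  rwa [show (k : G)⁻¹ * z * y * ((k : G)⁻¹ * z)⁻¹ = (k : G)⁻¹ * (z * y * z⁻¹) * k by group]

end Cfsg.Agent.EL
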