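/-
The long orbit of a Sylow `p`-subgroup and its blocks.
-/
import Mathlib
import Cfsg.Agent.EL.Defs
import Cfsg.Agent.EL.Orb

set_option autoImplicit false
set_option linter.unusedSectionVars false

namespace Cfsg.Agent.EL

open MulAction

variable {G Ω : Type*} [Group G] [Finite G] [MulAction G Ω] [FaithfulSMul G Ω] [Finite Ω] {p q : ℕ}

omit [Finite G] [FaithfulSMul G Ω] [Finite Ω] in
theorem triA_mem (H : Subgroup G) (a b : Ω) : b ∈ orbit H a ↔ ∃ y ∈ H, y • a = b := by
  constructor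
  · rintro ⟨y, hy⟩
    exact ⟨y, y.2, hy⟩
  · rintro ⟨y, hy, h⟩
    exact ⟨⟨y, hy⟩, h⟩

omit [Finite G] [FaithfulSMul G Ω] [Finite Ω] in
theorem triA_idx (H : Subgroup G) (a : Ω) : (stabilizer H a).index = ol H a := by
  rw [MulAction.index_stabilizer, ← Nat.card_coe_set_eq]

omit [Finite G] [FaithfulSMul G Ω] [Finite Ω] in
theorem triA_os (H : Subgroup G) (a : Ω) : ol H a * Nat.card ↥(H ⊓ stabilizer G a) = Nat.card H := by
  rw [← triA_idx, ← (stabilizer H a).index_mul_card]
  congr 1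
  have e : stabilizer H a = (H ⊓ stabilizer G a).subgroupOf H := by
    ext y
    simp only [mem_stabilizer_iff, Subgroup.mem_subgroupOf, Subgroup.mem_inf, y.2, true_and]
    rfl
  rw [e]
  exact (Nat.card_congr (Subgroup.subgroupOfEquivOfLe inf_le_left).toEquiv).symm

omit [FaithfulSMul G Ω] [Finite Ω] in
theorem triA_nrm (hp : p.Prime) {P : Subgroup G} (hP : IsPGroup p P) (K : Subgroup P) (hK : K.index = p) :
    K.Normal := by
  have := Fact.mk hp
  obtain ⟨n, hn⟩ := hP.exists_card_eq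
  apply Subgroup.normal_of_index_eq_minFac_card
  have hd : p ∣ p ^ n := by rw [← hn, ← hK]; exact K.index_dvd_card
  have h0 : n ≠ 0 := by
    rintro rfl
    exact hp.one_lt.ne' (Nat.dvd_one.1 (by simpa using hd))
  rw [hn, hp.pow_minFac h0, hK]

theorem Hyp.triA (h : Hyp G Ω p q) {P : Subgroup G} (hP : Syl p P) (c : Ω) (hc : ol P c = p ^ 2) :
    ∃ R : Subgroup G, Lng p P R c := by
  have hp := h.hp
  have := Fact.mk hp
  obtain ⟨n, hn⟩ := hP.pg.exists_card_eq
  obtain ⟨m, hm⟩ := (hP.pg.to_subgroup (stabilizer P c)).exists_card_eq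
  have hi : (stabilizer P c).index = p ^ 2 := by rw [triA_idx, hc]
  have hnm : n = m + 2 := by
    have := (stabilizer P c).index_mul_card
    rw [hi, hm, hn, ← pow_add] at this
    have := Nat.pow_right_injective hp.two_le this
    omega
  obtain ⟨K, hK, hSK⟩ := Sylow.exists_subgroup_card_pow_succ (p := p) (n := m) (G := P)
    (by rw [hn, hnm]; exact pow_dvd_pow _ (by omega)) hm
  have hKi : K.index = p := by
    have := K.index_mul_card
    rw [hK, hn, hnm, show p ^ (m + 2) = p * p ^ (m + 1) by ring] at this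
    exact Nat.eq_of_mul_eq_mul_right (pow_pos hp.pos _) this
  have hKn : K.Normal := triA_nrm hp hP.pg K hKi
  set R : Subgroup G := K.map P.subtype with hR
  have hmem : ∀ y : P, (y : G) ∈ R ↔ y ∈ K := fun y => by
    rw [hR]
    exact Subgroup.mem_map_iff_mem (f := P.subtype) P.subtype_injective
  have hle : R ≤ P := Subgroup.map_subtype_le K
  have hcR : Nat.card R = p ^ (m + 1) := by
    rw [hR, Subgroup.card_map_of_injective P.subtype_injective, hK]
  have hidx : Nat.card P = p * Nat.card R := by rw [hcR, hn, hnm]; ring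
  have hnrm : ∀ x ∈ P, ∀ y ∈ R, x * y * x⁻¹ ∈ R := fun x hx y hy => by
    have := hKn.conj_mem ⟨y, hle hy⟩ ((hmem _).1 hy) ⟨x, hx⟩
    exact (hmem _).2 this
  have hst : ∀ d ∈ orbit P c, ∀ x ∈ P, x • d = d → x ∈ R := fun d hd x hx hxd => by
    obtain ⟨y, hy, rfl⟩ := (triA_mem P c d).1 hd
    have h1 : y⁻¹ * x * y ∈ R := by
      have hm' : y⁻¹ * x * y ∈ P := P.mul_mem (P.mul_mem (P.inv_mem hy) hx) hy
      refine (hmem ⟨_, hm'⟩).2 (hSK ?_)
      rw [mem_stabilizer_iff]
      show (y⁻¹ * x * y) • c = c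
      rw [mul_smul, mul_smul, hxd, inv_smul_smul]
    have := hnrm y hy _ h1
    simpa [mul_assoc] using this
  have hshort : ∀ a : Ω, a ∉ orbit P c → ol P a = p := fun a ha => by
    rcases h.o_len hP a with h1 | h1
    · exact h1
    · exact absurd (h.o_uniq P c a hc h1) ha
  have hol : ∀ d ∈ orbit P c, ol P d = p ^ 2 := fun d hd => by
    rw [← hc]
    unfold ol
    rw [orbit_eq_iff.2 hd]
  have hblk : ∀ d ∈ orbit P c, ol R d = p := fun d hd => by
    have e : R ⊓ stabilizer G d = P ⊓ stabilizer G d := by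
      apply le_antisymm (inf_le_inf_right _ hle)
      intro x hx
      exact ⟨hst d hd x hx.1 hx.2, hx.2⟩
    have h1 := triA_os P d
    have h2 := triA_os R d
    rw [e] at h2
    rw [hidx, ← h2, hol d hd, ← mul_assoc] at h1
    have h3 := Nat.eq_of_mul_eq_mul_right Nat.card_pos h1
    rw [pow_two] at h3
    exact (Nat.eq_of_mul_eq_mul_left hp.pos h3).symm
  have hab := o_ab (Ω := Ω) hp R (hP.pg.to_le hle) (fun a => by
    by_cases ha : a ∈ orbit P c
    · exact (hblk a ha).le
    · rw [← hshort a ha]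
      apply Nat.card_le_card_of_injective (Set.inclusion (s := orbit R a) (t := orbit P a) (fun b hb => ?_))
        (Set.inclusion_injective _)
      obtain ⟨y, hy, e⟩ := (triA_mem R a b).1 hb
      exact (triA_mem P a b).2 ⟨y, hle hy, e⟩)
  refine ⟨R, hc, hshort, ?_, hle, hidx, hnrm, hab.1, hab.2, hblk, ?_, ?_⟩
  · obtain ⟨a, ha⟩ := h.o_ex hP
    refine ⟨a, fun hm' => ?_⟩
    rw [hol a hm', pow_two] at ha
    have := hp.one_lt
    nlinarith
  · intro d hd x hx hxd
    obtain ⟨r, hr, e⟩ := (triA_mem R d _).1 hxd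
    have h1 : r⁻¹ * x ∈ R := hst d hd _ (P.mul_mem (P.inv_mem (hle hr)) hx) (by rw [mul_smul, ← e, inv_smul_smul])
    simpa using R.mul_mem hr h1
  · intro x hx
    refine ⟨?_, fun a ha => ?_⟩
    · have := K.pow_index_mem ⟨x, hx⟩
      rw [hKi] at this
      exact (hmem _).2 this
    · have hi' : (stabilizer P a).index = p := by rw [triA_idx, hshort a ha]
      have := triA_nrm hp hP.pg _ hi'
      have := (stabilizer P a).pow_index_mem ⟨x, hx⟩
      rw [hi', mem_stabilizer_iff] at this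
      exact this

/-- The numbers: `s = 2q - p` short orbits. -/
theorem Hyp.tri_num (h : Hyp G Ω p q) {P R : Subgroup G} {c : Ω} (hL : Lng p P R c) :
    p < 2 * q ∧ Nat.card {a : Ω // a ∉ orbit P c} = (2 * q - p) * p ∧
      ∃ t : Finset Ω, t.card = 2 * q - p ∧ (∀ a ∈ t, a ∉ orbit P c) ∧ ∀ a : Ω, a ∉ orbit P c → ∃ b ∈ t, a ∈ orbit P b := by
  classical
  have hp := h.hp
  have := Fintype.ofFinite Ω
  have hsum : p ^ 2 + Nat.card {a : Ω // a ∉ orbit P c} = 2 * p * q := by
    rw [← hL.long, ← h.card, ← Nat.card_sum]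
    exact Nat.card_congr (Equiv.sumCompl (· ∈ orbit P c))
  have hpos : 0 < Nat.card {a : Ω // a ∉ orbit P c} := by
    obtain ⟨a, ha⟩ := hL.ex
    have : Nonempty {a : Ω // a ∉ orbit P c} := ⟨⟨a, ha⟩⟩
    exact Nat.card_pos
  have hlt : p < 2 * q := by
    have := hp.pos
    by_contra hh
    push Not at hh
    nlinarith
  have hS : Nat.card {a : Ω // a ∉ orbit P c} = (2 * q - p) * p := by
    obtain ⟨s, hs⟩ := Nat.exists_eq_add_of_lt hlt
    have e : 2 * q - p = s + 1 := by omega
    rw [e]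
    have : 2 * p * q = p * (p + s + 1) := by rw [← hs]; ring
    nlinarith
  refine ⟨hlt, hS, ?_⟩
  let f : Ω → Ω := fun a => Quotient.out (Quotient.mk (orbitRel P Ω) a)
  have hf : ∀ a, f a ∈ orbit P a := fun a => by
    have := Quotient.mk_out (s := orbitRel P Ω) a
    exact this
  have hff : ∀ a b, f a = f b ↔ a ∈ orbit P b := fun a b => by
    constructor
    · intro e
      have := Quotient.out_injective e
      exact Quotient.exact this
    · intro e
      show Quotient.out _ = Quotient.out _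
      congr 1
      exact Quotient.sound e
  have hout : ∀ a b, a ∈ orbit P b → b ∉ orbit P c → a ∉ orbit P c := fun a b hab hb ha => by
    apply hb
    rw [← orbit_eq_iff.2 ha, orbit_eq_iff.2 hab]
    exact mem_orbit_self b
  let S : Finset Ω := Finset.univ.filter (fun a => a ∉ orbit P c)
  have hSc : S.card = (2 * q - p) * p := by
    rw [← hS, Nat.card_eq_fintype_card, Fintype.card_subtype]
  refine ⟨S.image f, ?_, ?_, ?_⟩
  · have h1 := Finset.card_eq_sum_card_image f S
    rw [Finset.sum_congr rfl (g := fun _ => p), Finset.sum_const, smul_eq_mul, hSc] at h1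
    · exact (Nat.eq_of_mul_eq_mul_right hp.pos h1).symm
    · intro b hb
      obtain ⟨a, ha, rfl⟩ := Finset.mem_image.1 hb
      have ha' : a ∉ orbit P c := (Finset.mem_filter.1 ha).2
      rw [← hL.short a ha']
      unfold ol
      rw [Nat.card_eq_fintype_card, Fintype.card_subtype]
      congr 1
      ext x
      simp only [S, Finset.mem_filter, Finset.mem_univ, true_and, hff]
      exact ⟨fun hx => hx.2, fun hx => ⟨hout x a hx ha', hx⟩⟩
  · intro b hb
    obtain ⟨a, ha, rfl⟩ := Finset.mem_image.1 hb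
    exact hout _ a (hf a) (Finset.mem_filter.1 ha).2
  · intro a ha
    refine ⟨f a, Finset.mem_image_of_mem f (Finset.mem_filter.2 ⟨Finset.mem_univ _, ha⟩), ?_⟩
    rw [orbit_eq_iff.2 (hf a)]
    exact mem_orbit_self a

/-- The `p` blocks of the long orbit. -/
theorem Hyp.tri_blk (h : Hyp G Ω p q) {P R : Subgroup G} (hP : Syl p P) {c : Ω} (hL : Lng p P R c) (x : G) (hx : x ∈ P)
    (hxR : x ∉ R) (d : Ω) (hd : d ∈ orbit P c) :
    (∀ e ∈ orbit P c, ∃ i < p, e ∈ orbit R (x ^ i • d)) ∧ ∀ i : ℕ, x ^ i • d ∈ orbit R d ↔ p ∣ i := by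
  have hp := h.hp
  have := Fact.mk hp
  have hKi : (R.subgroupOf P).index = p := by
    have h1 := (R.subgroupOf P).index_mul_card
    rw [Nat.card_congr (Subgroup.subgroupOfEquivOfLe hL.le).toEquiv, hL.idx] at h1
    exact Nat.eq_of_mul_eq_mul_right Nat.card_pos h1
  have := triA_nrm hp hP.pg _ hKi
  have hcq : Nat.card (P ⧸ R.subgroupOf P) = p := hKi
  have hx1 : ((⟨x, hx⟩ : P) : P ⧸ R.subgroupOf P) ≠ 1 := fun e =>
    hxR (Subgroup.mem_subgroupOf.1 ((QuotientGroup.eq_one_iff _).1 e))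
  have hord : orderOf ((⟨x, hx⟩ : P) : P ⧸ R.subgroupOf P) = p := by
    apply orderOf_eq_prime _ hx1
    rw [← hcq]
    exact pow_card_eq_one'
  constructor
  · intro e he
    rw [← orbit_eq_iff.2 hd] at he
    obtain ⟨y, hy, rfl⟩ := (triA_mem P d e).1 he
    obtain ⟨n, hn⟩ := mem_powers_of_prime_card hcq hx1 (g' := ((⟨y, hy⟩ : P) : P ⧸ R.subgroupOf P))
    refine ⟨n % p, Nat.mod_lt _ hp.pos, (triA_mem R _ _).2 ⟨y * (x ^ (n % p))⁻¹, ?_, by rw [mul_smul, inv_smul_smul]⟩⟩
    have h1 : (((⟨y, hy⟩ : P) * ((⟨x, hx⟩ : P) ^ (n % p))⁻¹ : P) : P ⧸ R.subgroupOf P) = 1 := by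
      rw [QuotientGroup.mk_mul, QuotientGroup.mk_inv, QuotientGroup.mk_pow, ← hn, mul_inv_eq_one]
      show _ ^ n = _
      conv_rhs => rw [← hord]
      exact (pow_mod_orderOf _ _).symm
    exact Subgroup.mem_subgroupOf.1 ((QuotientGroup.eq_one_iff _).1 h1)
  · intro i
    constructor
    · intro hi
      have h1 := hL.mv d hd _ (P.pow_mem hx i) hi
      rw [← hord, orderOf_dvd_iff_pow_eq_one, ← QuotientGroup.mk_pow, QuotientGroup.eq_one_iff]
      exact Subgroup.mem_subgroupOf.2 h1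
    · rintro ⟨j, rfl⟩
      refine (triA_mem R _ _).2 ⟨_, ?_, rfl⟩
      rw [pow_mul]
      exact R.pow_mem (hL.pw x hx).1 j

end Cfsg.Agent.EL
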