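import Mathlib
import Cfsg.Agent.EL.Defs

set_option autoImplicit false

namespace Cfsg.Agent.EL

open MulAction

/-- At most `p` sets of size at most `|S| / p` that cover `S` are disjoint. -/
theorem cov_disj {α ι : Type*} [Finite α] {p : ℕ} (hp : 0 < p) (S : Set α) (T : ι → Set α) (t : Finset ι)
    (hc : ∀ x ∈ S, ∃ i ∈ t, x ∈ T i) (hT : ∀ i ∈ t, p * (T i).ncard ≤ S.ncard) (ht : t.card ≤ p) {i j : ι}
    (hi : i ∈ t) (hj : j ∈ t) (hij : i ≠ j) {x : α} (xi : x ∈ T i) (xj : x ∈ T j) : False := by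
  classical
  have h1 : S.ncard ≤ ∑ k ∈ t, (if k = j then T j \ {x} else T k).ncard := by
    refine le_trans (Set.ncard_le_ncard (t := ⋃ k ∈ t, if k = j then T j \ {x} else T k) fun y hy => ?_)
      (Finset.set_ncard_biUnion_le _ _)
    simp only [Set.mem_iUnion]
    by_cases e : y = x
    · exact ⟨i, hi, by rw [if_neg hij, e]; exact xi⟩
    · obtain ⟨k, hk, h⟩ := hc y hy
      refine ⟨k, hk, ?_⟩
      split_ifs with e'
      · exact ⟨e' ▸ h, e⟩
      · exact h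
  have h2 : ∑ k ∈ t, (if k = j then T j \ {x} else T k).ncard < ∑ k ∈ t, (T k).ncard := by
    refine Finset.sum_lt_sum (fun k _ => ?_) ⟨j, hj, ?_⟩
    · split_ifs with e
      · rw [e]; exact Set.ncard_le_ncard Set.diff_subset
      · exact le_rfl
    · rw [if_pos rfl]
      exact Set.ncard_diff_singleton_lt_of_mem xj
  have h3 : p * ∑ k ∈ t, (T k).ncard ≤ p * S.ncard := by
    rw [Finset.mul_sum]
    refine (Finset.sum_le_card_nsmul _ _ _ hT).trans ?_
    rw [smul_eq_mul]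
    exact Nat.mul_le_mul_right _ ht
  exact absurd (Nat.le_of_mul_le_mul_left h3 hp) (not_le.2 (h1.trans_lt h2))

theorem cov_idx {A : Type*} [Group A] [Finite A] {p : ℕ} (hp : p.Prime) (hA : IsPGroup p A) {H : Subgroup A}
    (hH : H ≠ ⊤) : p * Nat.card H ≤ Nat.card A := by
  haveI := Fact.mk hp
  obtain ⟨n, hn⟩ := hA.index H
  have : n ≠ 0 := by
    rintro rfl
    exact hH (Subgroup.index_eq_one.1 hn)
  rw [← H.index_mul_card, hn]
  exact Nat.mul_le_mul_right _ (Nat.le_self_pow this p)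

/-- A finite `p`-group is not the union of `p` proper subgroups. -/
theorem cov {A : Type*} [Group A] [Finite A] {p : ℕ} (hp : p.Prime) (hA : IsPGroup p A) {ι : Type*} (t : Finset ι)
    (H : ι → Subgroup A) (hH : ∀ i ∈ t, H i ≠ ⊤) (ht : t.card ≤ p) : ∃ x : A, ∀ i ∈ t, x ∉ H i := by
  by_contra hc
  push Not at hc
  obtain ⟨i, hi, -⟩ := hc 1
  refine hH i hi (eq_top_iff.2 fun x _ => ?_)
  obtain ⟨j, hj, hx⟩ := hc x
  by_cases e : i = j
  · exact e ▸ hx
  · exact (cov_disj hp.pos Set.univ (fun k => (H k : Set A)) t (fun y _ => hc y)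
      (fun k hk => by rw [Set.ncard_univ]; exact cov_idx hp hA (hH k hk)) ht hi hj e (one_mem _) (one_mem _)).elim

theorem cov_diff {A : Type*} [Group A] [Finite A] {p : ℕ} {H : Subgroup A} (hH : p * Nat.card H ≤ Nat.card A)
    (H₀ : Subgroup A) : p * ((H : Set A) \ H₀).ncard ≤ (Set.univ \ (H₀ : Set A)).ncard := by
  have e1 : Nat.card ↥(H ⊓ H₀) + ((H : Set A) \ H₀).ncard = Nat.card H :=
    Set.ncard_inter_add_ncard_diff_eq_ncard (H : Set A) H₀
  have e2 : Nat.card H₀ + (Set.univ \ (H₀ : Set A)).ncard = Nat.card A := by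
    have := Set.ncard_inter_add_ncard_diff_eq_ncard Set.univ (H₀ : Set A)
    rwa [Set.univ_inter, Set.ncard_univ] at this
  have e3 := H₀.index_mul_card
  have e4 : Nat.card H ≤ H₀.index * Nat.card ↥(H ⊓ H₀) := by
    refine Nat.le_of_mul_le_mul_left ?_ (Nat.pos_of_ne_zero H.index_ne_zero_of_finite)
    rw [H.index_mul_card, ← (H ⊓ H₀).index_mul_card, ← mul_assoc]
    exact Nat.mul_le_mul_right _ Subgroup.index_inf_le
  obtain ⟨m, hm⟩ := Nat.exists_eq_succ_of_ne_zero H₀.index_ne_zero_of_finite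
  rw [hm] at e3 e4
  generalize ((H : Set A) \ H₀).ncard = u at *
  generalize (Set.univ \ (H₀ : Set A)).ncard = s at *
  generalize Nat.card ↥(H ⊓ H₀) = k at *
  generalize Nat.card H = a at *
  generalize Nat.card H₀ = h at *
  generalize Nat.card A = n at *
  refine Nat.le_of_mul_le_mul_left ?_ (Nat.succ_pos m)
  have k1 : (m + 1) * u ≤ m * a := by nlinarith
  have k2 : m * n = (m + 1) * s := by nlinarith
  calc (m + 1) * (p * u) = p * ((m + 1) * u) := by ring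
    _ ≤ p * (m * a) := Nat.mul_le_mul_left _ k1
    _ = m * (p * a) := by ring
    _ ≤ m * n := Nat.mul_le_mul_left _ hH
    _ = _ := k2

/-- A cover by `p + 1` proper subgroups is a pencil. -/
theorem pencil {A : Type*} [Group A] [Finite A] {p : ℕ} (hp : p.Prime) (hA : IsPGroup p A) {ι : Type*} (t : Finset ι)
    (H : ι → Subgroup A) (hH : ∀ i ∈ t, H i ≠ ⊤) (ht : t.card ≤ p) (H₀ : Subgroup A) (h₀ : H₀ ≠ ⊤)
    (hc : ∀ x : A, x ∈ H₀ ∨ ∃ i ∈ t, x ∈ H i) : ∀ i ∈ t, ∀ j ∈ t, i ≠ j → H i ⊓ H j ≤ H₀ := by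
  intro i hi j hj e x hx
  by_contra h
  refine cov_disj hp.pos (Set.univ \ (H₀ : Set A)) (fun k => (H k : Set A) \ H₀) t (fun y hy => ?_)
    (fun k hk => cov_diff (cov_idx hp hA (hH k hk)) H₀) ht hi hj e (x := x) ⟨hx.1, h⟩ ⟨hx.2, h⟩
  obtain ⟨k, hk, h'⟩ := (hc y).resolve_left hy.2
  exact ⟨k, hk, h', hy.2⟩

/-- The same for subgroups of a subgroup. -/
theorem cov' {G : Type*} [Group G] [Finite G] {p : ℕ} (hp : p.Prime) (A : Subgroup G) (hA : IsPGroup p A) {ι : Type*}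
    (t : Finset ι) (H : ι → Subgroup G) (hH : ∀ i ∈ t, ¬ A ≤ H i) (ht : t.card ≤ p) : ∃ x ∈ A, ∀ i ∈ t, x ∉ H i := by
  obtain ⟨x, hx⟩ := cov hp hA t (fun i => (H i).subgroupOf A)
    (fun i hi e => hH i hi (Subgroup.subgroupOf_eq_top.1 e)) ht
  exact ⟨x, x.2, hx⟩

end Cfsg.Agent.EL
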