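/-
Transitive groups of degree `2pq` in which every element of prime order fixes a point: the transfer
of `P` into `R`.
-/
import Mathlib
import Cfsg.Agent.EL.Defs
import Cfsg.Agent.EL.Orb
import Cfsg.Agent.EL.TriA

set_option autoImplicit false

namespace Cfsg.Agent.EL

open MulAction

variable {G Ω : Type*} [Group G] [Finite G] [MulAction G Ω] [FaithfulSMul G Ω] [Finite Ω] {p q : ℕ}

namespace TriV

theorem pow_swap {Q : Type*} [Group Q] {a b c : Q} (hc : b * a = a * b * c) (hb : Commute c b)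
    (n : ℕ) : b ^ n * a = a * b ^ n * c ^ n := by
  induction n with
  | zero => simp
  | succ n ih =>
    rw [pow_succ' b, mul_assoc, ih, ← mul_assoc, ← mul_assoc, hc, mul_assoc (a * b) c,
      (hb.pow_right n).eq, pow_succ' c]
    simp only [mul_assoc]

theorem cls2 {Q : Type*} [Group Q] {a b c : Q} (hc : b * a = a * b * c) (ha : Commute c a)
    (hb : Commute c b) (n : ℕ) : (a * b) ^ n = a ^ n * b ^ n * c ^ n.choose 2 := by
  induction n with
  | zero => simp
  | succ n ih =>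
    have h1 : c ^ n.choose 2 * (a * b) = a * b * c ^ n.choose 2 :=
      ((ha.mul_right hb).pow_left _).eq
    have h2 : c ^ n * b = b * c ^ n := (hb.pow_left n).eq
    have h3 : (n + 1).choose 2 = n + n.choose 2 := by
      rw [Nat.choose_succ_succ' n 1, Nat.choose_one_right]
    rw [pow_succ, ih, mul_assoc, h1, h3, pow_add c, pow_succ a n, pow_succ b n]
    calc a ^ n * b ^ n * (a * b * c ^ n.choose 2)
        = a ^ n * (b ^ n * a) * b * c ^ n.choose 2 := by simp only [mul_assoc]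
      _ = a ^ n * a * b ^ n * (c ^ n * b) * c ^ n.choose 2 := by
        rw [pow_swap hc hb]; simp only [mul_assoc]
      _ = _ := by rw [h2]; simp only [mul_assoc]

theorem comm_of_le {Q : Type*} [Group Q] [Finite Q] (hp : p.Prime) (hQ : IsPGroup p Q)
    (hc : Nat.card Q < p ^ 3) (a b : Q) : a * b = b * a := by
  haveI := Fact.mk hp
  obtain ⟨n, hn⟩ := hQ.exists_card_eq
  rw [hn] at hc
  have h3 : n < 3 := (Nat.pow_lt_pow_iff_right hp.one_lt).1 hc
  interval_cases n
  · haveI : Subsingleton Q := (Nat.card_eq_one_iff_unique.1 (by simpa using hn)).1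
    exact Subsingleton.elim _ _
  · haveI : IsCyclic Q := isCyclic_of_prime_card (p := p) (by simpa using hn)
    exact IsCyclic.commutative.is_comm.comm a b
  · exact IsPGroup.commutative_of_card_eq_prime_sq hn a b

theorem central {Q : Type*} [Group Q] [Finite Q] (hp : p.Prime) (hQ : IsPGroup p Q)
    (hc : Nat.card Q ≤ p ^ 3) (a b : Q) : b⁻¹ * a⁻¹ * b * a ∈ Subgroup.center Q := by
  haveI := Fact.mk hp
  rcases subsingleton_or_nontrivial Q with h | h
  · rw [Subsingleton.elim (b⁻¹ * a⁻¹ * b * a) 1]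
    exact Subgroup.one_mem _
  · haveI := hQ.center_nontrivial
    have h1 : 1 < Nat.card (Subgroup.center Q) := Finite.one_lt_card
    have h2 := Subgroup.card_eq_card_quotient_mul_card_subgroup (Subgroup.center Q)
    have h3 : 0 < Nat.card (Q ⧸ Subgroup.center Q) := Nat.card_pos
    have h4 : Nat.card (Q ⧸ Subgroup.center Q) < p ^ 3 := by nlinarith
    rw [← QuotientGroup.eq_one_iff]
    have := comm_of_le hp (hQ.to_quotient _) h4 (b : Q ⧸ Subgroup.center Q) a
    simp only [QuotientGroup.mk_mul, QuotientGroup.mk_inv]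
    rw [mul_assoc, this]
    group

theorem dec (h : Hyp G Ω p q) {P R : Subgroup G} (hP : Syl p P) {c : Ω} (hL : Lng p P R c) {x : G}
    (hx : x ∈ P) (hxR : x ∉ R) {y : G} (hy : y ∈ P) : ∃ i : ℕ, ∃ r ∈ R, y = x ^ i * r := by
  obtain ⟨i, -, ⟨r, hr⟩, e⟩ :=
    (h.tri_blk hP hL x hx hxR c (mem_orbit_self c)).1 (y • c) ⟨⟨y, hy⟩, rfl⟩
  have e' : r • x ^ i • c = y • c := e
  have h1 : (x ^ i)⁻¹ * r⁻¹ * y ∈ R := by
    refine hL.mv c (mem_orbit_self c) _
      (P.mul_mem (P.mul_mem (P.inv_mem (P.pow_mem hx i)) (P.inv_mem (hL.le hr))) hy) ?_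
    rw [mul_smul, mul_smul, ← e', inv_smul_smul, inv_smul_smul]
    exact mem_orbit_self c
  refine ⟨i, _, R.mul_mem (hL.nrm _ (P.inv_mem (P.pow_mem hx i)) r hr) h1, ?_⟩
  group

theorem pw_comm (h : Hyp G Ω p q) {P R : Subgroup G} (hP : Syl p P) {c : Ω} (hL : Lng p P R c)
    {x : G} (hx : x ∈ P) (hxR : x ∉ R) {y : G} (hy : y ∈ P) : Commute (x ^ p) y := by
  obtain ⟨i, r, hr, rfl⟩ := dec h hP hL hx hxR hy
  exact (Commute.pow_pow_self x p i).mul_right (hL.comm _ (hL.pw x hx).1 r hr)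

theorem exists_V (h : Hyp G Ω p q) {P R : Subgroup G} (hP : Syl p P) {c : Ω} (hL : Lng p P R c) :
    ∃ V : P →* G, ∀ x : P, (x : G) ∉ R → V x = (x : G) ^ p := by
  letI : CommGroup R :=
    { (inferInstance : Group R) with
      mul_comm := fun a b => Subtype.ext (hL.comm _ a.2 _ b.2) }
  let φ : R.subgroupOf P →* R := (Subgroup.subgroupOfEquivOfLe hL.le).toMonoidHom
  have hi : (R.subgroupOf P).index = p := by
    have h1 := (R.subgroupOf P).index_mul_card
    rw [Nat.card_congr (Subgroup.subgroupOfEquivOfLe hL.le).toEquiv, hL.idx] at h1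
    exact Nat.eq_of_mul_eq_mul_right Nat.card_pos h1
  refine ⟨R.subtype.comp (MonoidHom.transfer φ), fun x hx => ?_⟩
  have key : ∀ (k : ℕ) (g : P), g⁻¹ * x ^ k * g ∈ R.subgroupOf P → g⁻¹ * x ^ k * g = x ^ k := by
    intro k g hk
    have h1 : (x : G) ^ k ∈ R := by
      have := hL.nrm _ g.2 _ (Subgroup.mem_subgroupOf.1 hk)
      simpa [mul_assoc] using this
    obtain ⟨m, rfl⟩ := ((h.tri_blk hP hL x x.2 hx c (mem_orbit_self c)).2 k).1 ⟨⟨_, h1⟩, rfl⟩
    apply Subtype.ext
    have h2 := ((pw_comm h hP hL x.2 hx g.2).pow_left m).eq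
    simp only [Subgroup.coe_mul, Subgroup.coe_inv, Subgroup.coe_pow]
    rw [pow_mul, mul_assoc, h2, inv_mul_cancel_left]
  rw [MonoidHom.comp_apply, MonoidHom.transfer_eq_pow φ x key]
  show ((x ^ (R.subgroupOf P).index : P) : G) = _
  rw [hi, Subgroup.coe_pow]

end TriV

/-- The transfer of `P` into `R`: its kernel `K` has index at most `p` and picks out the elements of order `p`. -/
theorem Hyp.triV (h : Hyp G Ω p q) {P R : Subgroup G} (hP : Syl p P) {c : Ω} (hL : Lng p P R c) :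
    ∃ K : Subgroup G, K ≤ P ∧ Nat.card P ≤ p * Nat.card K ∧ (∀ x ∈ P, x ∉ R → (x ∈ K ↔ x ^ p = 1)) ∧
      ∀ x ∈ P, x ∉ R → ∀ y ∈ R, y ∈ K → (x * y) ^ p = x ^ p := by
  obtain ⟨V, hV⟩ := TriV.exists_V h hP hL
  have mem : ∀ x (hx : x ∈ P), x ∈ V.ker.map P.subtype ↔ V ⟨x, hx⟩ = 1 := by
    intro x hx
    constructor
    · rintro ⟨y, hy, rfl⟩
      exact hy
    · intro e
      exact ⟨⟨x, hx⟩, e, rfl⟩
  have out : ∀ x, x ∉ R → ∀ y ∈ R, x * y ∉ R := fun x hx y hy e =>
    hx ((R.mul_mem_cancel_right hy).1 e)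
  refine ⟨V.ker.map P.subtype, Subgroup.map_subtype_le _, ?_, fun x hx hxR => ?_,
    fun x hx hxR y hy hyK => ?_⟩
  · let Z : Subgroup G := R ⊓ Subgroup.centralizer (P : Set G) ⊓ fixingSubgroup G (orbit P c)ᶜ
    have h1 : ∀ x : P, (x : G) ∉ R → V x ∈ Z := by
      intro x hx
      rw [hV x hx]
      refine ⟨⟨(hL.pw _ x.2).1, fun y hy => (TriV.pw_comm h hP hL x.2 hx hy).eq.symm⟩, ?_⟩
      exact (mem_fixingSubgroup_iff G).2 fun a ha => (hL.pw _ x.2).2 a ha
    obtain ⟨x0, hx0, hx0R⟩ : ∃ x ∈ P, x ∉ R := by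
      by_contra hn
      push Not at hn
      have e := hL.idx
      rw [le_antisymm hn hL.le] at e
      have : 0 < Nat.card R := Nat.card_pos
      have := h.hp.one_lt
      nlinarith
    have h2 : V.range ≤ Z := by
      rintro _ ⟨y, rfl⟩
      by_cases hy : (y : G) ∈ R
      · have e : V y = (V ⟨x0, hx0⟩)⁻¹ * V (⟨x0, hx0⟩ * y) := by
          rw [map_mul, inv_mul_cancel_left]
        rw [e]
        exact Z.mul_mem (Z.inv_mem (h1 _ hx0R)) (h1 _ (out _ hx0R _ hy))
      · exact h1 y hy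
    have h3 : ∀ z ∈ Z, z • c = c → z = 1 := by
      intro z hz e
      apply FaithfulSMul.eq_of_smul_eq_smul (α := Ω)
      intro a
      rw [one_smul]
      by_cases ha : a ∈ orbit P c
      · obtain ⟨g, rfl⟩ := ha
        show z • (g : G) • c = (g : G) • c
        rw [← mul_smul, ← hz.1.2 g g.2, mul_smul, e]
      · exact (mem_fixingSubgroup_iff G).1 hz.2 a ha
    have h4 : Nat.card Z ≤ p := by
      rw [← hL.blk c (mem_orbit_self c)]
      refine Nat.card_le_card_of_injective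
        (fun z : Z => (⟨(z : G) • c, ⟨⟨z, z.2.1.1⟩, rfl⟩⟩ : orbit R c)) fun z w e => ?_
      have e' : (z : G) • c = (w : G) • c := congrArg Subtype.val e
      have := h3 _ (w⁻¹ * z).2 (by
        rw [Subgroup.coe_mul, Subgroup.coe_inv, mul_smul, e', inv_smul_smul])
      exact (inv_mul_eq_one.1 (Subtype.ext this : w⁻¹ * z = 1)).symm
    have h5 := V.ker.index_mul_card
    rw [Subgroup.index_ker] at h5
    rw [Subgroup.card_subtype, ← h5]
    exact Nat.mul_le_mul_right _ ((Subgroup.card_le_of_le h2).trans h4)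
  · rw [mem x hx, hV _ hxR]
  · have e := map_mul V ⟨x, hx⟩ ⟨y, hL.le hy⟩
    rw [(mem y (hL.le hy)).1 hyK, mul_one, hV ⟨x, hx⟩ hxR, hV _ (out x hxR y hy)] at e
    exact e

/-- If the kernel of `P` on the long orbit has index at most `p³` and some `x ∉ R` has order `p`, then `P` has exponent `p`. -/
theorem Hyp.triE (h : Hyp G Ω p q) {P R : Subgroup G} (hP : Syl p P) {c : Ω} (hL : Lng p P R c) (W : Subgroup G)
    (hWP : W ≤ P) (hW : ∀ y ∈ W, ∀ d ∈ orbit P c, y • d = d) (hc : Nat.card P ≤ p ^ 3 * Nat.card W) (x : G) (hx : x ∈ P)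
    (hxR : x ∉ R) (hxp : x ^ p = 1) : ∀ y ∈ P, y ^ p = 1 := by
  intro y hy
  obtain ⟨i, r, hr, rfl⟩ := TriV.dec h hP hL hx hxR hy
  let f : P →* Equiv.Perm (orbit P c) := toPermHom P (orbit P c)
  let F := f.rangeRestrict
  have hQ : IsPGroup p f.range := hP.pg.of_surjective F f.rangeRestrict_surjective
  have hcard : Nat.card f.range ≤ p ^ 3 := by
    have h1 := f.ker.index_mul_card
    rw [Subgroup.index_ker] at h1
    have h2 : W.subgroupOf P ≤ f.ker := by
      intro w hw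
      ext d
      exact hW _ (Subgroup.mem_subgroupOf.1 hw) d d.2
    have h3 := Subgroup.card_le_of_le h2
    rw [Nat.card_congr (Subgroup.subgroupOfEquivOfLe hWP).toEquiv] at h3
    have h4 : 0 < Nat.card W := Nat.card_pos
    by_contra hn
    push Not at hn
    nlinarith
  set a : P := ⟨x, hx⟩ ^ i with ha
  set b : P := ⟨r, hL.le hr⟩ with hb
  have hz := TriV.central h.hp hQ hcard (F a) (F b)
  have hcls := TriV.cls2 (a := F a) (b := F b) (c := (F b)⁻¹ * (F a)⁻¹ * F b * F a) (by group)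
    (Subgroup.mem_center_iff.1 hz _).symm (Subgroup.mem_center_iff.1 hz _).symm p
  have e1 : a ^ p = 1 := by
    apply Subtype.ext
    show (x ^ i) ^ p = 1
    rw [← pow_mul, mul_comm, pow_mul, hxp, one_pow]
  have e2 : b ^ p = 1 := Subtype.ext (hL.exp r hr)
  have e3 : (b⁻¹ * a⁻¹ * b * a) ^ p = 1 := by
    apply Subtype.ext
    refine hL.exp _ ?_
    have := R.mul_mem (R.inv_mem hr) (hL.nrm _ (P.inv_mem a.2) r hr)
    simpa [hb, mul_assoc] using this
  obtain ⟨m, hm⟩ := h.hp.dvd_choose_self (k := 2) two_ne_zero (by have := h.q3; have := h.qp; omega)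
  rw [hm, pow_mul, ← map_inv, ← map_inv, ← map_mul, ← map_mul, ← map_mul, ← map_mul, ← map_pow,
    ← map_pow, ← map_pow, ← map_pow, e1, e2, e3, map_one, one_pow, mul_one, mul_one] at hcls
  have hf : f ((a * b) ^ p) = 1 := congrArg Subtype.val hcls
  apply FaithfulSMul.eq_of_smul_eq_smul (α := Ω)
  intro d
  rw [one_smul]
  by_cases hd : d ∈ orbit P c
  · exact congrArg Subtype.val (Equiv.congr_fun hf ⟨d, hd⟩)
  · exact (hL.pw _ hy).2 d hd

end Cfsg.Agent.EL
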