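/-
All elements of order `p` of the Sylow subgroup `P` lie in the block stabiliser `R`.
-/
import Mathlib
import Cfsg.Agent.EL.Defs
import Cfsg.Agent.EL.Cov
import Cfsg.Agent.EL.Orb
import Cfsg.Agent.EL.TriA
import Cfsg.Agent.EL.TriV

set_option autoImplicit false

namespace Cfsg.Agent.EL

open MulAction

section aux

variable {G Ω : Type*} [Group G] [MulAction G Ω]

theorem triB_mem {A : Subgroup G} {a b : Ω} : b ∈ orbit A a ↔ ∃ y ∈ A, y • a = b := by
  constructor
  · rintro ⟨y, hy⟩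
    exact ⟨y, y.2, hy⟩
  · rintro ⟨y, hy, e⟩
    exact ⟨⟨y, hy⟩, e⟩

theorem triB_os (A : Subgroup G) (a : Ω) :
    Nat.card A = ol A a * Nat.card ↥(A ⊓ stabilizer G a) := by
  have h1 := Nat.card_congr (orbitProdStabilizerEquivGroup A a)
  rw [Nat.card_prod] at h1
  have h2 : (stabilizer A a).map A.subtype = A ⊓ stabilizer G a := by
    ext y
    constructor
    · rintro ⟨z, hz, rfl⟩
      exact ⟨z.2, hz⟩
    · rintro ⟨h1, h2⟩
      exact ⟨⟨y, h1⟩, h2, rfl⟩
  rw [← h1, ← h2, Subgroup.card_map_of_injective A.subtype_injective]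

theorem triB_mono [Finite Ω] {A B : Subgroup G} (hAB : A ≤ B) (a : Ω) : ol A a ≤ ol B a := by
  refine Nat.card_mono (Set.toFinite _) fun b hb => ?_
  obtain ⟨y, hy, e⟩ := triB_mem.1 hb
  exact triB_mem.2 ⟨y, hAB hy, e⟩

theorem triB_one {A : Subgroup G} {a : Ω} (hA : A ≤ stabilizer G a) : ol A a = 1 := by
  have : orbit A a = {a} := by
    ext b
    rw [triB_mem, Set.mem_singleton_iff]
    constructor
    · rintro ⟨y, hy, rfl⟩
      exact hA hy
    · rintro rfl
      exact ⟨1, A.one_mem, one_smul _ _⟩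
  unfold ol
  rw [this]
  simp

theorem triB_two {A B C : Subgroup G} (hA : ∀ y ∈ A, y ∈ B ∨ y ∈ C) : A ≤ B ∨ A ≤ C := by
  by_contra hn
  push Not at hn
  obtain ⟨h1, h2⟩ := hn
  obtain ⟨y, hy, hyB⟩ := SetLike.not_le_iff_exists.1 h1
  obtain ⟨z, hz, hzC⟩ := SetLike.not_le_iff_exists.1 h2
  have hyC : y ∈ C := (hA y hy).resolve_left hyB
  have hzB : z ∈ B := (hA z hz).resolve_right hzC
  rcases hA (y * z) (A.mul_mem hy hz) with h | h
  · exact hyB ((B.mul_mem_cancel_right hzB).1 h)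
  · exact hzC ((C.mul_mem_cancel_left hyC).1 h)

end aux

variable {G Ω : Type*} [Group G] [Finite G] [MulAction G Ω] [FaithfulSMul G Ω] [Finite Ω] {p q : ℕ}

omit [Finite G] [FaithfulSMul G Ω] [Finite Ω] in
theorem Hyp.triB_fix (h : Hyp G Ω p q) {y : G} (hy : y ≠ 1) (hyp : y ^ p = 1) : ∃ ω : Ω, y • ω = ω := by
  haveI := Fact.mk h.hp
  exact h.elu y (by rw [orderOf_eq_prime hyp hy]; exact h.hp)

/-- The kernel of the transfer is the stabiliser of a short point. -/
theorem Hyp.triB_K (h : Hyp G Ω p q) {P R : Subgroup G} (hP : Syl p P) {c : Ω} (hL : Lng p P R c) {K : Subgroup G}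
    (hKP : K ≤ P) (hK : ∀ x ∈ P, x ∉ R → (x ∈ K ↔ x ^ p = 1)) (hKR : ¬ K ≤ R) :
    ∃ a : Ω, a ∉ orbit P c ∧ K ≤ stabilizer G a := by
  classical
  obtain ⟨hpq, -, t, ht, hts, htc⟩ := h.tri_num hL
  by_contra hn
  push Not at hn
  have hqp := h.qp
  obtain ⟨x, hxK, hx⟩ := cov' h.hp K (hP.pg.to_le hKP) (Finset.insertNone t)
    (fun o => o.elim R fun b => stabilizer G b) (by
      intro o ho
      cases o with
      | none => exact hKR
      | some b => exact hn b (hts b (Finset.some_mem_insertNone.1 ho)))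
    (by rw [Finset.card_insertNone, ht]; omega)
  have hxR : x ∉ R := hx none Finset.none_mem_insertNone
  have hxP := hKP hxK
  obtain ⟨ω, hω⟩ := h.triB_fix (y := x) (fun e => hxR (by rw [e]; exact R.one_mem)) ((hK x hxP hxR).1 hxK)
  have hωs : ω ∉ orbit P c := fun hm => hxR (hL.mv ω hm x hxP (by rw [hω]; exact mem_orbit_self ω))
  obtain ⟨b, hb, hωb⟩ := htc ω hωs
  have hbω : b ∈ orbit P ω := by
    rw [orbit_eq_iff.2 hωb]
    exact mem_orbit_self b
  exact hx (some b) (Finset.some_mem_insertNone.2 hb)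
    (o_ker h.hp P hP.pg ω (hL.short ω hωs).le x hxP hω b hbω)

/-- An element of `R` fixing all `x ^ i • c` fixes the long orbit. -/
theorem Hyp.triB_all (h : Hyp G Ω p q) {P R : Subgroup G} (hP : Syl p P) {c : Ω} (hL : Lng p P R c) {x : G}
    (hx : x ∈ P) (hxR : x ∉ R) {y : G} (hy : y ∈ R) (hf : ∀ i < p, y • x ^ i • c = x ^ i • c) :
    ∀ d ∈ orbit P c, y • d = d := by
  intro d hd
  obtain ⟨i, hi, hdi⟩ := (h.tri_blk hP hL x hx hxR c (mem_orbit_self c)).1 d hd
  obtain ⟨r, hr, rfl⟩ := triB_mem.1 hdi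
  rw [← mul_smul, hL.comm y hy r hr, mul_smul, hf i hi]

/-- The case where `K` fixes all the short points. -/
theorem Hyp.triB_pen (h : Hyp G Ω p q) {P R : Subgroup G} (hP : Syl p P) {c : Ω} (hL : Lng p P R c) {x : G}
    (hx : x ∈ P) (hxR : x ∉ R) {K : Subgroup G} (hRK : ¬ R ≤ K)
    (hK : ∀ a : Ω, a ∉ orbit P c → P ⊓ stabilizer G a ≤ K) :
    ∀ y ∈ R, y • c = c → y • x • c = x • c → ∀ i < p, y • x ^ i • c = x ^ i • c := by
  classical
  intro y hy h0 h1 k hk
  by_cases hk0 : k = 0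
  · subst hk0
    simpa using h0
  by_cases hk1 : k = 1
  · subst hk1
    simpa using h1
  have hp2 := h.hp.two_le
  have hst : ∀ i : ℕ, (stabilizer G (x ^ i • c)).subgroupOf R ≠ ⊤ := by
    intro i e
    have h1 := triB_one (Subgroup.subgroupOf_eq_top.1 e)
    rw [hL.blk _ (triB_mem.2 ⟨x ^ i, P.pow_mem hx i, rfl⟩)] at h1
    omega
  have key := pencil h.hp (hP.pg.to_le hL.le) (Finset.insertNone ((Finset.range p).erase k))
    (fun o => (o.elim K fun i => stabilizer G (x ^ i • c)).subgroupOf R) (by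
      intro o _
      cases o with
      | none => exact fun e => hRK (Subgroup.subgroupOf_eq_top.1 e)
      | some i => exact hst i)
    (by rw [Finset.card_insertNone, Finset.card_erase_of_mem (Finset.mem_range.2 hk), Finset.card_range]; omega)
    ((stabilizer G (x ^ k • c)).subgroupOf R) (hst k) (by
      rintro ⟨z, hz⟩
      by_cases hz1 : z = 1
      · left
        subst hz1
        exact Subgroup.mem_subgroupOf.2 (Subgroup.one_mem _)
      obtain ⟨ω, hω⟩ := h.triB_fix hz1 (hL.exp z hz)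
      by_cases hm : ω ∈ orbit P c
      · obtain ⟨i, hi, hdi⟩ := (h.tri_blk hP hL x hx hxR c (mem_orbit_self c)).1 ω hm
        obtain ⟨r, hr, rfl⟩ := triB_mem.1 hdi
        rw [← mul_smul, hL.comm z hz r hr, mul_smul, smul_left_cancel_iff] at hω
        by_cases hik : i = k
        · left
          subst hik
          exact Subgroup.mem_subgroupOf.2 hω
        · right
          exact ⟨some i, Finset.some_mem_insertNone.2 (Finset.mem_erase.2 ⟨hik, Finset.mem_range.2 hi⟩),
            Subgroup.mem_subgroupOf.2 hω⟩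
      · right
        exact ⟨none, Finset.none_mem_insertNone, Subgroup.mem_subgroupOf.2 (hK ω hm ⟨hL.le hz, hω⟩)⟩)
    (some 0) (Finset.some_mem_insertNone.2 (Finset.mem_erase.2 ⟨Ne.symm hk0, Finset.mem_range.2 (by omega)⟩))
    (some 1) (Finset.some_mem_insertNone.2 (Finset.mem_erase.2 ⟨Ne.symm hk1, Finset.mem_range.2 (by omega)⟩))
    (by simp)
  have hm : (⟨y, hy⟩ : R) ∈ (stabilizer G (x ^ k • c)).subgroupOf R := by
    apply key
    refine ⟨Subgroup.mem_subgroupOf.2 ?_, Subgroup.mem_subgroupOf.2 ?_⟩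
    · simpa using h0
    · simpa using h1
  exact Subgroup.mem_subgroupOf.1 hm

/-- All elements of order `p` of `P` lie in `R`. -/
theorem Hyp.triB (h : Hyp G Ω p q) {P R : Subgroup G} (hP : Syl p P) {c : Ω} (hL : Lng p P R c) :
    ∀ x ∈ P, x ^ p = 1 → x ∈ R := by
  intro x hx hxp
  by_contra hxR
  have hp2 := h.hp.two_le
  obtain ⟨K, hKP, hKc, hK, -⟩ := h.triV hP hL
  have hxK : x ∈ K := (hK x hx hxR).2 hxp
  obtain ⟨a, ha, hKa⟩ := h.triB_K hP hL hKP hK fun e => hxR (e hxK)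
  have hst : ∀ b : Ω, b ∉ orbit P c → Nat.card ↥(P ⊓ stabilizer G b) = Nat.card R := by
    intro b hb
    have h1 := triB_os P b
    rw [hL.short b hb, hL.idx] at h1
    exact (Nat.eq_of_mul_eq_mul_left (by omega) h1).symm
  have hKe : K = P ⊓ stabilizer G a := by
    refine Subgroup.eq_of_le_of_card_ge (le_inf hKP hKa) ?_
    rw [hst a ha]
    rw [hL.idx] at hKc
    exact Nat.le_of_mul_le_mul_left hKc (by omega)
  have hKR : Nat.card K = Nat.card R := by rw [hKe, hst a ha]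
  have hKx : ∀ y ∈ K, y ^ p = 1 := by
    intro y hy
    by_cases hyR : y ∈ R
    · exact hL.exp y hyR
    · exact (hK y (hKP hy) hyR).1 hy
  have hcj : ∀ b : Ω, ∃ g : G, ∀ u ∈ P ⊓ stabilizer G b, g⁻¹ * u * g ∈ K := by
    intro b
    obtain ⟨g, hg, hg'⟩ := h.o_f2 hP a (hL.short a ha) (P ⊓ stabilizer G b) (hP.pg.to_le inf_le_left) b
      fun u hu => hu.2
    refine ⟨g, fun u hu => ?_⟩
    rw [hKe]
    refine ⟨hg' u hu, ?_⟩
    have hub : u • b = b := hu.2
    change (g⁻¹ * u * g) • a = a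
    rw [mul_smul, mul_smul, hg, hub, ← hg, inv_smul_smul]
  have hor : ∀ b : Ω, P ⊓ stabilizer G b ≤ R ∨ P ⊓ stabilizer G b ≤ K := by
    intro b
    obtain ⟨g, hg⟩ := hcj b
    refine triB_two fun u hu => ?_
    by_cases huR : u ∈ R
    · exact Or.inl huR
    · refine Or.inr ((hK u hu.1 huR).2 ?_)
      have h1 := hKx _ (hg u hu)
      have h2 : (g⁻¹ * u * g) ^ p = g⁻¹ * u ^ p * g := by
        simpa using conj_pow (a := g⁻¹) (b := u) (i := p)
      rw [h2] at h1
      have h3 : u ^ p = g * (g⁻¹ * u ^ p * g) * g⁻¹ := by group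
      rw [h3, h1]
      group
  -- it is enough to find a large subgroup fixing the long orbit
  suffices hW : ∃ W : Subgroup G, W ≤ P ∧ (∀ y ∈ W, ∀ d ∈ orbit P c, y • d = d) ∧
      Nat.card P ≤ p ^ 3 * Nat.card W by
    obtain ⟨W, hWP, hW, hWc⟩ := hW
    have hE := h.triE hP hL W hWP hW hWc x hx hxR hxp
    have hPK : P ≤ K := by
      intro y hy
      by_cases hyR : y ∈ R
      · have h1 : x * y ∈ K := (hK _ (P.mul_mem hx hy) fun e => hxR ((R.mul_mem_cancel_right hyR).1 e)).2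
          (hE _ (P.mul_mem hx hy))
        exact (K.mul_mem_cancel_left hxK).1 h1
      · exact (hK y hy hyR).2 (hE y hy)
    have h1 := triB_one (hPK.trans hKa)
    rw [hL.short a ha] at h1
    omega
  by_cases hall : ∀ b : Ω, b ∉ orbit P c → P ⊓ stabilizer G b ≤ K
  · have hRK : ¬ R ≤ K := fun e => hxR (by rwa [Subgroup.eq_of_le_of_card_ge e hKR.le])
    refine ⟨R ⊓ stabilizer G c ⊓ stabilizer G (x • c), inf_le_left.trans (inf_le_left.trans hL.le),
      fun y hy => h.triB_all hP hL hx hxR hy.1.1 (h.triB_pen hP hL hx hxR hRK hall y hy.1.1 hy.1.2 hy.2), ?_⟩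
    have h1 := triB_os R c
    have h2 := triB_os (R ⊓ stabilizer G c) (x • c)
    have h3 := triB_mono (inf_le_left : R ⊓ stabilizer G c ≤ R) (x • c)
    rw [hL.blk _ (triB_mem.2 ⟨x, hx, rfl⟩)] at h3
    rw [hL.blk c (mem_orbit_self c)] at h1
    rw [hL.idx, h1, h2, ← mul_assoc, ← mul_assoc]
    refine Nat.mul_le_mul_right _ ?_
    rw [pow_succ, pow_two]
    exact Nat.mul_le_mul_left _ h3
  · push Not at hall
    obtain ⟨b, hb, hbK⟩ := hall
    have hbR : P ⊓ stabilizer G b = R :=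
      Subgroup.eq_of_le_of_card_ge ((hor b).resolve_right hbK) (hst b hb).ge
    obtain ⟨g, hg⟩ := hcj b
    rw [hbR] at hg
    have hKm : R.map (MulAut.conj g⁻¹).toMonoidHom = K := by
      refine Subgroup.eq_of_le_of_card_ge ?_ ?_
      · rintro _ ⟨u, hu, rfl⟩
        simpa using hg u hu
      · rw [Subgroup.card_map_of_injective (MulAut.conj g⁻¹).injective, hKR]
    have hKab : ∀ y ∈ K, ∀ z ∈ K, y * z = z * y := by
      rw [← hKm]
      rintro _ ⟨u, hu, rfl⟩ _ ⟨v, hv, rfl⟩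
      rw [← map_mul, ← map_mul, hL.comm u hu v hv]
    refine ⟨K ⊓ stabilizer G c, inf_le_left.trans hKP, fun y hy => ?_, ?_⟩
    · have hyc : y • c = c := hy.2
      refine h.triB_all hP hL hx hxR
        (hL.mv c (mem_orbit_self c) y (hKP hy.1) (by rw [hyc]; exact mem_orbit_self c)) fun i _ => ?_
      rw [← mul_smul, hKab y hy.1 _ (K.pow_mem hxK i), mul_smul, hyc]
    · have h1 := triB_os K c
      have h2 := triB_mono hKP c
      rw [hL.long] at h2
      refine hKc.trans ?_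
      rw [h1, ← mul_assoc]
      refine Nat.mul_le_mul_right _ ?_
      rw [pow_succ']
      exact Nat.mul_le_mul_left _ h2

end Cfsg.Agent.EL
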