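import Mathlib
import Cfsg.Agent.EL.Defs
import Cfsg.Agent.EL.Cov
import Cfsg.Agent.EL.Orb

set_option autoImplicit false

namespace Cfsg.Agent.EL

open MulAction

variable {G Ω : Type*} [Group G] [Finite G] [MulAction G Ω] [FaithfulSMul G Ω] [Finite Ω] {p q : ℕ}

namespace Lq

open scoped Pointwise

omit [FaithfulSMul G Ω] in
/-- In degree `2q` some `q`-element moves all points, and its `q`-th power fixes them. -/
theorem mover [IsPretransitive G Ω] (hq : q.Prime) (q3 : 3 ≤ q) (hX : Nat.card Ω = 2 * q) :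
    ∃ y : G, IsPGroup q (Subgroup.zpowers y) ∧ ∀ x : Ω, y • x ≠ x ∧ y ^ q • x = x := by
  have := Fact.mk hq
  obtain ⟨Q⟩ : Nonempty (Sylow q G) := inferInstance
  have nf : ∀ x : Ω, ¬ (Q : Subgroup G) ≤ stabilizer G x := fun x e => Q.not_dvd_index
    (dvd_trans (by rw [index_stabilizer_of_transitive, hX]; exact dvd_mul_left q 2) (Subgroup.index_dvd_of_le e))
  have len : ∀ x : Ω, (orbit Q x).ncard = q := fun x => by
    obtain ⟨n, hn⟩ := Q.2.card_orbit x
    have h1 : (orbit Q x).ncard ≤ 2 * q := hX ▸ Set.ncard_le_card _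
    rw [Nat.card_coe_set_eq] at hn
    rcases n with _ | _ | n
    · refine absurd (fun g hg => ?_) (nf x)
      obtain ⟨b, hb⟩ := Set.ncard_eq_one.1 hn
      have h2 : (⟨g, hg⟩ : Q) • x ∈ orbit Q x := mem_orbit _ _
      have h3 := mem_orbit_self (M := Q) x
      rw [hb] at h2 h3
      exact h2.trans h3.symm
    · rw [hn, zero_add, pow_one]
    · have : q * q ≤ q ^ (n + 1 + 1) := by
        rw [pow_succ, pow_succ, mul_assoc]
        exact Nat.le_mul_of_pos_left _ (pow_pos hq.pos n)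
      nlinarith
  have idx : ∀ x : Ω, (stabilizer Q x).index = q := fun x => (index_stabilizer Q x).trans (len x)
  have nrm : ∀ x : Ω, (stabilizer Q x).Normal := fun x => by
    refine Subgroup.normal_of_index_eq_minFac_card ?_
    obtain ⟨n, hn⟩ := IsPGroup.iff_card.1 Q.2
    have := (stabilizer Q x).index_dvd_card
    rw [idx, hn] at this
    rw [idx, hn, hq.pow_minFac]
    rintro rfl
    exact hq.one_lt.ne' (Nat.dvd_one.1 this)
  have ker : ∀ (y : Q) (x x' : Ω), x ∈ orbit Q x' → y • x = x → y • x' = x' := by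
    rintro y _ x' ⟨g, rfl⟩ e
    have h3 : g⁻¹ * y * g ∈ stabilizer Q x' := by
      rw [mem_stabilizer_iff, mul_smul, mul_smul, show y • g • x' = g • x' from e, inv_smul_smul]
    simpa [mul_assoc] using (nrm x').conj_mem _ h3 g
  have : Nonempty Ω := (Nat.card_pos_iff.1 (by omega)).1
  obtain ⟨x₁⟩ := this
  have c1 : (orbit Q x₁)ᶜ.ncard = q := by
    have := Set.ncard_add_ncard_compl (orbit Q x₁)
    rw [len, hX] at this
    omega
  obtain ⟨x₂, h2⟩ := Set.nonempty_of_ncard_ne_zero (s := (orbit Q x₁)ᶜ) (by omega)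
  have c2 : orbit Q x₂ = (orbit Q x₁)ᶜ := Set.eq_of_subset_of_ncard_le
    (fun b hb e => h2 (orbit_eq_iff.2 e ▸ mem_orbit_symm.1 hb)) (by rw [c1, len])
  classical
  obtain ⟨y, hy, e⟩ := cov' hq Q Q.2 {x₁, x₂} (stabilizer G) (fun x _ => nf x) (Finset.card_le_two.trans (by omega))
  refine ⟨y, Q.2.to_le (Subgroup.zpowers_le.2 hy), fun x => ⟨fun f => ?_, ?_⟩⟩
  · by_cases k : x ∈ orbit Q x₁
    · exact e x₁ (by simp) (ker ⟨y, hy⟩ x x₁ k f)
    · exact e x₂ (by simp) (ker ⟨y, hy⟩ x x₂ (c2 ▸ k) f)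
  · have := nrm x
    have := (stabilizer Q x).pow_index_mem ⟨y, hy⟩
    rwa [idx] at this

theorem fix (h : Hyp G Ω p q) (hpq : p < 2 * q) (A : Subgroup G) [nA : A.Normal] (hA : IsPGroup p A)
    (ho : ∀ a : Ω, ol A a = p) {z : G} (hz : IsPGroup q (Subgroup.zpowers z)) (a : Ω)
    (hD : ∀ g ∈ Subgroup.zpowers z, ∀ b ∈ orbit A a, g • b ∈ orbit A a) : z • a = a := by
  have := Fact.mk h.hq
  have := Fact.mk h.hp
  let D : SubMulAction (Subgroup.zpowers z) Ω := ⟨orbit A a, fun g b hb => hD g g.2 b hb⟩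
  have m := hz.card_modEq_card_fixedPoints D
  rw [show Nat.card D = p from ho a] at m
  have qp := h.qp
  have h2 : 1 < Nat.card (fixedPoints (Subgroup.zpowers z) D) := by
    by_contra n
    obtain e | e : Nat.card (fixedPoints (Subgroup.zpowers z) D) = 0 ∨
      Nat.card (fixedPoints (Subgroup.zpowers z) D) = 1 := by omega
    · rw [e, Nat.modEq_zero_iff_dvd, Nat.prime_dvd_prime_iff_eq h.hq h.hp] at m
      omega
    · rw [e] at m
      obtain ⟨k, hk⟩ := (Nat.modEq_iff_dvd' h.hp.one_lt.le).1 m.symm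
      have q3 := h.q3
      obtain rfl : k = 1 := by
        rcases k with _ | _ | k
        · omega
        · rfl
        · nlinarith [Nat.sub_add_cancel h.hp.one_lt.le]
      have := h.hp.eq_two_or_odd
      have := h.hq.eq_two_or_odd
      omega
  obtain ⟨⟨⟨b, hb⟩, fb⟩, ⟨⟨b', hb'⟩, fb'⟩, ne⟩ := Finite.one_lt_card_iff_nontrivial.1 h2
  have zb : z • b = b := congrArg Subtype.val (fb ⟨z, Subgroup.mem_zpowers z⟩)
  have zb' : z • b' = b' := congrArg Subtype.val (fb' ⟨z, Subgroup.mem_zpowers z⟩)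
  have eb : orbit A b = orbit A a := orbit_eq_iff.2 hb
  obtain ⟨⟨y, hy⟩, e⟩ : b' ∈ orbit A b := eb ▸ hb'
  replace e : y • b = b' := e
  have k := o_ker h.hp A hA b (ho b).le (z⁻¹ * y⁻¹ * z * y) (mul_mem (nA.conj_mem' _ (inv_mem hy) z) hy) (by
    rw [mul_smul, mul_smul, mul_smul, e, zb', inv_smul_eq_iff.2 e.symm, inv_smul_eq_iff.2 zb.symm])
  have k2 : ∀ n : ℕ, z • y ^ n • b = y ^ n • b := fun n => by
    induction n with
    | zero => rwa [pow_zero, one_smul]
    | succ n ih =>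
      have := k (y ^ n • b) ⟨⟨_, pow_mem hy n⟩, rfl⟩
      rw [mul_smul, mul_smul, mul_smul, inv_smul_eq_iff, ih, inv_smul_eq_iff] at this
      rwa [pow_succ', mul_smul]
  have le : orbit (Subgroup.zpowers y) b ⊆ orbit A b := by
    rintro _ ⟨g, rfl⟩
    exact ⟨⟨g, Subgroup.zpowers_le.2 hy g.2⟩, rfl⟩
  have eq : orbit (Subgroup.zpowers y) b = orbit A b := by
    refine Set.eq_of_subset_of_ncard_le le ?_
    obtain ⟨n, hn⟩ := (hA.to_le (Subgroup.zpowers_le.2 hy)).card_orbit b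
    rw [← Nat.card_coe_set_eq, ← Nat.card_coe_set_eq, hn, show Nat.card (orbit A b) = p from ho b]
    refine Nat.le_self_pow ?_ p
    rintro rfl
    obtain ⟨c, hc⟩ := Set.ncard_eq_one.1 ((Nat.card_coe_set_eq _).symm.trans hn)
    have h2 : b' ∈ orbit (Subgroup.zpowers y) b := ⟨⟨y, Subgroup.mem_zpowers y⟩, e⟩
    have h3 := mem_orbit_self (M := Subgroup.zpowers y) b
    rw [hc] at h2 h3
    exact ne (Subtype.ext (Subtype.ext (h3.trans h2.symm)))
  obtain ⟨⟨g, hg⟩, e⟩ : a ∈ orbit (Subgroup.zpowers y) b := by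
    rw [eq, eb]
    exact mem_orbit_self a
  obtain ⟨n, rfl⟩ := mem_powers_iff_mem_zpowers.2 hg
  rw [← e]
  exact k2 n

end Lq

open scoped Pointwise in
/-- No normal `p`-subgroup has all orbits of length `p`. -/
theorem Hyp.lq (h : Hyp G Ω p q) (hpq : p < 2 * q) (A : Subgroup G) [A.Normal] (hA : IsPGroup p A)
    (ho : ∀ a : Ω, ol A a = p) : False := by
  have := h.tr
  have c0 : 0 < Nat.card Ω := by
    rw [h.card]
    exact Nat.mul_pos (Nat.mul_pos two_pos h.hp.pos) h.hq.pos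
  obtain ⟨a₀⟩ := (Nat.card_pos_iff.1 c0).1
  have hX : Nat.card (orbit G (orbit A a₀)) = 2 * q := by
    have := (IsBlock.orbit_of_normal (N := A) a₀).ncard_block_mul_ncard_orbit_eq (nonempty_orbit a₀)
    rw [← Nat.card_coe_set_eq, show Nat.card (orbit A a₀) = p from ho a₀, h.card, mul_comm 2, mul_assoc] at this
    exact Nat.eq_of_mul_eq_mul_left h.hp.pos this
  obtain ⟨y, hy, k⟩ := Lq.mover (G := G) h.hq h.q3 hX
  have mem : ∀ a : Ω, orbit A a ∈ orbit G (orbit A a₀) := fun a => by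
    obtain ⟨g, rfl⟩ := exists_smul_eq G a₀ a
    exact ⟨g, smul_orbit_eq_orbit_smul A a₀ g⟩
  have y1 : y ^ q = 1 := FaithfulSMul.eq_of_smul_eq_smul (α := Ω) fun a => by
    rw [one_smul]
    refine Lq.fix h hpq A hA ho (hy.to_le (Subgroup.zpowers_le.2 (pow_mem (Subgroup.mem_zpowers y) q))) a
      fun g hg b hb => ?_
    have : g ∈ stabilizer G (orbit A a) := Subgroup.zpowers_le.2 (congrArg Subtype.val (k ⟨_, mem a⟩).2) hg
    rw [← mem_stabilizer_iff.1 this]
    exact Set.smul_mem_smul_set hb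
  have := Fact.mk h.hq
  obtain ⟨a, ha⟩ := h.elu y (by
    rw [orderOf_eq_prime y1 fun e => (k ⟨_, mem a₀⟩).1 (by rw [e, one_smul])]
    exact h.hq)
  exact (k ⟨_, mem a⟩).1 (Subtype.ext ((smul_orbit_eq_orbit_smul A a y).trans (by rw [ha])))

end Cfsg.Agent.EL
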