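import Mathlib
import Cfsg.Agent.EL.Defs
import Cfsg.Agent.EL.Orb

set_option autoImplicit false

namespace Cfsg.Agent.EL

open MulAction

variable {G Ω : Type*} [Group G] [Finite G] [MulAction G Ω] [FaithfulSMul G Ω] [Finite Ω] {p q : ℕ}

omit [FaithfulSMul G Ω] [Finite Ω] in
theorem UniA_stab (A : Subgroup G) (x z : Ω) (h : ol A x = ol A z) (hl : stabilizer A x ≤ stabilizer A z) :
    stabilizer A x = stabilizer A z := by
  have h1 := Nat.card_congr (orbitProdStabilizerEquivGroup A x)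
  have h2 := Nat.card_congr (orbitProdStabilizerEquivGroup A z)
  rw [Nat.card_prod] at h1 h2
  have h0 : 0 < Nat.card A := Nat.card_pos
  have h3 : 0 < ol A z := Nat.pos_of_mul_pos_right (h2 ▸ h0)
  refine Subgroup.eq_of_le_of_card_ge hl (le_of_eq (Nat.eq_of_mul_eq_mul_left h3 ?_))
  rw [h2, ← h, h1]

theorem UniA_syl (hp : p.Prime) (C A B : Subgroup G) (hA : IsPGroup p A) (hB : IsPGroup p B) (hAC : A ≤ C)
    (hBC : B ≤ C) : ∃ y ∈ C, ∃ S : Subgroup G, IsPGroup p S ∧ A ≤ S ∧ ∀ b ∈ B, y * b * y⁻¹ ∈ S := by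
  haveI := Fact.mk hp
  obtain ⟨S, hS⟩ := (hA.comap_subtype (K := C)).exists_le_sylow
  obtain ⟨T, hT⟩ := (hB.comap_subtype (K := C)).exists_le_sylow
  obtain ⟨y, hy⟩ := exists_smul_eq C T S
  refine ⟨y, y.2, (S : Subgroup C).map C.subtype, S.isPGroup'.map _, fun a ha => ⟨⟨a, hAC ha⟩, hS ha, rfl⟩,
    fun b hb => ⟨y * ⟨b, hBC hb⟩ * y⁻¹, ?_, rfl⟩⟩
  rw [← hy]
  exact Subgroup.smul_mem_pointwise_smul _ (MulAut.conj y) _ (hT (show (⟨b, hBC hb⟩ : C) ∈ B.comap C.subtype from hb))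

/-- The point stabilisers in `A = Ω₁(P)` are conjugate under `N(A)`. -/
theorem Hyp.uniA (h : Hyp G Ω p q) {P : Subgroup G} (hP : Syl p P) (A : Subgroup G) (hAP : A ≤ P)
    (hom : ∀ y ∈ P, y ^ p = 1 → y ∈ A) (ho : ∀ a : Ω, ol A a = p) (b : Ω) (hb : ol P b = p) (c : Ω) :
    ∃ n ∈ Subgroup.normalizer (A : Set G), ∀ y ∈ A, y • (n • b) = n • b ↔ y • c = c := by
  have hA : IsPGroup p A := hP.pg.to_le hAP
  obtain ⟨hc, he⟩ := o_ab (Ω := Ω) h.hp A hA fun a => (ho a).le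
  have key : ∀ x : G, (∀ a ∈ A, x * a * x⁻¹ ∈ P) → x ∈ Subgroup.normalizer (A : Set G) := fun x hx =>
    Subgroup.mem_normalizer_fintype fun a ha => hom _ (hx a ha) (by rw [conj_pow, he a ha, mul_one, mul_inv_cancel])
  obtain ⟨g, hg, hU⟩ := h.o_f2 hP b hb (A ⊓ stabilizer G c) (hA.to_le inf_le_left) c fun u hu => hu.2
  have hU' : ∀ u ∈ A ⊓ stabilizer G c, g⁻¹ * u * g ∈ A := fun u hu => hom _ (hU u hu) (by
    have := conj_pow (i := p) (a := g⁻¹) (b := u)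
    rw [inv_inv] at this
    rw [this, he u hu.1, mul_one, inv_mul_cancel])
  obtain ⟨y, hy, S, hS, hAS, hBS⟩ := UniA_syl h.hp (Subgroup.centralizer ((A ⊓ stabilizer G c : Subgroup G) : Set G)) A
    (A.map (MulAut.conj g).toMonoidHom) hA (hA.map _) (fun a ha u hu => hc u hu.1 a ha) (by
      rintro _ ⟨a, ha, rfl⟩ u hu
      have := hc _ (hU' u hu) a ha
      show u * (g * a * g⁻¹) = g * a * g⁻¹ * u
      calc u * (g * a * g⁻¹) = g * (g⁻¹ * u * g * a) * g⁻¹ := by group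
        _ = g * a * g⁻¹ * u := by rw [this]; group)
  obtain ⟨k, hk⟩ := o_conj h.hp hP S hS
  have k1 := key k⁻¹ fun a ha => by rw [inv_inv]; exact hk a (hAS ha)
  have k2 := key (k⁻¹ * (y * g)) fun a ha => by
    have := hk _ (hBS _ ⟨a, ha, rfl⟩)
    have e : k⁻¹ * (y * g) * a * (k⁻¹ * (y * g))⁻¹ = k⁻¹ * (y * (g * a * g⁻¹) * y⁻¹) * k := by group
    rw [e]
    exact this
  refine ⟨y * g, (mul_mem_cancel_left k1).1 k2, fun a ha => ?_⟩
  have hs := UniA_stab A c (y • c) ((ho c).trans (ho _).symm) fun u hu => by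
    have h1 : (u : G) • c = c := hu
    show (u : G) • y • c = y • c
    rw [← mul_smul, hy u ⟨u.2, h1⟩, mul_smul, h1]
  rw [mul_smul, hg]
  exact (SetLike.ext_iff.1 hs ⟨a, ha⟩).symm

end Cfsg.Agent.EL
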