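import Mathlib
import Cfsg.Agent.EL.Defs
import Cfsg.Agent.EL.Cov
import Cfsg.Agent.EL.Orb
import Cfsg.Agent.EL.Lq
import Cfsg.Agent.EL.UniA

set_option autoImplicit false

namespace Cfsg.Agent.EL

open MulAction

variable {G Ω : Type*} [Group G] [Finite G] [MulAction G Ω] [FaithfulSMul G Ω] [Finite Ω] {p q : ℕ}

omit [Finite G] [FaithfulSMul G Ω] [Finite Ω] in
theorem uniB_nrm (A : Subgroup G) {n : G} (hn : n ∈ Subgroup.normalizer (A : Set G)) {a b : Ω}
    (e : A ⊓ stabilizer G a = A ⊓ stabilizer G b) :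
    A ⊓ stabilizer G (n • a) = A ⊓ stabilizer G (n • b) := by
  have key : ∀ a b : Ω, A ⊓ stabilizer G a = A ⊓ stabilizer G b →
      A ⊓ stabilizer G (n • a) ≤ A ⊓ stabilizer G (n • b) := by
    intro a b e y hy
    obtain ⟨h1, h2⟩ := Subgroup.mem_inf.1 hy
    rw [mem_stabilizer_iff] at h2
    have h3 : n⁻¹ * y * n⁻¹⁻¹ ∈ A :=
      (Subgroup.mem_normalizer_iff.1 (Subgroup.inv_mem _ hn) y).1 h1
    rw [inv_inv] at h3
    have h4 : n⁻¹ * y * n ∈ A ⊓ stabilizer G a := by
      refine Subgroup.mem_inf.2 ⟨h3, ?_⟩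
      rw [mem_stabilizer_iff, mul_smul, mul_smul, h2, inv_smul_smul]
    rw [e] at h4
    have h5 := (Subgroup.mem_inf.1 h4).2
    rw [mem_stabilizer_iff, mul_smul, mul_smul, inv_smul_eq_iff] at h5
    exact Subgroup.mem_inf.2 ⟨h1, h5⟩
  exact le_antisymm (key a b e) (key b a e.symm)

/-- `Ω₁(P)` does not have all orbits of length `p`. -/
theorem Hyp.uniB (h : Hyp G Ω p q) {P : Subgroup G} (hP : Syl p P) (A : Subgroup G) (hAP : A ≤ P)
    (hom : ∀ y ∈ P, y ^ p = 1 → y ∈ A) (ho : ∀ a : Ω, ol A a = p) : False := by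
  classical
  have hp := h.hp
  haveI : Fact p.Prime := ⟨hp⟩
  haveI := Fintype.ofFinite Ω
  have hA : IsPGroup p A := hP.pg.to_le hAP
  obtain ⟨hcomm, hexp⟩ := o_ab hp A hA (fun a : Ω => (ho a).le)
  obtain ⟨b, hb⟩ := h.o_ex hP
  set St : Ω → Subgroup G := fun c => A ⊓ stabilizer G c with hSt
  have hU : ∀ c : Ω, ∃ n ∈ Subgroup.normalizer (A : Set G), St (n • b) = St c := by
    intro c
    obtain ⟨n, hn, e⟩ := h.uniA hP A hAP hom ho b hb c
    refine ⟨n, hn, ?_⟩
    ext y
    simp only [hSt, Subgroup.mem_inf, mem_stabilizer_iff]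
    exact and_congr_right fun hy => e y hy
  set F : Ω → Finset Ω := fun c => Finset.univ.filter fun a => St a = St c with hF
  have hFc : ∀ c, (F c).card = (F b).card := by
    intro c
    obtain ⟨n, hn, e⟩ := hU c
    symm
    refine Finset.card_bij (fun a _ => n • a) ?_ ?_ ?_
    · intro a ha
      simp only [hF, Finset.mem_filter, Finset.mem_univ, true_and] at ha ⊢
      rw [← e]
      exact uniB_nrm A hn ha
    · intro a _ a' _ e'
      exact MulAction.injective n e'
    · intro a ha
      simp only [hF, Finset.mem_filter, Finset.mem_univ, true_and] at ha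
      refine ⟨n⁻¹ • a, ?_, smul_inv_smul n a⟩
      simp only [hF, Finset.mem_filter, Finset.mem_univ, true_and]
      have := uniB_nrm A (Subgroup.inv_mem _ hn) (ha.trans e.symm)
      rwa [inv_smul_smul] at this
  set T : Finset (Subgroup G) := Finset.univ.image St with hT
  have hcount : T.card * (F b).card = 2 * p * q := by
    rw [← h.card, Nat.card_eq_fintype_card, ← Finset.card_univ,
      Finset.card_eq_sum_card_image St Finset.univ, ← smul_eq_mul, ← Finset.sum_const]
    refine Finset.sum_congr rfl fun H hH => ?_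
    obtain ⟨c, -, rfl⟩ := Finset.mem_image.1 hH
    exact (hFc c).symm
  have horb : ∀ c, ∀ a ∈ orbit A c, a ∈ F c := by
    rintro c _ ⟨y, rfl⟩
    simp only [hF, Finset.mem_filter, Finset.mem_univ, true_and]
    ext z
    simp only [hSt, Subgroup.mem_inf, mem_stabilizer_iff]
    refine and_congr_right fun hz => ?_
    change z • ((y : G) • c) = (y : G) • c ↔ _
    rw [← mul_smul, hcomm z hz y y.2, mul_smul, smul_left_cancel_iff]
  have hsub : ∀ c, (orbit A c).toFinset ⊆ F c := fun c a ha => horb c a (Set.mem_toFinset.1 ha)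
  have hoc : ∀ c : Ω, (orbit A c).toFinset.card = p := fun c => by
    rw [Set.toFinset_card, ← Nat.card_eq_fintype_card]
    exact ho c
  have hpf : p ≤ (F b).card := (hoc b).ge.trans (Finset.card_le_card (hsub b))
  have hTp : p < T.card := by
    by_contra hle
    obtain ⟨x, hx, hx'⟩ := cov' hp A hA T id (fun H hH hAH => by
      obtain ⟨c, -, rfl⟩ := Finset.mem_image.1 hH
      have h1 : orbit A c = {c} := by
        refine Set.eq_singleton_iff_unique_mem.2 ⟨mem_orbit_self c, ?_⟩
        rintro _ ⟨y, rfl⟩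
        exact (Subgroup.mem_inf.1 (hAH y.2)).2
      have h2 := ho c
      rw [ol, h1] at h2
      simp only [Nat.card_unique] at h2
      exact hp.one_lt.ne h2) (not_lt.1 hle)
    have h3 : ∃ c : Ω, x • c = c := by
      by_cases h1 : x = 1
      · exact ⟨b, by rw [h1, one_smul]⟩
      · exact h.elu x (by rw [orderOf_eq_prime (hexp x hx) h1]; exact hp)
    obtain ⟨c, hc⟩ := h3
    exact hx' (St c) (Finset.mem_image_of_mem _ (Finset.mem_univ c)) (Subgroup.mem_inf.2 ⟨hx, hc⟩)
  have hqp := h.qp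
  have hq3 := h.q3
  have hdvd : p ∣ (F b).card := by
    have h1 : p ∣ T.card * (F b).card := by
      rw [hcount]
      exact Dvd.intro_left (2 * q) (by ring)
    refine (hp.dvd_mul.1 h1).resolve_left ?_
    rintro ⟨k, hk⟩
    have hk2 : 2 ≤ k := by
      by_contra hk2
      have : p * k ≤ p * 1 := Nat.mul_le_mul_left _ (by omega)
      omega
    have h2 : p * 2 * p ≤ T.card * (F b).card := by
      rw [hk]
      exact Nat.mul_le_mul (Nat.mul_le_mul_left _ hk2) hpf
    rw [hcount] at h2
    have h3 : 2 * p * q < 2 * p * p := Nat.mul_lt_mul_of_pos_left hqp (by have := hp.pos; omega)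
    nlinarith
  obtain ⟨k, hk⟩ := hdvd
  have hkT : T.card * k = 2 * q := by
    refine Nat.eq_of_mul_eq_mul_left hp.pos ?_
    rw [hk] at hcount
    linarith
  have hk1 : k = 1 := by
    have h0 : k ≠ 0 := by
      rintro rfl
      omega
    by_contra h1
    have : T.card * 2 ≤ T.card * k := Nat.mul_le_mul_left _ (by omega)
    omega
  subst hk1
  have hFo : ∀ c, (orbit A c).toFinset = F c := fun c =>
    Finset.eq_of_subset_of_card_le (hsub c) (by rw [hFc, hoc, hk, mul_one])
  have htr : ∀ c : Ω, ∃ g ∈ Subgroup.normalizer (A : Set G), g • b = c := by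
    intro c
    obtain ⟨n, hn, e⟩ := hU c
    have h1 : n • b ∈ F c := by
      simp only [hF, Finset.mem_filter, Finset.mem_univ, true_and]
      exact e
    rw [← hFo, Set.mem_toFinset] at h1
    obtain ⟨y, hy⟩ := h1
    refine ⟨(y : G)⁻¹ * n, Subgroup.mul_mem _ (Subgroup.inv_mem _ (Subgroup.le_normalizer y.2)) hn, ?_⟩
    rw [mul_smul, inv_smul_eq_iff]
    exact hy.symm
  have htop : Subgroup.normalizer (A : Set G) = ⊤ := h.min _ fun a c => by
    obtain ⟨g, hg, rfl⟩ := htr a
    obtain ⟨g', hg', rfl⟩ := htr c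
    exact ⟨g' * g⁻¹, Subgroup.mul_mem _ hg' (Subgroup.inv_mem _ hg), by
      rw [mul_smul, inv_smul_smul]⟩
  haveI := Subgroup.normalizer_eq_top_iff.1 htop
  exact h.lq (by omega) A hA ho

end Cfsg.Agent.EL
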