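import Mathlib
import Cfsg.Agent.EL.Defs
import Cfsg.Agent.EL.Cov
import Cfsg.Agent.EL.Orb
import Cfsg.Agent.EL.TriA
import Cfsg.Agent.EL.TriV
import Cfsg.Agent.EL.TriB
import Cfsg.Agent.EL.UniB

set_option autoImplicit false
set_option linter.unusedSectionVars false

namespace Cfsg.Agent.EL

open MulAction

variable {G Ω : Type*} [Group G] [Finite G] [MulAction G Ω] [FaithfulSMul G Ω] [Finite Ω] {p q : ℕ}

/-- Orbit-stabiliser for a subgroup. -/
theorem triC_os (P : Subgroup G) (a : Ω) :
    Nat.card P = ol P a * Nat.card (P ⊓ stabilizer G a : Subgroup G) := by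
  have h1 : (stabilizer P a).index = ol P a := by
    rw [MulAction.index_stabilizer, ol, Nat.card_coe_set_eq]
  have h2 : stabilizer P a = (P ⊓ stabilizer G a).subgroupOf P := by
    ext x
    simp [Subgroup.mem_subgroupOf, mem_stabilizer_iff, Subgroup.smul_def]
  have h3 : Nat.card (stabilizer P a) = Nat.card (P ⊓ stabilizer G a : Subgroup G) := by
    rw [h2]
    exact Nat.card_congr (Subgroup.subgroupOfEquivOfLe inf_le_left).toEquiv
  rw [← h1, ← h3, mul_comm]
  exact (Subgroup.card_mul_index _).symm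

theorem triC_mem {P : Subgroup G} {c d : Ω} (hd : d ∈ orbit P c) {x : G} (hx : x ∈ P) : x • d ∈ orbit P c := by
  obtain ⟨z, rfl⟩ := hd
  exact ⟨⟨x, hx⟩ * z, by simp [mul_smul, Subgroup.smul_def]⟩

theorem triC_one {R : Subgroup G} {d : Ω} (hd : ∀ y ∈ R, y • d = d) : ol R d = 1 := by
  have : orbit R d = {d} := by
    ext e
    constructor
    · rintro ⟨z, rfl⟩
      exact hd z z.2
    · rintro rfl
      exact mem_orbit_self _
  rw [ol, this]
  simp

theorem triC_cpow {R : Subgroup G} (hR : ∀ y ∈ R, y ^ p = 1) {g u : G} (hu : g⁻¹ * u * g ∈ R) : u ^ p = 1 := by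
  have h1 := hR _ hu
  have h2 : (g⁻¹ * u * g) ^ p = g⁻¹ * u ^ p * g := by
    have := conj_pow (a := g⁻¹) (b := u) (i := p)
    simpa using this
  rw [h2] at h1
  have : u ^ p = g * (g⁻¹ * u ^ p * g) * g⁻¹ := by group
  rw [this, h1]
  group

theorem Hyp.triC (h : Hyp G Ω p q) {P R : Subgroup G} (hP : Syl p P) {c : Ω} (hL : Lng p P R c) : Cfa p P R c := by
  have hp := h.hp
  have : Fact p.Prime := ⟨hp⟩
  have om := h.triB hP hL
  have hRp : IsPGroup p R := hP.pg.to_le hL.le
  -- a short point fixed by `R`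
  obtain ⟨a₀, ha₀, hfix₀⟩ : ∃ a₀ : Ω, a₀ ∉ orbit P c ∧ ∀ y ∈ R, y • a₀ = a₀ := by
    by_contra hcon
    refine h.uniB hP R hL.le om fun a => ?_
    by_cases ha : a ∈ orbit P c
    · exact hL.blk a ha
    · obtain ⟨k, hk⟩ := hRp.card_orbit a
      have hle : ol R a ≤ ol P a := by
        refine Nat.card_mono (Set.toFinite _) ?_
        rintro e ⟨z, rfl⟩
        exact ⟨⟨z, hL.le z.2⟩, rfl⟩
      rw [hL.short a ha] at hle
      have hk' : ol R a = p ^ k := hk
      rcases k with _ | k
      · exfalso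
        apply hcon
        refine ⟨a, ha, fun y hy => ?_⟩
        rw [pow_zero] at hk'
        have hs : Subsingleton (orbit R a) := (Nat.card_eq_one_iff_unique.1 hk').1
        have := hs.elim ⟨y • a, ⟨⟨y, hy⟩, rfl⟩⟩ ⟨a, mem_orbit_self _⟩
        exact congrArg Subtype.val this
      · rw [hk'] at hle ⊢
        have h1 : p ≤ p ^ (k + 1) := Nat.le_self_pow (by omega) p
        omega
  -- the stabilisers of short points have the order of `R`
  have hcard : ∀ a : Ω, a ∉ orbit P c → Nat.card (P ⊓ stabilizer G a : Subgroup G) = Nat.card R := by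
    intro a ha
    have h1 := triC_os P a
    rw [hL.short a ha, hL.idx] at h1
    exact (Nat.eq_of_mul_eq_mul_left hp.pos h1).symm
  have h₀ : R = P ⊓ stabilizer G a₀ :=
    Subgroup.eq_of_le_of_card_ge (fun y hy => ⟨hL.le hy, hfix₀ y hy⟩) (hcard a₀ ha₀).le
  have hall : ∀ a : Ω, a ∉ orbit P c → P ⊓ stabilizer G a = R := by
    intro a ha
    refine Subgroup.eq_of_le_of_card_ge (fun u hu => ?_) (hcard a ha).ge
    obtain ⟨g, hg, hgU⟩ := h.o_f2 hP a₀ (hL.short a₀ ha₀) (P ⊓ stabilizer G a) (hP.pg.to_le inf_le_left) a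
      (fun v hv => hv.2)
    have hin : g⁻¹ * u * g ∈ R := by
      rw [h₀]
      refine ⟨hgU u hu, ?_⟩
      have hua : u • a = a := hu.2
      show (g⁻¹ * u * g) • a₀ = a₀
      rw [mul_smul, mul_smul, hg, hua, ← hg, inv_smul_smul]
    exact om u hu.1 (triC_cpow hL.exp hin)
  have fix : ∀ a : Ω, a ∉ orbit P c → ∀ y ∈ R, y • a = a := by
    intro a ha y hy
    rw [← hall a ha] at hy
    exact hy.2
  refine { hL with om := om, fix := fix, nofix := ?_, wt := ?_ }
  · intro a ha x hx hxa
    rw [← hall a ha]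
    exact ⟨hx, hxa⟩
  · intro y hy d hd hye
    obtain ⟨K, hKP, hKc, hK1, hK2⟩ := h.triV hP hL
    have hKR : K ≤ R := by
      intro x hx
      by_contra hxR
      exact hxR (om x (hKP hx) ((hK1 x (hKP hx) hxR).1 hx))
    have hKe : K = R := by
      refine Subgroup.eq_of_le_of_card_ge hKR ?_
      rw [hL.idx] at hKc
      exact Nat.le_of_mul_le_mul_left hKc hp.pos
    obtain ⟨x, hx, hxR⟩ : ∃ x ∈ P, x ∉ R := by
      by_contra hcon
      have hle : P ≤ R := fun x hx => by
        by_contra hxR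
        exact hcon ⟨x, hx, hxR⟩
      have h1 := Subgroup.card_le_of_le hle
      rw [hL.idx] at h1
      have h2 : 0 < Nat.card R := Nat.card_pos
      have h3 := hp.two_le
      nlinarith
    have hxy : (x * y) ^ p = x ^ p := hK2 x hx hxR y hy (hKe ▸ hy)
    refine (FaithfulSMul.eq_of_smul_eq_smul (M := G) (α := Ω) fun e => ?_)
    rw [one_smul]
    by_cases he : e ∈ orbit P c
    swap
    · exact fix e he y hy
    by_cases hed : e ∈ orbit R d
    swap
    · exact hye e he hed
    have hye' : y • e ∈ orbit P c := triC_mem he (hL.le hy)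
    have hyd : y • e ∈ orbit R d := triC_mem hed hy
    have horb : orbit R (y • e) = orbit R d := orbit_eq_iff.2 hyd
    have hb := (h.tri_blk hP hL x hx hxR (y • e) hye').2
    have key : ∀ j : ℕ, j + 1 ≤ p → (x * y) ^ (j + 1) • e = x ^ (j + 1) • (y • e) := by
      intro j
      induction j with
      | zero => intro _; simp [mul_smul]
      | succ j ih =>
        intro hj
        rw [pow_succ' (x * y), mul_smul, ih (by omega), mul_smul, pow_succ' x (j + 1), mul_smul]
        congr 1
        refine hye _ (triC_mem hye' (P.pow_mem hx _)) ?_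
        rw [← horb, hb]
        intro hdv
        have := Nat.le_of_dvd (by omega) hdv
        omega
    have hk := key (p - 1) (by have := hp.pos; omega)
    have hp1 : p - 1 + 1 = p := by have := hp.pos; omega
    rw [hp1, hxy] at hk
    exact (smul_left_cancel _ hk).symm

/-- `N(R)` preserves the long orbit and is transitive on its complement. -/
theorem Hyp.cfa_norm (h : Hyp G Ω p q) {P R : Subgroup G} (hP : Syl p P) {c : Ω} (hC : Cfa p P R c) :
    (∀ n ∈ Subgroup.normalizer (R : Set G), ∀ d : Ω, n • d ∈ orbit P c ↔ d ∈ orbit P c) ∧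
    (∀ a b : Ω, a ∉ orbit P c → b ∉ orbit P c → ∃ n ∈ Subgroup.normalizer (R : Set G), n • a = b) := by
  have hp := h.hp
  have hRp : IsPGroup p R := hP.pg.to_le hC.le
  have hch : ∀ d : Ω, d ∉ orbit P c ↔ ∀ y ∈ R, y • d = d := by
    intro d
    refine ⟨hC.fix d, fun hd hin => ?_⟩
    have h1 := hC.blk d hin
    rw [triC_one hd] at h1
    exact hp.one_lt.ne h1
  have hstep : ∀ n ∈ Subgroup.normalizer (R : Set G), ∀ d : Ω, d ∉ orbit P c → n • d ∉ orbit P c := by
    intro n hn d hd
    rw [hch] at hd ⊢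
    intro y hy
    have hn' : n⁻¹ * y * n⁻¹⁻¹ ∈ R := (Subgroup.mem_normalizer_iff.1 (Subgroup.inv_mem _ hn) y).1 hy
    have h1 := hd _ hn'
    rw [inv_inv, mul_smul, mul_smul, inv_smul_eq_iff] at h1
    exact h1
  refine ⟨fun n hn d => ?_, fun a b ha hb => ?_⟩
  · rw [← not_iff_not]
    refine ⟨fun h1 => ?_, hstep n hn d⟩
    have := hstep n⁻¹ (Subgroup.inv_mem _ hn) _ h1
    rwa [inv_smul_smul] at this
  · obtain ⟨g, hg, hgU⟩ := h.o_f2 hP a (hC.short a ha) R hRp b (hC.fix b hb)
    refine ⟨g, ?_, hg⟩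
    rw [← inv_mem_iff]
    refine Subgroup.mem_normalizer_fintype fun u hu => ?_
    rw [inv_inv]
    refine hC.om _ (hgU u hu) ?_
    have h2 : (g⁻¹ * u * g) ^ p = g⁻¹ * u ^ p * g := by
      have := conj_pow (a := g⁻¹) (b := u) (i := p)
      simpa using this
    rw [h2, hC.exp u hu]
    group

end Cfsg.Agent.EL
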