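import Mathlib
import Cfsg.Agent.EL.Defs
import Cfsg.Agent.EL.Orb
import Cfsg.Agent.EL.TriA
import Cfsg.Agent.EL.TriC
import Cfsg.Agent.Loc.MssSyl

set_option autoImplicit false

namespace Cfsg.Agent.EL

open MulAction
open Cfsg.Agent.Loc.Mss (mem_norm_of_cj_le cj_le_iff conj_mem_of_norm conj_mem_of_norm' mem_cent)

variable {G Ω : Type*} [Group G] [Finite G] [MulAction G Ω] [FaithfulSMul G Ω] [Finite Ω] {p q : ℕ}

omit [Finite G] [FaithfulSMul G Ω] [Finite Ω] in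
theorem bigA_orb {H : Subgroup G} {a b : Ω} : b ∈ orbit H a ↔ ∃ g ∈ H, g • a = b :=
  ⟨fun ⟨g, e⟩ => ⟨g, g.2, e⟩, fun ⟨g, hg, e⟩ => ⟨⟨g, hg⟩, e⟩⟩

omit [Finite G] [FaithfulSMul G Ω] [Finite Ω] in
theorem bigA_smul {H : Subgroup G} {a b : Ω} {g : G} (hg : g ∈ H) : g • b ∈ orbit H a ↔ b ∈ orbit H a := by
  have k : ∀ g ∈ H, ∀ b ∈ orbit H a, g • b ∈ orbit H a := fun g hg b hb => by
    obtain ⟨y, hy, rfl⟩ := bigA_orb.1 hb
    exact bigA_orb.2 ⟨g * y, mul_mem hg hy, mul_smul _ _ _⟩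
  exact ⟨fun h => inv_smul_smul g b ▸ k _ (inv_mem hg) _ h, k g hg b⟩

/-- `U = R_d` fixes only the block of `d` in the long orbit. -/
theorem Hyp.big_fix (h : Hyp G Ω p q) {P R : Subgroup G} (hP : Syl p P) {c : Ω} (hC : Cfa p P R c) (d : Ω)
    (hd : d ∈ orbit P c) (hU : R ⊓ stabilizer G d ≠ ⊥) (e : Ω) (he : e ∈ orbit P c) :
    (∀ u ∈ R ⊓ stabilizer G d, u • e = e) ↔ e ∈ orbit R d := by
  have hR := hP.pg.to_le hC.le
  refine ⟨fun k => by_contra fun hn => hU ((Subgroup.eq_bot_iff_forall _).2 fun u hu => ?_),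
    fun k u hu => o_ker h.hp R hR d (hC.blk d hd).le u hu.1 hu.2 e k⟩
  obtain ⟨a, ha, rfl⟩ := bigA_orb.1 hd
  obtain ⟨b, hb, rfl⟩ := bigA_orb.1 he
  have hy := mul_mem hb (inv_mem ha)
  have e1 : b • c = (b * a⁻¹) • a • c := by rw [mul_smul, inv_smul_smul]
  rw [e1] at k hn
  generalize b * a⁻¹ = y at hy k hn
  generalize a • c = d at hd hu k hn
  have h1 : ∀ j : ℕ, ∀ u ∈ R ⊓ stabilizer G d, u • y ^ j • d = y ^ j • d := fun j => by
    induction j with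
    | zero => exact fun u hu => by rw [pow_zero, one_smul]; exact hu.2
    | succ j ih =>
      intro u hu
      have := ih (y⁻¹ * u * y⁻¹⁻¹) ⟨hC.nrm _ (inv_mem hy) u hu.1, mem_stabilizer_iff.2 (by
        rw [inv_inv, mul_smul, mul_smul, k u hu, inv_smul_smul])⟩
      rw [inv_inv, mul_smul, mul_smul, inv_smul_eq_iff] at this
      rwa [pow_succ', mul_smul]
  refine eq_of_smul_eq_smul (α := Ω) fun a => ?_
  rw [one_smul]
  by_cases ha : a ∈ orbit P c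
  · obtain ⟨j, -, hj⟩ := (h.tri_blk hP hC.toLng y hy (fun e => hn (bigA_orb.2 ⟨y, e, rfl⟩)) d hd).1 a ha
    exact o_ker h.hp R hR _ (hC.blk _ ((bigA_smul (pow_mem hy j)).2 hd)).le u hu.1 (h1 j u hu) a hj
  · exact hC.fix a ha u hu.1

/-- `R` is a Sylow subgroup of `C(U)`. -/
theorem Hyp.big_syl (h : Hyp G Ω p q) {P R : Subgroup G} (hP : Syl p P) {c : Ω} (hC : Cfa p P R c) (d : Ω)
    (hd : d ∈ orbit P c) (hU : R ⊓ stabilizer G d ≠ ⊥) (S : Subgroup G) (hS : IsPGroup p S) (hRS : R ≤ S)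
    (hc : ∀ s ∈ S, ∀ u ∈ R ⊓ stabilizer G d, s * u = u * s) : S = R := by
  obtain ⟨g, hg⟩ := o_conj h.hp hP S hS
  have h1 : g⁻¹ ∈ Subgroup.normalizer (R : Set G) := mem_norm_of_cj_le (cj_le_iff.2 fun r hr =>
    hC.om _ (by rw [inv_inv]; exact hg r (hRS hr)) (by rw [conj_pow, hC.exp r hr, mul_one, mul_inv_cancel]))
  have h2 := (inv_mem_iff).1 h1
  have h3 := (h.cfa_norm hP hC).1
  refine le_antisymm (fun s hs => ?_) hRS
  have h4 : s ∈ Subgroup.normalizer (R : Set G) := by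
    have := mul_mem (mul_mem h2 (mem_norm_of_cj_le (cj_le_iff.2 (hC.nrm _ (hg s hs))))) h1
    simpa [mul_assoc] using this
  obtain ⟨r, hr, e⟩ := bigA_orb.1 ((h.big_fix hP hC d hd hU _ ((h3 s h4 d).2 hd)).1 fun u hu => by
    rw [← mul_smul, ← hc s hs u hu, mul_smul, mem_stabilizer_iff.1 hu.2])
  have h5 := hC.mv _ ((h3 _ h1 d).2 hd) _ (hg s hs) (bigA_orb.2 ⟨_, conj_mem_of_norm' h2 hr, by
    simp only [mul_smul, smul_inv_smul, e]⟩)
  simpa [mul_assoc] using conj_mem_of_norm h2 h5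

/-- `Z_D` is a `p'`-group normalised by `R`. -/
theorem Hyp.big_zd (h : Hyp G Ω p q) {P R : Subgroup G} (hP : Syl p P) {c : Ω} (hC : Cfa p P R c) (d : Ω)
    (hd : d ∈ orbit P c) (hU : R ⊓ stabilizer G d ≠ ⊥) :
    ¬ p ∣ Nat.card (ZD P R c d) ∧ (∀ r ∈ R, ∀ z ∈ ZD P R c d, r * z * r⁻¹ ∈ ZD P R c d) ∧
      ∀ z ∈ ZD P R c d, z ∈ R → z = 1 := by
  have : Fact p.Prime := ⟨h.hp⟩
  have k : ∀ r ∈ R, ∀ a, r • a ∈ orbit P c \ orbit R d ↔ a ∈ orbit P c \ orbit R d := fun r hr a =>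
    and_congr (bigA_smul (hC.le hr)) (not_congr (bigA_smul hr))
  have h2 : ∀ r ∈ R, ∀ z ∈ ZD P R c d, r * z * r⁻¹ ∈ ZD P R c d := fun r hr z hz =>
    (mem_fixingSubgroup_iff G).2 fun a ha => by
      rw [mul_smul, mul_smul, (mem_fixingSubgroup_iff G).1 hz _ ((k _ (inv_mem hr) a).2 ha), smul_inv_smul]
  have h3 : ∀ z ∈ ZD P R c d, z ∈ R → z = 1 := fun z hz hr =>
    hC.wt z hr d hd fun e he he' => (mem_fixingSubgroup_iff G).1 hz e ⟨he, he'⟩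
  refine ⟨?_, h2, h3⟩
  have h4 : ZD P R c d ⊔ R ≤ Subgroup.centralizer ((R ⊓ stabilizer G d : Subgroup G) : Set G) := by
    refine sup_le (fun z hz => mem_cent.2 fun u hu => eq_of_smul_eq_smul (α := Ω) fun a => ?_)
      fun r hr => mem_cent.2 fun u hu => hC.comm u hu.1 r hr
    have hz' := (mem_fixingSubgroup_iff G).1 hz
    have hu' : ∀ a, a ∉ orbit P c \ orbit R d → u • a = a := fun a ha => by
      by_cases ha' : a ∈ orbit P c
      · exact (h.big_fix hP hC d hd hU a ha').2 (not_not.1 fun e => ha ⟨ha', e⟩) u hu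
      · exact hC.fix a ha' u hu.1
    rw [mul_smul, mul_smul]
    by_cases ha : a ∈ orbit P c \ orbit R d
    · rw [hz' a ha, hz' _ ((k u hu.1 a).2 ha)]
    · rw [hu' a ha, hu' _ fun e => ha (by rwa [(smul_left_cancel_iff z).1 (hz' _ e)] at e)]
  obtain ⟨T, h5, h6⟩ := Loc.Mss.Syl.exists_ge (hP.pg.to_le hC.le) (le_sup_right : R ≤ ZD P R c d ⊔ R)
  obtain rfl : T = R := h.big_syl hP hC d hd hU T h6.pg h5 fun s hs u hu => (mem_cent.1 (h4 (h6.le hs)) u hu).symm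
  have h7 := (h6.inf le_sup_left fun r hr => mem_norm_of_cj_le (cj_le_iff.2 (h2 r hr))).eq_bot_iff.1
    ((Subgroup.eq_bot_iff_forall _).2 fun z hz => h3 z hz.2 hz.1)
  exact (h.hp.coprime_iff_not_dvd).1 h7.symm

end Cfsg.Agent.EL
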