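import Mathlib
import Cfsg.Agent.EL.Defs
import Cfsg.Agent.EL.Orb
import Cfsg.Agent.EL.TriA
import Cfsg.Agent.EL.TriC
import Cfsg.Agent.EL.BigA

set_option autoImplicit false

namespace Cfsg.Agent.EL

open MulAction

variable {G Ω : Type*} [Group G] [Finite G] [MulAction G Ω] [FaithfulSMul G Ω] [Finite Ω] {p q : ℕ}

namespace BigB9

omit [Finite G] [FaithfulSMul G Ω] [Finite Ω] in
theorem mem_orb {A : Subgroup G} {a b : Ω} : b ∈ orbit A a ↔ ∃ y ∈ A, y • a = b :=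
  ⟨fun ⟨y, e⟩ => ⟨y, y.2, e⟩, fun ⟨y, hy, e⟩ => ⟨⟨y, hy⟩, e⟩⟩

omit [Finite G] [FaithfulSMul G Ω] [Finite Ω] in
theorem fix_of_one {A : Subgroup G} {a : Ω} (h : ol A a = 1) : ∀ y ∈ A, y • a = a := fun y hy =>
  congrArg Subtype.val ((Nat.card_eq_one_iff_unique.1 h).1.elim
    ⟨y • a, mem_orb.2 ⟨y, hy, rfl⟩⟩ ⟨a, mem_orbit_self a⟩)

omit [Finite G] [FaithfulSMul G Ω] in
/-- A non-trivial orbit of a `p`-group inside a set of at most `p` points is the whole set. -/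
theorem full (hp : p.Prime) {A : Subgroup G} (hA : IsPGroup p A) {a : Ω} {T : Set Ω} (hT : Nat.card T ≤ p)
    (h : orbit A a ⊆ T) : (∀ y ∈ A, y • a = a) ∨ orbit A a = T := by
  have := Fact.mk hp
  obtain ⟨k, hk⟩ := hA.card_orbit a
  rcases k with _ | k
  · exact .inl (fix_of_one hk)
  refine .inr (Set.eq_of_subset_of_ncard_le h (hT.trans ?_))
  exact (Nat.le_of_dvd (pow_pos hp.pos _) (dvd_pow_self p k.succ_ne_zero)).trans hk.ge

omit [Finite G] [FaithfulSMul G Ω] in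
/-- A `p'`-group normalised by a `p`-group whose orbit contains its own fixes the point. -/
theorem fix_of_sub (hp : p.Prime) {Z R : Subgroup G} (hZ : ¬ p ∣ Nat.card Z) (hR : IsPGroup p R)
    (hn : ∀ r ∈ R, ∀ z ∈ Z, r * z * r⁻¹ ∈ Z) {d : Ω} (h : ∀ z ∈ Z, z • d ∈ orbit R d) :
    ∀ z ∈ Z, z • d = d := by
  have := Fact.mk hp
  let B : Subgroup G :=
    { carrier := {r | r ∈ R ∧ ∃ z ∈ Z, z • d = r • d}
      one_mem' := ⟨one_mem _, 1, one_mem _, rfl⟩
      mul_mem' := fun {a b} ⟨ha, z, hz, e⟩ ⟨hb, w, hw, e'⟩ => ⟨mul_mem ha hb, a * w * a⁻¹ * z,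
        mul_mem (hn a ha w hw) hz, by rw [mul_smul, e, ← mul_smul, inv_mul_cancel_right, mul_smul, e', mul_smul]⟩
      inv_mem' := fun {a} ⟨ha, z, hz, e⟩ => ⟨inv_mem ha, a⁻¹ * z⁻¹ * a⁻¹⁻¹,
        hn _ (inv_mem ha) _ (inv_mem hz), by rw [inv_inv, mul_smul, ← e, mul_smul, inv_smul_smul]⟩ }
  have e : orbit B d = orbit Z d := Set.ext fun x => ⟨fun hx => by
    obtain ⟨r, ⟨-, z, hz, e⟩, rfl⟩ := mem_orb.1 hx
    exact mem_orb.2 ⟨z, hz, e⟩, fun hx => by
    obtain ⟨z, hz, rfl⟩ := mem_orb.1 hx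
    obtain ⟨r, hr, e⟩ := mem_orb.1 (h z hz)
    exact mem_orb.2 ⟨r, ⟨hr, z, hz, e.symm⟩, e⟩⟩
  obtain ⟨k, hk⟩ := (hR.to_le (show B ≤ R from fun _ h => h.1)).card_orbit d
  rw [e] at hk
  have h1 : Nat.card (orbit Z d) ∣ Nat.card Z := by
    rw [Nat.card_coe_set_eq, ← index_stabilizer]
    exact Subgroup.index_dvd_card _
  rcases k with _ | k
  · exact fix_of_one hk
  · exact (hZ ((dvd_pow_self p k.succ_ne_zero).trans (hk ▸ h1))).elim

end BigB9

open BigB9 in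
/-- `Z_D` moves `d` out of the long orbit. -/
theorem Hyp.bigB (h : Hyp G Ω p q) {P R : Subgroup G} (hP : Syl p P) {c : Ω} (hC : Cfa p P R c) (d : Ω)
    (hd : d ∈ orbit P c) (hU : R ⊓ stabilizer G d ≠ ⊥) : ∃ z ∈ ZD P R c d, z • d ∉ orbit P c := by
  by_contra! hn
  have hp := h.hp
  have hR : IsPGroup p R := hP.pg.to_le hC.le
  have hUp : IsPGroup p ↥(R ⊓ stabilizer G d) := hR.to_le inf_le_left
  have bf := h.big_fix hP hC d hd hU
  obtain ⟨z1, z2, -⟩ := h.big_zd hP hC d hd hU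
  have inΓ : ∀ y ∈ R, ∀ e ∈ orbit P c, y • e ∈ orbit P c := fun y hy e he =>
    mem_orbit_of_mem_orbit (⟨y, hC.le hy⟩ : P) he
  have inD : ∀ y ∈ R, ∀ e ∈ orbit R d, y • e ∈ orbit R d := fun y hy e he =>
    mem_orbit_of_mem_orbit (⟨y, hy⟩ : R) he
  have DΓ : ∀ e ∈ orbit R d, e ∈ orbit P c := fun e he => by
    obtain ⟨y, hy, rfl⟩ := mem_orb.1 he
    exact inΓ y hy d hd
  have mZ : ∀ {z : G}, z ∈ ZD P R c d ↔ ∀ e ∈ orbit P c, e ∉ orbit R d → z • e = e := fun {z} =>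
    (mem_fixingSubgroup_iff G).trans ⟨fun k e h1 h2 => k e ⟨h1, h2⟩, fun k e he => k e he.1 he.2⟩
  -- `Z` fixes the block
  have Zd : ∀ z ∈ ZD P R c d, z • d = d := fix_of_sub hp z1 hR z2 fun z hz => by
    by_contra k
    have := mZ.1 (inv_mem hz) _ (hn z hz) k
    rw [inv_smul_smul] at this
    exact k (this ▸ mem_orbit_self d)
  have ZD' : ∀ z ∈ ZD P R c d, ∀ e ∈ orbit R d, z • e = e := fun z hz e he => by
    obtain ⟨y, hy, rfl⟩ := mem_orb.1 he
    have := Zd _ (z2 _ (inv_mem hy) z hz)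
    rwa [inv_inv, mul_smul, mul_smul, inv_smul_eq_iff] at this
  -- the second group
  obtain ⟨b, hb⟩ := hC.ex
  obtain ⟨g, gb, hg⟩ := h.o_f2 hP b (hC.short b hb) _ hUp d fun u hu => hu.2
  let R' := R.map (MulAut.conj g).toMonoidHom
  have hm : ∀ {y : G}, y ∈ R' ↔ g⁻¹ * y * g ∈ R := fun {y} =>
    ⟨by rintro ⟨x, hx, rfl⟩; simpa [mul_assoc] using hx, fun k => ⟨_, k, by simp [mul_assoc]⟩⟩
  have hR' : IsPGroup p R' := hR.map _
  have UR' : R ⊓ stabilizer G d ≤ R' := fun u hu => hm.2 (hC.om _ (hg u hu) (by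
    have := conj_pow (i := p) (a := g⁻¹) (b := u)
    rw [inv_inv] at this
    rw [this, hC.exp u hu.1, mul_one, inv_mul_cancel]))
  have R'd : ∀ y ∈ R', y • d = d := fun y hy => by
    have := hC.fix b hb _ (hm.1 hy)
    rwa [mul_smul, mul_smul, inv_smul_eq_iff, gb] at this
  have R'c : ∀ y ∈ R', ∀ z ∈ R', y * z = z * y := by
    rintro _ ⟨y, hy, rfl⟩ _ ⟨z, hz, rfl⟩
    rw [← map_mul, hC.comm y hy z hz, map_mul]
  have oR : ∀ e, ol R e ≤ p := fun e => by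
    by_cases k : e ∈ orbit P c
    · exact (hC.blk e k).le
    · have : orbit R e = {e} := Set.eq_singleton_iff_unique_mem.2 ⟨mem_orbit_self e, fun x hx => by
        obtain ⟨y, hy, rfl⟩ := mem_orb.1 hx
        exact hC.fix e k y hy⟩
      rw [ol, this, Nat.card_unique]
      exact hp.one_le
  have oR' : ∀ e, ol R' e ≤ p := fun e => by
    refine le_trans ?_ (oR (g⁻¹ • e))
    refine Nat.card_le_card_of_injective (fun x : orbit R' e => (⟨g⁻¹ • x.1, ?_⟩ : orbit R (g⁻¹ • e))) ?_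
    · obtain ⟨y, hy, k⟩ := mem_orb.1 x.2
      exact mem_orb.2 ⟨_, hm.1 hy, by rw [mul_smul, smul_inv_smul, mul_smul, k]⟩
    · exact fun x y k => Subtype.ext (MulAction.injective g⁻¹ (congrArg Subtype.val k))
  have nR : ¬ R ≤ stabilizer G d := fun k => by
    have e : orbit R d = {d} := Set.eq_singleton_iff_unique_mem.2 ⟨mem_orbit_self d, fun x hx => by
      obtain ⟨y, hy, rfl⟩ := mem_orb.1 hx
      exact k hy⟩
    have := hC.blk d hd
    rw [ol, e, Nat.card_unique] at this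
    exact hp.one_lt.ne this
  -- off the block both groups act as `U`
  have sub : ∀ {A : Subgroup G}, R ⊓ stabilizer G d ≤ A → (∀ e, ol A e ≤ p) → ∀ e ∈ orbit P c, e ∉ orbit R d →
      ∀ y ∈ A, ∃ u ∈ R ⊓ stabilizer G d, u • e = y • e := fun {A} hA ho e he hD y hy => by
    rcases full hp hUp (ho e) (a := e) (fun x hx => by
      obtain ⟨w, hw, rfl⟩ := mem_orb.1 hx
      exact mem_orb.2 ⟨w, hA hw, rfl⟩) with k | k
    · exact (hD ((bf e he).1 k)).elim
    · exact mem_orb.1 (k.ge (mem_orb.2 ⟨y, hy, rfl⟩))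
  have cm : ∀ r ∈ R, ∀ y ∈ R', ∀ e ∈ orbit P c, e ∉ orbit R d → r • y • e = y • r • e :=
    fun r hr y hy e he hD => by
      obtain ⟨u, hu, e1⟩ := sub inf_le_left oR e he hD r hr
      obtain ⟨w, hw, e2⟩ := sub UR' oR' e he hD y hy
      rw [← e2, ← mul_smul, hC.comm r hr w hw.1, mul_smul, ← e1, ← mul_smul y, R'c y hy u (UR' hu), mul_smul,
        ← e2, ← mul_smul, ← mul_smul, hC.comm w hw.1 u hu.1]
  obtain ⟨r, hr, rd⟩ := SetLike.not_le_iff_exists.1 nR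
  have R'D : ∀ y ∈ R', ∀ e ∈ orbit R d, y • e ∈ orbit R d := fun y hy e he => by
    by_contra k
    have h1 : y • e ∉ orbit P c := fun k' => k ((bf _ k').1 fun u hu => by
      rw [← mul_smul, R'c u (UR' hu) y hy, mul_smul, (bf e (DΓ e he)).2 he u hu])
    have h2 : r * y⁻¹ * r⁻¹ * y ∈ ZD P R c d := mZ.2 fun x hx hx' => by
      rw [mul_smul, mul_smul, mul_smul, cm _ (inv_mem hr) y hy x hx hx', inv_smul_smul, smul_inv_smul]
    have h3 := ZD' _ h2 e he
    rw [mul_smul, mul_smul, mul_smul, hC.fix _ h1 _ (inv_mem hr), inv_smul_smul] at h3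
    obtain ⟨s, hs, rfl⟩ := mem_orb.1 he
    rw [← mul_smul, hC.comm r hr s hs, mul_smul] at h3
    exact rd (MulAction.injective s h3)
  have R'f : ∀ y ∈ R', ∀ e ∈ orbit R d, y • e = e := fun y hy e he => by
    rcases full hp hR' (oR d) (a := e) (fun x hx => by
      obtain ⟨w, hw, rfl⟩ := mem_orb.1 hx
      exact R'D w hw e he) with k | k
    · exact k y hy
    · obtain ⟨w, hw, e1⟩ := mem_orb.1 (k.ge (mem_orbit_self d))
      rw [smul_eq_iff_eq_inv_smul, R'd _ (inv_mem hw)] at e1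
      rw [e1, R'd y hy]
  have R'Γ : ∀ y ∈ R', ∀ e ∈ orbit P c, y • e ∈ orbit P c := fun y hy e he => by
    by_cases k : e ∈ orbit R d
    · rwa [R'f y hy e k]
    · obtain ⟨w, hw, e2⟩ := sub UR' oR' e he k y hy
      exact e2 ▸ inΓ w hw.1 e he
  have cen : ∀ s ∈ R, ∀ y ∈ R', s * y = y * s := fun s hs y hy => eq_of_smul_eq_smul (α := Ω) fun e => by
    rw [mul_smul, mul_smul]
    by_cases k : e ∈ orbit P c
    · by_cases k' : e ∈ orbit R d
      · rw [R'f y hy e k', R'f y hy _ (inD s hs e k')]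
      · exact cm s hs y hy e k k'
    · rw [hC.fix e k s hs, hC.fix _ (fun k' => k ?_) s hs]
      have := R'Γ _ (inv_mem hy) _ k'
      rwa [inv_smul_smul] at this
  have hS : IsPGroup p ↥(R' ⊔ R) := hR'.to_sup_of_normal_right' hR fun y hy =>
    Subgroup.mem_normalizer_fintype fun s hs => by
      rwa [← cen s hs y hy, mul_inv_cancel_right]
  have e := h.big_syl hP hC d hd hU _ hS le_sup_right fun s hs u hu =>
    ((sup_le (fun y hy => Subgroup.mem_centralizer_singleton_iff.2 (R'c y hy u (UR' hu)))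
      (fun y hy => Subgroup.mem_centralizer_singleton_iff.2 (hC.comm y hy u hu.1)) :
        R' ⊔ R ≤ Subgroup.centralizer {u}) hs u rfl).symm
  have e2 : R' = R := Subgroup.eq_of_le_of_card_ge (le_sup_left.trans e.le)
    (Subgroup.card_map_of_injective (MulAut.conj g).injective).ge
  exact rd (R'd r (e2.ge hr))

end Cfsg.Agent.EL
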