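import Mathlib
import Cfsg.Agent.EL.Defs
import Cfsg.Agent.EL.Orb
import Cfsg.Agent.EL.TriA
import Cfsg.Agent.EL.TriC
import Cfsg.Agent.EL.BigA

set_option autoImplicit false

namespace Cfsg.Agent.EL

open MulAction

/-- The product of `Z` with a subgroup `R` normalising it. -/
def bigT_prod {G : Type*} [Group G] (Z R : Subgroup G) (hn : ∀ r ∈ R, ∀ z ∈ Z, r * z * r⁻¹ ∈ Z) :
    Subgroup G where
  carrier := {g | ∃ z ∈ Z, ∃ r ∈ R, g = z * r}
  one_mem' := ⟨1, Z.one_mem, 1, R.one_mem, (mul_one 1).symm⟩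
  mul_mem' := by
    rintro _ _ ⟨z, hz, r, hr, rfl⟩ ⟨z', hz', r', hr', rfl⟩
    exact ⟨z * (r * z' * r⁻¹), Z.mul_mem hz (hn r hr z' hz'), r * r', R.mul_mem hr hr', by group⟩
  inv_mem' := by
    rintro _ ⟨z, hz, r, hr, rfl⟩
    exact ⟨r⁻¹ * z⁻¹ * r⁻¹⁻¹, hn _ (R.inv_mem hr) _ (Z.inv_mem hz), r⁻¹, R.inv_mem hr, by group⟩

theorem bigT_pow {G Ω : Type*} [Group G] [MulAction G Ω] {z r : G} (hc : z * r = r * z) {d : Ω}
    (e : z • d = r • d) (j : ℕ) : z ^ j • d = r ^ j • d := by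
  induction j with
  | zero => rw [pow_zero, pow_zero]
  | succ j ih =>
    have k : z * r ^ j = r ^ j * z := (Commute.pow_right (show Commute z r from hc) j).eq
    rw [pow_succ', mul_smul, ih, smul_smul, k, mul_smul, e, smul_smul, ← pow_succ]

variable {G Ω : Type*} [Group G] [Finite G] [MulAction G Ω] [FaithfulSMul G Ω] [Finite Ω] {p q : ℕ}

/-- The part of the `Z_D`-orbit of `d` outside the long orbit is one orbit of the pointwise stabiliser of the long orbit. -/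
theorem Hyp.bigT (h : Hyp G Ω p q) {P R : Subgroup G} (hP : Syl p P) {c : Ω} (hC : Cfa p P R c) (d : Ω)
    (hd : d ∈ orbit P c) (hU : R ⊓ stabilizer G d ≠ ⊥) (a : Ω) (ha : a ∉ orbit P c) (had : a ∈ orbit (ZD P R c d) d) :
    orbit (ZD P R c d) d = orbit R d ∪ orbit (fixingSubgroup G (orbit P c)) a := by
  obtain ⟨z1, z2, z3⟩ := h.big_zd hP hC d hd hU
  have memZ : ∀ z : G, z ∈ ZD P R c d ↔ ∀ e ∈ orbit P c \ orbit R d, z • e = e := fun z =>
    mem_fixingSubgroup_iff G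
  have memE : ∀ z : G, z ∈ fixingSubgroup G (orbit P c) ↔ ∀ e ∈ orbit P c, z • e = e := fun z =>
    mem_fixingSubgroup_iff G
  -- points of the long orbit in the `Z`-orbit of `d` lie in the block
  have inD : ∀ z ∈ ZD P R c d, z • d ∈ orbit P c → z • d ∈ orbit R d := by
    intro z hz hΓ
    by_contra k
    have e := (memZ _).1 ((ZD P R c d).inv_mem hz) _ ⟨hΓ, k⟩
    rw [inv_smul_smul] at e
    exact k (e ▸ mem_orbit_self d)
  obtain ⟨⟨z0, hz0⟩, e0⟩ := had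
  replace e0 : z0 • d = a := e0
  refine Set.Subset.antisymm ?_ ?_
  · rintro _ ⟨⟨y, hy⟩, rfl⟩
    change y • d ∈ _
    by_cases hΓ : y • d ∈ orbit P c
    · exact Or.inl (inD y hy hΓ)
    right
    have hz : y * z0⁻¹ ∈ ZD P R c d := Subgroup.mul_mem _ hy (Subgroup.inv_mem _ hz0)
    have ez : (y * z0⁻¹) • a = y • d := by rw [mul_smul, ← e0, inv_smul_smul]
    generalize y * z0⁻¹ = z at hz ez
    generalize y • d = a' at hΓ ez
    obtain ⟨k, ⟨hk1, hk2⟩, hkN⟩ := h.o_witt hP R (bigT_prod (ZD P R c d) R z2 ⊓ stabilizer G a')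
      (hP.pg.to_le hC.le) hC.idx a' (fun k hk => hk.2)
      (fun r hr => ⟨⟨1, Subgroup.one_mem _, r, hr, (one_mul r).symm⟩, hC.fix a' hΓ r hr⟩) z
      (fun r hr => ⟨⟨z * (r * z⁻¹ * r⁻¹), Subgroup.mul_mem _ hz (z2 r hr _ (Subgroup.inv_mem _ hz)),
        r, hr, by group⟩, by
          change (z * r * z⁻¹) • a' = a'
          rw [← ez, mul_smul, inv_smul_smul, mul_smul, hC.fix a ha r hr]⟩)
    replace hk2 : k • a' = a' := hk2
    obtain ⟨z', hz', r, hr, ek⟩ := (bigT_prod (ZD P R c d) R z2).mul_mem hk1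
      (show z ∈ bigT_prod (ZD P R c d) R z2 from ⟨z, hz, 1, R.one_mem, (mul_one z).symm⟩)
    have ez' : z' = k * z * r⁻¹ := by rw [ek, mul_inv_cancel_right]
    have hN : z' ∈ Subgroup.normalizer (R : Set G) :=
      ez' ▸ Subgroup.mul_mem _ hkN (Subgroup.le_normalizer (R.inv_mem hr))
    have ea : z' • a = a' := by
      rw [ez', mul_smul, hC.fix a ha _ (R.inv_mem hr), mul_smul, ez, hk2]
    have cm : ∀ s ∈ R, z' * s = s * z' := by
      intro s hs
      have k1 : z' * (s * z'⁻¹ * s⁻¹) ∈ ZD P R c d :=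
        Subgroup.mul_mem _ hz' (z2 s hs _ (Subgroup.inv_mem _ hz'))
      have k2 : z' * (s * z'⁻¹ * s⁻¹) ∈ R := by
        have := R.mul_mem ((Subgroup.mem_normalizer_iff.1 hN s).1 hs) (R.inv_mem hs)
        simpa only [mul_assoc] using this
      have k3 := z3 _ k1 k2
      calc z' * s = z' * (s * z'⁻¹ * s⁻¹) * (s * z') := by group
        _ = s * z' := by rw [k3, one_mul]
    obtain ⟨⟨r1, hr1⟩, e1⟩ := inD z' hz' (((h.cfa_norm hP hC).1 z' hN d).2 hd)
    replace e1 : r1 • d = z' • d := e1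
    have ej := bigT_pow (cm r1 hr1) e1.symm (Nat.card (ZD P R c d))
    have eo : z' ^ Nat.card (ZD P R c d) = 1 := by
      have := pow_card_eq_one' (x := (⟨z', hz'⟩ : ZD P R c d))
      exact congrArg Subtype.val this
    rw [eo, one_smul] at ej
    have er : r1 ∈ stabilizer G d := by
      have cop : Nat.Coprime (Nat.card (ZD P R c d)) p :=
        ((Nat.Prime.coprime_iff_not_dvd h.hp).2 z1).symm
      obtain ⟨m, hm⟩ := exists_pow_eq_self_of_coprime (x := r1)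
        (cop.coprime_dvd_right (orderOf_dvd_of_pow_eq_one (hC.exp r1 hr1)))
      rw [← hm]
      exact Subgroup.pow_mem _ (mem_stabilizer_iff.2 ej.symm) m
    have ed : z' • d = d := e1.symm.trans er
    refine ⟨⟨z', (memE _).2 fun e he => ?_⟩, ea⟩
    by_cases hD : e ∈ orbit R d
    · obtain ⟨⟨s, hs⟩, rfl⟩ := hD
      change z' • s • d = s • d
      rw [smul_smul, cm s hs, mul_smul, ed]
    · exact (memZ _).1 hz' e ⟨he, hD⟩
  · rintro _ (⟨⟨r, hr⟩, rfl⟩ | ⟨⟨y, hy⟩, rfl⟩)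
    · refine ⟨⟨(r * z0 * r⁻¹)⁻¹ * z0, Subgroup.mul_mem _ (Subgroup.inv_mem _ (z2 r hr z0 hz0)) hz0⟩, ?_⟩
      change ((r * z0 * r⁻¹)⁻¹ * z0) • d = r • d
      rw [mul_smul, inv_smul_eq_iff, e0, mul_smul, inv_smul_smul, mul_smul, e0, hC.fix a ha r hr]
    · refine ⟨⟨y * z0, Subgroup.mul_mem _ ((memZ _).2 fun e he => (memE _).1 hy e he.1) hz0⟩, ?_⟩
      change (y * z0) • d = y • a
      rw [mul_smul, e0]

end Cfsg.Agent.EL
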