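/-
A `p`-group normalising a `p'`-group acts trivially on an invariant orbit of length `2q`, `q < p`.
-/
import Mathlib
import Cfsg.Agent.EL.Defs

set_option autoImplicit false

namespace Cfsg.Agent.EL

open MulAction Pointwise

variable {G Ω : Type*} [Group G] [Finite G] [MulAction G Ω] [FaithfulSMul G Ω] [Finite Ω] {p q : ℕ}

/-- A `p`-group normalising a `p'`-group normalises a Sylow `q`-subgroup of it. -/
theorem sq_syl (hp : p.Prime) (hq : q.Prime) (Z R : Subgroup G) (hZ : ¬ p ∣ Nat.card Z)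
    (hR : IsPGroup p R) (hn : ∀ r ∈ R, ∀ z ∈ Z, r * z * r⁻¹ ∈ Z) :
    ∃ Q : Sylow q Z, ∀ r ∈ R, ∀ y ∈ (Q : Subgroup Z), ∃ y' ∈ (Q : Subgroup Z), (y' : G) = r * y * r⁻¹ := by
  haveI := Fact.mk hp
  haveI := Fact.mk hq
  have hle : R ≤ Subgroup.normalizer (Z : Set G) := by
    intro r hr
    rw [Subgroup.mem_normalizer_iff]
    intro z
    refine ⟨hn r hr z, fun h => ?_⟩
    have := hn r⁻¹ (R.inv_mem hr) _ h
    simpa [mul_assoc] using this
  letI : MulAction R (Sylow q Z) :=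
    MulAction.compHom _ (Z.normalizerMonoidHom.comp (Subgroup.inclusion hle))
  have hnd : ¬ p ∣ Nat.card (Sylow q Z) := by
    intro h
    obtain ⟨Q⟩ := (inferInstance : Nonempty (Sylow q Z))
    exact hZ ((h.trans Q.card_dvd_index).trans (Subgroup.index_dvd_card _))
  obtain ⟨Q, hQ⟩ := hR.nonempty_fixed_point_of_prime_not_dvd_card (Sylow q Z) hnd
  refine ⟨Q, fun r hr y hy => ?_⟩
  have h1 : (Z.normalizerMonoidHom (Subgroup.inclusion hle ⟨r, hr⟩)) • Q = Q := hQ ⟨r, hr⟩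
  refine ⟨Z.normalizerMonoidHom (Subgroup.inclusion hle ⟨r, hr⟩) y, ?_, rfl⟩
  have h2 : (Z.normalizerMonoidHom (Subgroup.inclusion hle ⟨r, hr⟩)) • y ∈
      ((Z.normalizerMonoidHom (Subgroup.inclusion hle ⟨r, hr⟩)) • (Q : Subgroup Z)) :=
    Subgroup.smul_mem_pointwise_smul _ _ _ hy
  rw [← Sylow.pointwise_smul_def, h1] at h2
  exact h2

omit [FaithfulSMul G Ω] in
/-- The orbits of a Sylow `q`-subgroup on an orbit of length `2q` have length `q`. -/
theorem sq_len (hq : q.Prime) (q3 : 3 ≤ q) (Z : Subgroup G) (Q : Sylow q Z) (a : Ω) (ha : ol Z a = 2 * q)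
    (b : Ω) (hb : b ∈ orbit Z a) : (orbit (Q : Subgroup Z) b).ncard = q := by
  haveI := Fact.mk hq
  have hob : orbit Z b = orbit Z a := orbit_eq_iff.2 hb
  obtain ⟨n, hn⟩ := Q.isPGroup'.card_orbit b
  have hsub : orbit (Q : Subgroup Z) b ⊆ orbit Z b := orbit_subgroup_subset _ _
  have hle : (orbit (Q : Subgroup Z) b).ncard ≤ 2 * q := by
    have := Set.ncard_le_ncard hsub (Set.toFinite _)
    rw [hob] at this
    exact this.trans (le_of_eq ha)
  have hn' : (orbit (Q : Subgroup Z) b).ncard = q ^ n := hn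
  rcases n with _ | _ | n
  · exfalso
    rw [pow_zero, Set.ncard_eq_one] at hn'
    obtain ⟨c, hc⟩ := hn'
    have hst : (Q : Subgroup Z) ≤ stabilizer Z b := by
      intro y hy
      have h1 : (⟨y, hy⟩ : (Q : Subgroup Z)) • b ∈ orbit (Q : Subgroup Z) b := mem_orbit _ _
      have h2 : b ∈ orbit (Q : Subgroup Z) b := mem_orbit_self _
      rw [hc, Set.mem_singleton_iff] at h1 h2
      rw [mem_stabilizer_iff]
      exact h1.trans h2.symm
    have h3 := Subgroup.index_dvd_of_le hst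
    rw [index_stabilizer, hob] at h3
    have h4 : (orbit Z a).ncard = 2 * q := ha
    rw [h4] at h3
    exact Q.not_dvd_index ((Dvd.intro_left 2 rfl).trans h3)
  · simpa using hn'
  · exfalso
    rw [hn'] at hle
    have : q ^ 2 ≤ q ^ (n + 1 + 1) := Nat.pow_le_pow_right hq.pos (by omega)
    nlinarith

/-- A `p`-group normalising a `p'`-group acts trivially on an invariant orbit of length `2q`, `q < p`. -/
theorem sq_triv (hp : p.Prime) (hq : q.Prime) (q3 : 3 ≤ q) (qp : q < p) (Z R : Subgroup G) (hZ : ¬ p ∣ Nat.card Z)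
    (hR : IsPGroup p R) (hn : ∀ r ∈ R, ∀ z ∈ Z, r * z * r⁻¹ ∈ Z) (a : Ω) (ha : ol Z a = 2 * q)
    (hi : ∀ r ∈ R, r • a ∈ orbit Z a) : ∀ r ∈ R, r • a = a := by
  haveI := Fact.mk hp
  obtain ⟨Q, hQ⟩ := sq_syl hp hq Z R hZ hR hn
  have len := sq_len hq q3 Z Q a ha
  -- conjugation carries `Q`-orbits to `Q`-orbits
  have car : ∀ r ∈ R, ∀ b c : Ω, b ∈ orbit (Q : Subgroup Z) c → r • b ∈ orbit (Q : Subgroup Z) (r • c) := by
    rintro r hr b c ⟨⟨y, hy⟩, rfl⟩
    obtain ⟨y', hy', e⟩ := hQ r hr y hy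
    refine ⟨⟨y', hy'⟩, ?_⟩
    show (y' : G) • r • c = r • (y : G) • c
    rw [e, mul_smul, mul_smul, inv_smul_smul]
  have tr : ∀ b c d : Ω, b ∈ orbit (Q : Subgroup Z) c → c ∈ orbit (Q : Subgroup Z) d →
      b ∈ orbit (Q : Subgroup Z) d := by
    intro b c d h1 h2
    rw [← orbit_eq_iff.2 h2]
    exact h1
  have sy : ∀ b c : Ω, b ∈ orbit (Q : Subgroup Z) c → c ∈ orbit (Q : Subgroup Z) b := by
    intro b c h
    exact mem_orbit_symm.1 h
  have dis : ∀ b c : Ω, b ∉ orbit (Q : Subgroup Z) c →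
      Disjoint (orbit (Q : Subgroup Z) b) (orbit (Q : Subgroup Z) c) := by
    intro b c h
    rw [Set.disjoint_left]
    intro e h1 h2
    exact h (tr _ _ _ (sy _ _ h1) h2)
  have sub : ∀ b ∈ orbit Z a, orbit (Q : Subgroup Z) b ⊆ orbit Z a := by
    intro b hb
    rw [← orbit_eq_iff.2 hb]
    exact orbit_subgroup_subset _ _
  have pw : ∀ r ∈ R, r • a ∈ orbit (Q : Subgroup Z) a → ∀ n : ℕ, r ^ n • a ∈ orbit (Q : Subgroup Z) a := by
    intro r hr h n
    induction n with
    | zero => simpa using mem_orbit_self a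
    | succ n ih =>
      rw [pow_succ', mul_smul]
      exact tr _ _ _ (car r hr _ _ ih) h
  have key : ∀ r ∈ R, r • a ∈ orbit (Q : Subgroup Z) a := by
    intro r hr
    by_contra h1
    have h2 : (r * r) • a ∉ orbit (Q : Subgroup Z) (r • a) := by
      intro h
      have := car r⁻¹ (R.inv_mem hr) _ _ h
      rw [mul_smul, inv_smul_smul, inv_smul_smul] at this
      exact h1 this
    have h3 : (r * r) • a ∉ orbit (Q : Subgroup Z) a := by
      intro h
      obtain ⟨k, hk⟩ := hR ⟨r, hr⟩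
      have hk' : r ^ p ^ k = 1 := congrArg Subtype.val hk
      have hodd : Odd (p ^ k) := (hp.odd_of_ne_two (by omega)).pow
      obtain ⟨m, hm⟩ := hodd
      have h4 := pw (r * r) (R.mul_mem hr hr) h (m + 1)
      have h5 : (r * r) ^ (m + 1) = r := by
        rw [← pow_two, ← pow_mul, show 2 * (m + 1) = p ^ k + 1 by omega, pow_succ, hk', one_mul]
      rw [h5] at h4
      exact h1 h4
    have ha0 : a ∈ orbit Z a := mem_orbit_self a
    have ha1 := hi r hr
    have ha2 := hi (r * r) (R.mul_mem hr hr)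
    have hu : orbit (Q : Subgroup Z) ((r * r) • a) ∪ (orbit (Q : Subgroup Z) (r • a) ∪ orbit (Q : Subgroup Z) a) ⊆
        orbit Z a := Set.union_subset (sub _ ha2) (Set.union_subset (sub _ ha1) (sub _ ha0))
    have hc := Set.ncard_le_ncard hu (Set.toFinite _)
    rw [Set.ncard_union_eq (Set.disjoint_union_right.2 ⟨dis _ _ h2, dis _ _ h3⟩),
      Set.ncard_union_eq (dis _ _ h1), len _ ha0, len _ ha1, len _ ha2] at hc
    have h4 : (orbit Z a).ncard = 2 * q := ha
    omega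
  have hsub : orbit R a ⊆ orbit (Q : Subgroup Z) a := by
    rintro b ⟨⟨r, hr⟩, rfl⟩
    exact key r hr
  have hle := Set.ncard_le_ncard hsub (Set.toFinite _)
  rw [len a (mem_orbit_self a)] at hle
  obtain ⟨n, hn'⟩ := hR.card_orbit a
  have hn2 : (orbit R a).ncard = p ^ n := hn'
  rcases n with _ | n
  · rw [pow_zero, Set.ncard_eq_one] at hn2
    obtain ⟨c, hc⟩ := hn2
    intro r hr
    have h1 : (⟨r, hr⟩ : R) • a ∈ orbit R a := mem_orbit _ _
    have h2 : a ∈ orbit R a := mem_orbit_self _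
    rw [hc, Set.mem_singleton_iff] at h1 h2
    exact h1.trans h2.symm
  · exfalso
    have : p ^ 1 ≤ p ^ (n + 1) := Nat.pow_le_pow_right hp.pos (by omega)
    rw [pow_one] at this
    omega

end Cfsg.Agent.EL
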