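import Mathlib
import Cfsg.Agent.EL.Defs
import Cfsg.Agent.EL.Orb
import Cfsg.Agent.EL.SQ
import Cfsg.Agent.EL.TriA
import Cfsg.Agent.EL.TriC
import Cfsg.Agent.EL.BigA
import Cfsg.Agent.EL.BigB
import Cfsg.Agent.EL.BigT

set_option autoImplicit false
set_option linter.unusedSectionVars false

namespace Cfsg.Agent.EL

open MulAction

variable {G Ω : Type*} [Group G] [Finite G] [MulAction G Ω] [FaithfulSMul G Ω] [Finite Ω] {p q : ℕ}

theorem BigC_orb {H : Subgroup G} {a b : Ω} : b ∈ orbit H a ↔ ∃ g ∈ H, g • a = b :=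
  ⟨fun ⟨g, e⟩ => ⟨g, g.2, e⟩, fun ⟨g, hg, e⟩ => ⟨⟨g, hg⟩, e⟩⟩

theorem BigC_smul {H : Subgroup G} {a b : Ω} {g : G} (hg : g ∈ H) (hb : b ∈ orbit H a) : g • b ∈ orbit H a := by
  obtain ⟨k, hk, rfl⟩ := BigC_orb.1 hb
  exact BigC_orb.2 ⟨g * k, mul_mem hg hk, mul_smul _ _ _⟩

theorem BigC_exx (hp : p.Prime) {P R : Subgroup G} {c : Ω} (hL : Lng p P R c) : ∃ x ∈ P, x ∉ R := by
  by_contra! k
  have h1 := hL.idx
  rw [le_antisymm k hL.le] at h1
  have h2 : 0 < Nat.card R := Nat.card_pos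
  have := hp.two_le
  nlinarith

/-- `P` normalises the pointwise stabiliser of its orbit. -/
theorem BigC_nE {P : Subgroup G} {c : Ω} {y e : G} (hy : y ∈ P) (he : e ∈ fixingSubgroup G (orbit P c)) :
    y * e * y⁻¹ ∈ fixingSubgroup G (orbit P c) := by
  rw [mem_fixingSubgroup_iff] at he ⊢
  intro b hb
  rw [mul_smul, mul_smul, he _ (BigC_smul (inv_mem hy) hb), smul_inv_smul]

theorem BigC_mv {P : Subgroup G} {c a b : Ω} {y : G} (hy : y ∈ P)
    (hb : b ∈ orbit (fixingSubgroup G (orbit P c)) a) : y • b ∈ orbit (fixingSubgroup G (orbit P c)) (y • a) := by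
  obtain ⟨e, he, rfl⟩ := BigC_orb.1 hb
  exact BigC_orb.2 ⟨_, BigC_nE hy he, by rw [mul_smul, mul_smul, inv_smul_smul]⟩

theorem BigC_out {P : Subgroup G} {c a b : Ω} (ha : a ∉ orbit P c)
    (hb : b ∈ orbit (fixingSubgroup G (orbit P c)) a) : b ∉ orbit P c := fun k => by
  obtain ⟨e, he, rfl⟩ := BigC_orb.1 hb
  have := (mem_fixingSubgroup_iff G).1 (inv_mem he) _ k
  rw [inv_smul_smul] at this
  exact ha (this ▸ k)

theorem BigC_zd {P R : Subgroup G} {c d : Ω} {n z : G} (hn : n ∈ Subgroup.normalizer (R : Set G))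
    (hΓ : ∀ b, n • b ∈ orbit P c ↔ b ∈ orbit P c) (hz : z ∈ ZD P R c d) : n * z * n⁻¹ ∈ ZD P R c (n • d) := by
  rw [mem_fixingSubgroup_iff] at hz ⊢
  rintro b ⟨hb, hb'⟩
  rw [mul_smul, mul_smul, hz (n⁻¹ • b) ⟨(hΓ _).1 (by rwa [smul_inv_smul]), fun k => hb' ?_⟩, smul_inv_smul]
  obtain ⟨r, hr, e⟩ := BigC_orb.1 k
  exact BigC_orb.2 ⟨_, (Subgroup.mem_normalizer_iff.1 hn r).1 hr, by
    rw [mul_smul, mul_smul, inv_smul_smul, e, smul_inv_smul]⟩

/-- A `p`-element without fixed points on an invariant set. -/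
theorem BigC_dvd (hp : p.Prime) {T : Set Ω} {y : G} {k : ℕ} (hy : y ^ p ^ k = 1) (hT : ∀ t ∈ T, y • t ∈ T)
    (hf : ∀ t ∈ T, y • t ≠ t) : p ∣ Nat.card T := by
  classical
  have := Fact.mk hp
  have := Fintype.ofFinite T
  let f : Function.End T := fun t => ⟨y • t.1, hT _ t.2⟩
  have h1 : ∀ (m : ℕ) (t : T), ((f ^ m) t : Ω) = y ^ m • t.1 := fun m => by
    induction m with
    | zero => intro t; rw [pow_zero, pow_zero, one_smul]; rfl
    | succ m ih => intro t; rw [pow_succ, pow_succ, mul_smul]; exact ih (f t)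
  have h2 := Equiv.Perm.card_fixedPoints_modEq (f := f) (p := p) (n := k)
    (funext fun t => Subtype.ext (by rw [h1, hy, one_smul]; rfl))
  have h3 : IsEmpty (Function.fixedPoints f) := ⟨fun t => hf _ t.1.2 (congrArg Subtype.val t.2)⟩
  rw [Fintype.card_eq_zero (α := Function.fixedPoints f)] at h2
  rw [Nat.card_eq_fintype_card]
  exact (Nat.modEq_zero_iff_dvd).1 h2

theorem Hyp.bigC (h : Hyp G Ω p q) {P R : Subgroup G} (hP : Syl p P) {c : Ω} (hC : Cfa p P R c) :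
    R ⊓ stabilizer G c = ⊥ := by
  by_contra hU
  have hc : c ∈ orbit P c := mem_orbit_self c
  have hU' : ∀ y ∈ P, R ⊓ stabilizer G (y • c) ≠ ⊥ := fun y hy k => hU (by
    rw [eq_bot_iff] at k ⊢
    intro u hu
    obtain ⟨u1, u2⟩ := Subgroup.mem_inf.1 hu
    have := k (Subgroup.mem_inf.2 ⟨hC.nrm y hy u u1, by
      rw [mem_stabilizer_iff] at u2 ⊢
      rw [mul_smul, mul_smul, inv_smul_smul, u2]⟩ : y * u * y⁻¹ ∈ R ⊓ stabilizer G (y • c))
    rw [Subgroup.mem_bot] at this ⊢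
    exact conj_eq_one_iff.1 this)
  obtain ⟨z, hz, ha⟩ := h.bigB hP hC c hc hU
  obtain ⟨x, hx, hxR⟩ := BigC_exx h.hp hC.toLng
  obtain ⟨z1, z2, -⟩ := h.big_zd hP hC c hc hU
  obtain ⟨n1, n2⟩ := h.cfa_norm hP hC
  obtain ⟨b1, b2⟩ := h.tri_blk hP hC.toLng x hx hxR c hc
  obtain ⟨q1, q2, -⟩ := h.tri_num hC.toLng
  obtain ⟨a, hza⟩ : ∃ a, a = z • c := ⟨_, rfl⟩
  rw [← hza] at ha
  have nP : ∀ y ∈ P, y ∈ Subgroup.normalizer (R : Set G) := fun y hy =>
    Subgroup.mem_normalizer_fintype fun r hr => hC.nrm y hy r hr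
  have mvZ : ∀ n ∈ Subgroup.normalizer (R : Set G), n • a ∈ orbit (ZD P R c (n • c)) (n • c) := fun n hn =>
    BigC_orb.2 ⟨_, BigC_zd hn (n1 n hn) hz, by rw [mul_smul, mul_smul, inv_smul_smul, hza]⟩
  have hT : ∀ y ∈ P, orbit (ZD P R c (y • c)) (y • c) =
      orbit R (y • c) ∪ orbit (fixingSubgroup G (orbit P c)) (y • a) := fun y hy =>
    h.bigT hP hC _ (BigC_smul hy hc) (hU' y hy) _ (fun k => ha ((n1 y (nP y hy) a).1 k)) (mvZ y (nP y hy))
  -- only `R` stabilises the orbit `T`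
  have key : ∀ y ∈ P, y • a ∈ orbit (fixingSubgroup G (orbit P c)) a → y ∈ R := fun y hy k => by
    by_contra hyR
    obtain ⟨m, hm⟩ := hP.pg ⟨y, hy⟩
    have h1 : p ∣ Nat.card (orbit (fixingSubgroup G (orbit P c)) a) :=
      BigC_dvd h.hp (y := y) (k := m) (congrArg Subtype.val hm)
        (fun t ht => orbit_eq_iff.2 k ▸ BigC_mv hy ht) fun t ht e => hyR (hC.nofix t (BigC_out ha ht) y hy e)
    refine z1 (h1.trans (Dvd.dvd.trans ?_ (Subgroup.card_dvd_of_le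
      (fixingSubgroup_antitone G Ω Set.sdiff_subset : fixingSubgroup G (orbit P c) ≤ ZD P R c c))))
    rw [Nat.card_coe_set_eq, ← index_stabilizer]
    exact Subgroup.index_dvd_card _
  have bij : Function.Bijective (fun t : Fin p × orbit (fixingSubgroup G (orbit P c)) a =>
      (⟨x ^ (t.1 : ℕ) • (t.2 : Ω), fun k => BigC_out ha t.2.2
        ((n1 _ (nP _ (pow_mem hx _)) _).1 k)⟩ : {a : Ω // a ∉ orbit P c})) := by
    constructor
    · have k : ∀ (i j : Fin p) (s t : orbit (fixingSubgroup G (orbit P c)) a), i ≤ j →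
          x ^ (i : ℕ) • (s : Ω) = x ^ (j : ℕ) • (t : Ω) → i = j := fun i j s t hij e => by
        obtain ⟨m, hm⟩ := Nat.exists_eq_add_of_le (Fin.le_def.1 hij)
        rw [hm, pow_add, mul_smul, smul_left_cancel_iff] at e
        have h1 := BigC_mv (pow_mem hx m) t.2
        rw [← e] at h1
        have h2 := key _ (pow_mem hx m) (by
          rw [← orbit_eq_iff.2 s.2, orbit_eq_iff.2 h1]; exact mem_orbit_self _)
        have h3 := (b2 m).1 (BigC_orb.2 ⟨_, h2, rfl⟩)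
        have h4 := Nat.eq_zero_of_dvd_of_lt h3 (by have := j.2; omega)
        exact Fin.ext (by omega)
      rintro ⟨i, s⟩ ⟨j, t⟩ e
      have e' : x ^ (i : ℕ) • (s : Ω) = x ^ (j : ℕ) • (t : Ω) := congrArg Subtype.val e
      obtain rfl : i = j := (le_total i j).elim (fun l => k i j s t l e') fun l => (k j i t s l e'.symm).symm
      rw [smul_left_cancel_iff] at e'
      rw [Subtype.ext e']
    · rintro ⟨a', ha'⟩
      obtain ⟨n, hn, rfl⟩ := n2 a a' ha ha'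
      obtain ⟨i, hi, hd⟩ := b1 _ ((n1 n hn c).2 hc)
      have h1 := mvZ n hn
      have h2 := hT _ (pow_mem hx i)
      rw [show ZD P R c (n • c) = ZD P R c (x ^ i • c) by rw [ZD, orbit_eq_iff.2 hd],
        orbit_eq_iff.2 (show n • c ∈ orbit (ZD P R c (x ^ i • c)) (x ^ i • c) from h2 ▸ .inl hd), h2] at h1
      rcases h1 with h1 | h1
      · obtain ⟨r, hr, e⟩ := BigC_orb.1 h1
        exact (ha' (e ▸ BigC_smul (hC.le hr) (BigC_smul (pow_mem hx i) hc))).elim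
      · have h3 := BigC_mv (inv_mem (pow_mem hx i)) h1
        rw [inv_smul_smul] at h3
        exact ⟨⟨⟨i, hi⟩, ⟨_, h3⟩⟩, Subtype.ext (smul_inv_smul _ _)⟩
  have h1 := Nat.card_eq_of_bijective _ bij
  rw [Nat.card_prod, Nat.card_eq_fintype_card, Fintype.card_fin, q2, mul_comm] at h1
  replace h1 := Nat.eq_of_mul_eq_mul_right h.hp.pos h1
  have h2 := hT 1 (one_mem P)
  rw [one_smul, one_smul] at h2
  have h3 := hC.blk c hc
  have h4 : ol (ZD P R c c) c = 2 * q := by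
    rw [ol, h2, Nat.card_coe_set_eq, Set.ncard_union_eq (Set.disjoint_left.2 fun b hb hb' => BigC_out ha hb' (by
      obtain ⟨r, hr, rfl⟩ := BigC_orb.1 hb
      exact BigC_smul (hC.le hr) hc)), ← Nat.card_coe_set_eq, ← Nat.card_coe_set_eq, h1]
    rw [ol] at h3
    omega
  have h5 := sq_triv h.hp h.hq h.q3 h.qp _ R z1 (hP.pg.to_le hC.le) z2 c h4
    fun r hr => h2 ▸ .inl (BigC_orb.2 ⟨r, hr, rfl⟩)
  have h6 : orbit R c = {c} := Set.eq_singleton_iff_unique_mem.2 ⟨mem_orbit_self c, fun b hb => by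
    obtain ⟨r, hr, rfl⟩ := BigC_orb.1 hb
    exact h5 r hr⟩
  rw [ol, h6, Nat.card_coe_set_eq, Set.ncard_singleton] at h3
  exact h.hp.one_lt.ne h3

theorem Hyp.cyc (h : Hyp G Ω p q) {P R : Subgroup G} (hP : Syl p P) {c : Ω} (hC : Cfa p P R c) :
    ∃ x : G, Cyc p P R c x := by
  have := Fact.mk h.hp
  have hU := h.bigC hP hC
  obtain ⟨x, hx, hxR⟩ := BigC_exx h.hp hC.toLng
  have h1 : Nat.card R = p := by
    rw [← hC.blk c (mem_orbit_self c)]
    refine Nat.card_eq_of_bijective (fun r : R => (⟨r • c, mem_orbit c r⟩ : orbit R c)) ⟨fun r s e => ?_, ?_⟩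
    · have e' : (r : G) • c = (s : G) • c := congrArg Subtype.val e
      have : (s : G)⁻¹ * r ∈ R ⊓ stabilizer G c :=
        Subgroup.mem_inf.2 ⟨mul_mem (inv_mem s.2) r.2, by rw [mem_stabilizer_iff, mul_smul, e', inv_smul_smul]⟩
      rw [hU, Subgroup.mem_bot, inv_mul_eq_one] at this
      exact Subtype.ext this.symm
    · rintro ⟨_, r, rfl⟩
      exact ⟨r, rfl⟩
  have h2 : Nat.card P = p ^ 2 := by rw [hC.idx, h1, sq]
  have h3 : x ^ p ≠ 1 := fun e => hxR (hC.om x hx e)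
  have h4 : orderOf x = p ^ 2 := orderOf_eq_prime_pow (n := 1) (by rwa [pow_one]) (by
    have := pow_card_eq_one' (x := (⟨x, hx⟩ : P))
    rw [h2] at this
    exact congrArg Subtype.val this)
  have h5 : orderOf (x ^ p) = p := orderOf_eq_prime (hC.exp _ (hC.pw x hx).1) h3
  refine ⟨x, hC, ?_, ?_, h4⟩
  · exact (Subgroup.eq_of_le_of_card_ge ((Subgroup.zpowers_le).2 hx) (by rw [Nat.card_zpowers, h4, h2])).symm
  · exact (Subgroup.eq_of_le_of_card_ge ((Subgroup.zpowers_le).2 (hC.pw x hx).1)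
      (by rw [Nat.card_zpowers, h5, h1])).symm

end Cfsg.Agent.EL
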