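import Mathlib
import Cfsg.Agent.EL.Defs
import Cfsg.Agent.Inv.Counting

set_option autoImplicit false
set_option linter.unusedSectionVars false

namespace Cfsg.Agent.EL

open MulAction

variable {G : Type*} [Group G] [Fintype G] {n : ℕ} [NeZero n] {w : G} [Fintype (Cw w)]

open Cfsg.Agent.Ch Cfsg.Agent.S7
open scoped ComplexConjugate

omit [NeZero n] [Fintype (Cw w)] in
theorem PD.cha_norm {φ : Cw w →* Multiplicative (ZMod n)} (hD : PD φ) {g : G} (hg : g ∈ Nw w) :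
    g ∈ Subgroup.normalizer (Cw w : Set G) :=
  Subgroup.mem_normalizer_fintype fun y hy => hD.nc g hg y hy

omit [Fintype G] [Fintype (Cw w)] in
theorem cha_act {φ : Cw w →* Multiplicative (ZMod n)} (g : Subgroup.normalizer (Cw w : Set G))
    (k l : ZMod n) : chdA g (lc φ k) = lc φ l ↔ Car φ g k l := by
  refine ⟨fun e y y' h => ZMod.injective_stdAddChar ?_, fun h => MonoidHom.ext fun y => Units.ext ?_⟩
  · rw [← lc_apply, ← lc_apply, ← e, chdA_apply g _ y y' h]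
  · rw [chdA_apply g _ y ((Cw w).normalizerMonoidHom g y) rfl, lc_apply, lc_apply, h y _ rfl]

omit [Fintype G] [NeZero n] [Fintype (Cw w)] in
theorem cha_car {φ : Cw w →* Multiplicative (ZMod n)} {g : G} (hg : g ∈ Cw w) (k : ZMod n) :
    Car φ g k k := fun y y' h => by
  rw [show y' = ⟨g, hg⟩ * y * ⟨g, hg⟩⁻¹ from Subtype.ext h, φ.map_mul, φ.map_mul, φ.map_inv,
    mul_inv_cancel_comm]

omit [Fintype G] in
theorem cha_le (w : G) : Cw w ≤ Nw w := fun g hg =>
  Subgroup.centralizer_le_normalizer _ (by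
    rintro _ ⟨k, rfl⟩
    exact (Commute.zpow_left (Subgroup.mem_centralizer_singleton_iff.1 hg).symm k).eq)

open Classical in
theorem cha_col (a b : G) :
    ∑ χ : IrrCharacter G, χ.1 a * conj (χ.1 b) = ∑ g : G, if g * a * g⁻¹ = b then 1 else 0 := by
  by_cases h : IsConj a b
  · rw [column_orthogonality_of_isConj h, ← Inv.card_conj_fiber h, Finset.sum_boole,
      Nat.card_eq_fintype_card, Fintype.card_subtype]
  · rw [column_orthogonality_of_not_isConj h, Finset.sum_eq_zero fun g _ => if_neg fun e =>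
      h (isConj_iff.2 ⟨g, e⟩)]

theorem PD.eqv_equiv {φ : Cw w →* Multiplicative (ZMod n)} (hD : PD φ) : Equivalence (Eqv φ) := by
  refine ⟨fun k => ⟨1, one_mem _, cha_car (one_mem _) k⟩, ?_, ?_⟩
  · rintro k l ⟨g, hg, h⟩
    exact ⟨g⁻¹, inv_mem hg, fun y y' e => (h y' y (by rw [e]; group)).symm⟩
  · rintro k l m ⟨g, hg, h⟩ ⟨g', hg', h'⟩
    refine ⟨g * g', mul_mem hg hg', fun y y' e => ?_⟩
    exact (h ⟨_, hD.nc g' hg' y y.2⟩ y' (by rw [e]; group)).trans (h' y _ rfl)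

theorem PD.eqv_unit {φ : Cw w →* Multiplicative (ZMod n)} (hD : PD φ) {k l : ZMod n} (h : Eqv φ k l) :
    (IsUnit k ↔ IsUnit l) ∧ (k = 0 ↔ l = 0) := by
  obtain ⟨g, hg, h⟩ := h
  obtain ⟨u, hu⟩ := hD.unit g hg
  obtain ⟨y, hy⟩ := hD.surj (Multiplicative.ofAdd 1)
  have e1 := h y ⟨_, hD.nc g hg y y.2⟩ rfl
  have e2 := hu y ⟨_, hD.nc g hg y y.2⟩ rfl
  rw [one_mul] at e2
  rw [e2, hy, toAdd_ofAdd, mul_one, mul_one] at e1
  rw [← e1]
  exact ⟨(Units.isUnit_mul_units k u).symm, (Units.mul_left_eq_zero u).symm⟩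

theorem PD.a_eqv {φ : Cw w →* Multiplicative (ZMod n)} (hD : PD φ) {k l : ZMod n} (h : Eqv φ k l)
    (χ : IrrCharacter G) : S7.chdM χ (lc φ k) = S7.chdM χ (lc φ l) := by
  obtain ⟨g, hg, h⟩ := h
  rw [← (cha_act ⟨g, hD.cha_norm hg⟩ k l).2 h, chdM_act]

theorem PD.a_orth {φ : Cw w →* Multiplicative (ZMod n)} (k l : ZMod n) :
    ∑ χ : IrrCharacter G, (charDegree χ.1 : ℤ) * ((S7.chdM χ (lc φ k) : ℤ) - S7.chdM χ (lc φ l)) = 0 := by
  have key := chd_reg (S := Cw w) (fun χ => charDegree χ.1) (Cw w).index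
    (fun s _ s1 => by simp only [IsIrrCharacter.coe_charDegree (Subtype.prop _)]; exact sum_degree_mul_apply_of_ne s1)
    (by
      simp only [IsIrrCharacter.coe_charDegree (Subtype.prop _), ← sq]
      rw [sum_sq_degree, ← (Cw w).index_mul_card, Nat.cast_mul])
  simp only [mul_sub, Finset.sum_sub_distrib]
  rw [sub_eq_zero]
  exact_mod_cast (key (lc φ k)).trans (key (lc φ l)).symm

theorem PD.a_two {φ : Cw w →* Multiplicative (ZMod n)} (hD : PD φ) {k l : ZMod n} (hk : k ≠ 0) (hl : l ≠ 0)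
    (h : ¬ Eqv φ k l) :
    ∑ χ : IrrCharacter G, ((S7.chdM χ (lc φ k) : ℤ) - S7.chdM χ (lc φ l)) ^ 2 = 2 := by
  classical
  let θ : G → ℂ := fun g => if hg : g ∈ Cw w then (lc φ k ⟨g, hg⟩ : ℂ) - lc φ l ⟨g, hg⟩ else 0
  have hθ : ∀ s : Cw w, θ s = (lc φ k s : ℂ) - lc φ l s := fun s => dif_pos s.2
  have hm := natCard_ne_zero (Cw w)
  have e1 : ∀ χ : IrrCharacter G, ∑ s : Cw w, θ s * conj (χ.1 s) =
      (Nat.card (Cw w) : ℂ) * (((chdM χ (lc φ k) : ℤ) - chdM χ (lc φ l) : ℤ) : ℂ) := fun χ => by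
    simp only [hθ, sub_mul, Finset.sum_sub_distrib, chdM_sum']
    push_cast
    ring
  have e2 : ∑ χ : IrrCharacter G, (∑ s : Cw w, θ s * conj (χ.1 s)) * conj (∑ s : Cw w, θ s * conj (χ.1 s)) =
      ∑ g : G, ∑ s : Cw w, θ (g * s * g⁻¹) * conj (θ s) := by
    have e : ∀ χ : IrrCharacter G,
        (∑ s : Cw w, θ s * conj (χ.1 s)) * conj (∑ s : Cw w, θ s * conj (χ.1 s)) =
          ∑ s' : Cw w, ∑ s : Cw w, θ s * (conj (θ s') * (χ.1 s' * conj (χ.1 s))) := fun χ => by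
      rw [map_sum, Finset.sum_mul_sum, Finset.sum_comm]
      refine Finset.sum_congr rfl fun s _ => Finset.sum_congr rfl fun s' _ => ?_
      rw [map_mul, Complex.conj_conj]; ring
    rw [Finset.sum_congr rfl fun χ _ => e χ, Finset.sum_comm, Finset.sum_comm (s := Finset.univ (α := G))]
    refine Finset.sum_congr rfl fun s' _ => ?_
    rw [Finset.sum_comm]
    simp only [← Finset.mul_sum, cha_col]
    simp only [Finset.mul_sum]
    rw [Finset.sum_comm]
    refine Finset.sum_congr rfl fun g _ => ?_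
    by_cases hg : g * s' * g⁻¹ ∈ Cw w
    · rw [Finset.sum_eq_single ⟨_, hg⟩ (fun s _ hs => by
        rw [if_neg fun e => hs (Subtype.ext e.symm), mul_zero, mul_zero]) (by simp), if_pos rfl, mul_one]
    · rw [Finset.sum_eq_zero fun s _ => by rw [if_neg fun e : g * s' * g⁻¹ = s => hg (e ▸ s.2), mul_zero, mul_zero],
        show θ (g * s' * g⁻¹) = 0 from dif_neg hg, zero_mul]
  have o : ∀ a b : Cw w →* ℂˣ, ∑ s : Cw w, (a s : ℂ) * conj (b s : ℂ) =
      (Nat.card (Cw w) : ℂ) * if a = b then 1 else 0 :=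
    fun a b => by rw [← card_mul_classInner, classInner_monoidHom_units]
  have e3 : ∀ g : G, ∑ s : Cw w, θ (g * s * g⁻¹) * conj (θ s) =
      if g ∈ Cw w then 2 * (Nat.card (Cw w) : ℂ) else 0 := fun g => by
    by_cases hg : g ∈ Nw w
    · let g' : Subgroup.normalizer (Cw w : Set G) := ⟨g, hD.cha_norm hg⟩
      have e : ∀ s : Cw w, θ (g * s * g⁻¹) = (chdA g' (lc φ k) s : ℂ) - chdA g' (lc φ l) s := fun s =>
        hθ ((Cw w).normalizerMonoidHom g' s)
      have n1 : ¬ Car φ g' k l := fun c => h ⟨g, hg, c⟩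
      have n2 : ¬ Car φ g' l k := fun c => h (hD.eqv_equiv.symm ⟨g, hg, c⟩)
      have n3 : ∀ j, j ≠ 0 → (Car φ g' j j ↔ g ∈ Cw w) := fun j hj =>
        ⟨hD.free g hg j hj, fun c => cha_car c j⟩
      simp only [hθ, e, map_sub, sub_mul, mul_sub, Finset.sum_sub_distrib, o, cha_act, n1, n2, n3 k hk,
        n3 l hl, if_false]
      split_ifs <;> ring
    · rw [if_neg fun c => hg (cha_le w c)]
      refine Finset.sum_eq_zero fun s _ => ?_
      by_cases hs : φ s = 1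
      · rw [hθ, lc_apply, lc_apply, hs, toAdd_one, mul_zero, mul_zero, sub_self, map_zero, mul_zero]
      · rw [show θ (g * s * g⁻¹) = 0 from dif_neg fun c => hg (hD.ti s hs g c), zero_mul]
  have e4 : ∑ g : G, (if g ∈ Cw w then 2 * (Nat.card (Cw w) : ℂ) else 0) =
      Nat.card (Cw w) * (2 * (Nat.card (Cw w) : ℂ)) := by
    rw [← Finset.sum_filter, Finset.sum_const, nsmul_eq_mul, ← Fintype.card_subtype,
      ← Nat.card_eq_fintype_card]
  simp only [e1, e3, e4, map_mul, map_natCast, map_intCast] at e2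
  refine Int.cast_injective (α := ℂ) (mul_left_cancel₀ hm (mul_left_cancel₀ hm ?_))
  rw [Int.cast_sum, Finset.mul_sum, Finset.mul_sum, Int.cast_ofNat, mul_comm (Nat.card (Cw w) : ℂ) 2, ← e2]
  exact Finset.sum_congr rfl fun χ _ => by push_cast; ring

end Cfsg.Agent.EL
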