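import Mathlib
import Cfsg.Agent.EL.Defs
import Cfsg.Agent.EL.Orb
import Cfsg.Agent.EL.SQ
import Cfsg.Agent.EL.TriA
import Cfsg.Agent.EL.TriC
import Cfsg.Agent.FG.ClassIdx

set_option autoImplicit false
set_option linter.unusedSectionVars false

namespace Cfsg.Agent.EL

open MulAction

variable {G Ω : Type*} [Group G] [Finite G] [MulAction G Ω] [FaithfulSMul G Ω] [Finite Ω] {p q : ℕ}

omit [Finite G] [FaithfulSMul G Ω] [Finite Ω] in
theorem Cyc.cycA_comm {P R : Subgroup G} {c : Ω} {x : G} (hC : Cyc p P R c x) {a b : G} (ha : a ∈ P) (hb : b ∈ P) :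
    Commute a b := by
  rw [hC.hP] at ha hb
  obtain ⟨i, rfl⟩ := ha
  obtain ⟨j, rfl⟩ := hb
  exact Commute.zpow_zpow_self x i j

omit [Finite G] [FaithfulSMul G Ω] [Finite Ω] in
theorem cycA_cen (hp : p.Prime) {P R : Subgroup G} (hP : Syl p P) {c : Ω} {x : G} (hC : Cyc p P R c x) {n : G}
    (hn : n ∈ Subgroup.normalizer (P : Set G))
    (hN : n * x * n⁻¹ * x⁻¹ ∈ R ∨ n * x ^ p * n⁻¹ = x ^ p) : n * x * n⁻¹ = x := by
  have hx : x ∈ P := hC.hP ▸ Subgroup.mem_zpowers x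
  have h1 : n * x * n⁻¹ ∈ P := (Subgroup.mem_normalizer_iff.1 hn x).1 hx
  obtain ⟨u, hu⟩ : ∃ u, u = n * x * n⁻¹ * x⁻¹ := ⟨_, rfl⟩
  have uP : u ∈ P := hu ▸ mul_mem h1 (inv_mem hx)
  have e : n * x * n⁻¹ = u * x := by rw [hu, inv_mul_cancel_right]
  have e2 : n * x ^ p * n⁻¹ = u ^ p * x ^ p := by rw [← conj_pow, e, (hC.cycA_comm uP hx).mul_pow]
  have hw : n * x ^ p * n⁻¹ = x ^ p := hN.elim (fun k => by rw [e2, hC.exp u (hu ▸ k), one_mul]) id
  have up : u ^ p = 1 := mul_eq_right.1 (e2.symm.trans hw)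
  have nu : n * u * n⁻¹ = u := by
    obtain ⟨k, hk⟩ := Subgroup.mem_zpowers_iff.1 (hC.hR ▸ hC.om u uP up)
    rw [← hk, ← conj_zpow, hw]
  have it : ∀ j : ℕ, n ^ j * x * (n ^ j)⁻¹ = u ^ j * x := fun j => by
    induction j with
    | zero => simp
    | succ j ih =>
      calc n ^ (j + 1) * x * (n ^ (j + 1))⁻¹ = n * (n ^ j * x * (n ^ j)⁻¹) * n⁻¹ := by rw [pow_succ']; group
        _ = _ := by rw [ih, ← conj_mul, ← conj_pow, nu, e, pow_succ, mul_assoc]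
  have h2 : n ^ P.relIndex (Subgroup.normalizer (P : Set G)) ∈ P :=
    (P.subgroupOf (Subgroup.normalizer (P : Set G))).pow_index_mem ⟨n, hn⟩
  have h3 := it (P.relIndex (Subgroup.normalizer (P : Set G)))
  rw [(hC.cycA_comm h2 hx).eq, mul_inv_cancel_right, eq_comm, mul_eq_right] at h3
  have h4 := pow_gcd_eq_one.2 ⟨up, h3⟩
  rw [(hp.coprime_iff_not_dvd).2 fun k => hP.nd (k.trans (Subgroup.relIndex_dvd_index_of_le Subgroup.le_normalizer)),
    pow_one] at h4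
  rw [e, h4, one_mul]

/-- Burnside: a subgroup containing `P` in which `N(P)` acts trivially on `P / R` has a normal `p`-complement. -/
theorem Hyp.cyc_burn (h : Hyp G Ω p q) {P R : Subgroup G} (hP : Syl p P) {c : Ω} {x : G} (hC : Cyc p P R c x)
    (H : Subgroup G) (hPH : P ≤ H)
    (hN : ∀ n ∈ H, n * x * n⁻¹ ∈ P → n * x * n⁻¹ * x⁻¹ ∈ R ∨ n * x ^ p * n⁻¹ = x ^ p) :
    ∃ L : Subgroup G, L ≤ H ∧ ¬ p ∣ Nat.card L ∧ (∀ g ∈ H, ∀ y ∈ L, g * y * g⁻¹ ∈ L) ∧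
      ∀ g ∈ H, ∃ y ∈ L, ∃ i : ℕ, g = y * x ^ i := by
  have : Fact p.Prime := ⟨h.hp⟩
  have hx : x ∈ P := hC.hP ▸ Subgroup.mem_zpowers x
  let S : Sylow p H := (hP.pg.of_equiv (Subgroup.subgroupOfEquivOfLe hPH).symm).toSylow
    fun k => hP.nd (k.trans (Subgroup.relIndex_dvd_index_of_le hPH))
  have hS : Subgroup.normalizer ((S : Subgroup H) : Set H) ≤ Subgroup.centralizer ((S : Subgroup H) : Set H) := by
    intro n hn
    have h1 : (n : G) ∈ Subgroup.normalizer (P : Set G) := by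
      refine Subgroup.mem_normalizer_fintype fun a ha => ?_
      exact (Subgroup.mem_normalizer_iff.1 hn ⟨a, hPH ha⟩).1 ha
    have h2 := cycA_cen h.hp hP hC h1 (hN n n.2 ((Subgroup.mem_normalizer_iff.1 h1 x).1 hx))
    intro a ha
    obtain ⟨k, hk⟩ := Subgroup.mem_zpowers_iff.1 (hC.hP ▸ (show (a : G) ∈ P from ha))
    refine Subtype.ext ?_
    rw [Subgroup.coe_mul, Subgroup.coe_mul, ← hk]
    exact ((show Commute (n : G) x from mul_inv_eq_iff_eq_mul.1 h2).zpow_right k).eq.symm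
  refine ⟨(MonoidHom.transferSylow S hS).ker.map H.subtype, Subgroup.map_subtype_le _, ?_, ?_, fun g hg => ?_⟩
  · rw [Subgroup.card_map_of_injective H.subtype_injective]
    exact MonoidHom.not_dvd_card_ker_transferSylow S hS
  · rintro g hg _ ⟨y, hy, rfl⟩
    exact ⟨_, (MonoidHom.normal_ker _).conj_mem y hy ⟨g, hg⟩, rfl⟩
  · obtain ⟨⟨a, b⟩, e, -⟩ := (MonoidHom.ker_transferSylow_isComplement' S hS).existsUnique ⟨g, hg⟩
    obtain ⟨i, hi⟩ := mem_powers_iff_mem_zpowers.2 (hC.hP ▸ (show ((b : H) : G) ∈ P from b.2))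
    exact ⟨_, ⟨a, a.2, rfl⟩, i, by rw [show x ^ i = _ from hi]; exact (congrArg Subtype.val e).symm⟩

/-- `C(w)` acts on the long orbit as `⟨x⟩`. -/
theorem Hyp.cyc_act (h : Hyp G Ω p q) {P R : Subgroup G} (hP : Syl p P) {c : Ω} {x : G} (hC : Cyc p P R c x) :
    (∀ y ∈ Cw (x ^ p), ∃ i : ℕ, ∀ d ∈ orbit P c, y • d = x ^ i • d) ∧
      ¬ p ∣ Nat.card (fixingSubgroup G (orbit P c)) ∧ fixingSubgroup G (orbit P c) ≤ Cw (x ^ p) := by
  have hx : x ∈ P := hC.hP ▸ Subgroup.mem_zpowers x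
  have mC : ∀ {g : G}, g ∈ Cw (x ^ p) ↔ g * x ^ p = x ^ p * g := Subgroup.mem_centralizer_singleton_iff
  have PC : P ≤ Cw (x ^ p) := fun a ha => mC.2 (hC.cycA_comm ha (pow_mem hx p))
  have PΓ : ∀ a ∈ P, ∀ d ∈ orbit P c, a • d ∈ orbit P c := fun a ha d hd =>
    mem_orbit_of_mem_orbit (⟨a, ha⟩ : P) hd
  obtain ⟨L, LC, Lp, Ln, Lx⟩ := h.cyc_burn hP hC _ PC fun n hn _ => Or.inr (by rw [mC.1 hn, mul_inv_cancel_right])
  have CN : Cw (x ^ p) ≤ Subgroup.normalizer (R : Set G) := fun g hg =>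
    Subgroup.mem_normalizer_fintype fun a ha => by
      obtain ⟨k, rfl⟩ := Subgroup.mem_zpowers_iff.1 (hC.hR ▸ (show a ∈ R from ha))
      rwa [((show Commute g (x ^ p) from mC.1 hg).zpow_right k).eq, mul_inv_cancel_right]
  have ho : orbit (Cw (x ^ p)) c = orbit P c := by
    ext d
    exact ⟨by
      rintro ⟨g, rfl⟩
      exact ((h.cfa_norm hP hC.toCfa).1 g (CN g.2) c).2 (mem_orbit_self c),
      by rintro ⟨g, rfl⟩; exact ⟨⟨g, PC g.2⟩, rfl⟩⟩
  have h1 : (stabilizer G c).relIndex (Cw (x ^ p)) = p ^ 2 := by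
    rw [← hC.long, ol, Nat.card_coe_set_eq, ← ho, ← index_stabilizer]
    rfl
  have h2 : L ≤ stabilizer G c := by
    have a1 := FG.CI.relIndex_dvd_relIndex_of_le_normalizer (stabilizer G c) LC
      fun g hg => Subgroup.mem_normalizer_fintype (Ln g hg)
    rw [h1] at a1
    exact Subgroup.relIndex_eq_one.1 (Nat.eq_one_of_dvd_coprimes
      (Nat.Coprime.pow_left 2 ((h.hp.coprime_iff_not_dvd).2 Lp)) a1 (Subgroup.relIndex_dvd_card _ _))
  have h3 : ∀ y ∈ L, ∀ d ∈ orbit P c, y • d = d := by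
    rintro y hy _ ⟨u, rfl⟩
    have : ((u : G)⁻¹ * y * (u : G)⁻¹⁻¹) • c = c := h2 (Ln _ (inv_mem (PC u.2)) y hy)
    rw [inv_inv, mul_smul, mul_smul, inv_smul_eq_iff] at this
    exact this
  have EC : fixingSubgroup G (orbit P c) ≤ Cw (x ^ p) := fun z hz => mC.2 (eq_of_smul_eq_smul fun a : Ω => by
    have hz' := (mem_fixingSubgroup_iff G).1 hz
    rw [mul_smul, mul_smul]
    by_cases ha : a ∈ orbit P c
    · rw [hz' a ha, hz' _ (PΓ _ (pow_mem hx p) a ha)]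
    · rw [(hC.pw x hx).2 a ha, (hC.pw x hx).2 _ fun k => ha (by
        rwa [show z • a = a from smul_left_cancel z (hz' _ k)] at k)])
  refine ⟨fun y hy => ?_, fun k => Lp (k.trans (Subgroup.card_dvd_of_le fun z hz => ?_)), EC⟩
  · obtain ⟨l, hl, i, rfl⟩ := Lx y hy
    exact ⟨i, fun d hd => by rw [mul_smul, h3 l hl _ (PΓ _ (pow_mem hx i) d hd)]⟩
  · obtain ⟨l, hl, i, rfl⟩ := Lx z (EC hz)
    have hz' := (mem_fixingSubgroup_iff G).1 hz
    have a1 : ∀ d ∈ orbit P c, x ^ i • d = d := fun d hd => by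
      rw [← h3 l hl _ (PΓ _ (pow_mem hx i) d hd), ← mul_smul, hz' d hd]
    have a2 : x ^ i ∈ R := hC.mv c (mem_orbit_self c) _ (pow_mem hx i)
      (by rw [a1 c (mem_orbit_self c)]; exact mem_orbit_self c)
    have a3 : x ^ i = 1 := eq_of_smul_eq_smul fun a : Ω => by
      rw [one_smul]
      by_cases ha : a ∈ orbit P c
      exacts [a1 a ha, hC.fix a ha _ a2]
    rwa [a3, mul_one]

end Cfsg.Agent.EL
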