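import Mathlib
import Cfsg.Agent.EL.Defs
import Cfsg.Agent.EL.Orb
import Cfsg.Agent.EL.TriA
import Cfsg.Agent.EL.TriC
import Cfsg.Agent.EL.CycA

/-! Multiplicities of the linear characters of `C(w)` in the permutation character. -/

set_option autoImplicit false

namespace Cfsg.Agent.EL

open MulAction
open scoped ComplexConjugate

section
variable {G Ω : Type*} [Group G] [Fintype G] [MulAction G Ω] {S : Subgroup G} [Fintype S]

open Classical in
/-- The sum of the conjugate character over a point stabiliser. -/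
noncomputable def chBT (f : S →* ℂˣ) (a : Ω) : ℂ :=
  ∑ y : S, if (y : G) • a = a then conj (f y : ℂ) else 0

theorem chB_sum [Fintype Ω] (m : IrrCharacter G → ℕ)
    (hm : ∀ g : G, ∑ χ, (m χ : ℂ) * χ.1 g = (Nat.card (fixedBy Ω g) : ℂ)) (f : S →* ℂˣ) :
    (Nat.card S : ℂ) * ((∑ χ, m χ * S7.chdM χ f : ℕ) : ℂ) = ∑ a : Ω, chBT f a := by
  classical
  have h1 : ∀ g : G, (Nat.card (fixedBy Ω g) : ℂ) = ∑ a : Ω, if g • a = a then 1 else 0 := fun g => by
    rw [Finset.sum_boole, Nat.card_eq_fintype_card, Fintype.card_subtype]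
    rfl
  calc (Nat.card S : ℂ) * ((∑ χ, m χ * S7.chdM χ f : ℕ) : ℂ)
      = ∑ χ : IrrCharacter G, ∑ y : S, (m χ : ℂ) * χ.1 y * conj (f y : ℂ) := by
        push_cast
        rw [Finset.mul_sum]
        refine Finset.sum_congr rfl fun χ _ => ?_
        rw [mul_left_comm, ← S7.chdM_sum, Finset.mul_sum]
        exact Finset.sum_congr rfl fun y _ => (mul_assoc _ _ _).symm
    _ = ∑ y : S, ∑ a : Ω, if (y : G) • a = a then conj (f y : ℂ) else 0 := by
        rw [Finset.sum_comm]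
        refine Finset.sum_congr rfl fun y _ => ?_
        rw [← Finset.sum_mul, hm, h1, Finset.sum_mul]
        exact Finset.sum_congr rfl fun a _ => by split_ifs <;> simp
    _ = _ := by
        rw [Finset.sum_comm]
        exact Finset.sum_congr rfl fun a _ => by unfold chBT; congr

omit [Fintype G] in
theorem chB_zero (f : S →* ℂˣ) {a : Ω} (w : S) (hw : (w : G) • a = a) (h : (f w : ℂ) ≠ 1) :
    chBT f a = 0 := by
  classical
  have h1 : chBT f a = chBT f a * conj (f w : ℂ) := by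
    conv_lhs => rw [chBT, ← Equiv.sum_comp (Equiv.mulRight w)]
    rw [chBT, Finset.sum_mul]
    refine Finset.sum_congr rfl fun y _ => ?_
    simp only [Equiv.coe_mulRight, Subgroup.coe_mul, mul_smul, hw, map_mul, Units.val_mul]
    split_ifs <;> simp
  by_contra h2
  refine h ?_
  have h3 := congrArg conj ((mul_eq_left₀ h2).1 h1.symm)
  rwa [Complex.conj_conj, map_one] at h3

omit [Fintype G] in
theorem chB_nat (f : S →* ℂˣ) {a : Ω} (h : ∀ y : S, (y : G) • a = a → (f y : ℂ) = 1) :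
    chBT f a = (Nat.card {y : S // (y : G) • a = a} : ℂ) := by
  classical
  rw [Nat.card_eq_fintype_card, Fintype.card_subtype, ← Finset.sum_boole, chBT]
  refine Finset.sum_congr rfl fun y _ => ?_
  split_ifs with e
  · rw [h y e, map_one]
  · rfl

end

variable {G Ω : Type*} [Group G] [Fintype G] [MulAction G Ω] [FaithfulSMul G Ω] [Finite Ω] {p q : ℕ} [NeZero (p ^ 2)]

theorem Hyp.chB_long (h : Hyp G Ω p q) {P R : Subgroup G} (hP : Syl p P) {c : Ω} {x : G} (hC : Cyc p P R c x)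
    (φ : Cw (x ^ p) →* Multiplicative (ZMod (p ^ 2)))
    (hφ : ∀ (y : Cw (x ^ p)) (i : ℕ), (φ y).toAdd = (i : ZMod (p ^ 2)) ↔ ∀ d ∈ orbit P c, (y : G) • d = x ^ i • d)
    {a : Ω} (ha : a ∈ orbit P c) (y : Cw (x ^ p)) : (y : G) • a = a ↔ (φ y).toAdd = 0 := by
  have h0 := hφ y 0
  simp only [Nat.cast_zero, pow_zero, one_smul] at h0
  refine ⟨fun e => h0.2 fun d hd => ?_, fun e => h0.1 e a ha⟩
  obtain ⟨i, hi⟩ := (h.cyc_act hP hC).1 y y.2
  obtain ⟨⟨g, hg⟩, rfl⟩ : d ∈ orbit P a := (orbit_eq_iff.2 ha).symm ▸ hd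
  rw [hi _ hd]
  rw [hi a ha] at e
  rw [hC.hP] at hg
  obtain ⟨j, rfl⟩ := Subgroup.mem_zpowers_iff.1 hg
  change x ^ i • x ^ j • a = x ^ j • a
  rw [← mul_smul, (((Commute.refl x).zpow_right j).pow_left i).eq, mul_smul, e]

theorem Hyp.chB_short (h : Hyp G Ω p q) {P R : Subgroup G} (hP : Syl p P) {c : Ω} {x : G} (hC : Cyc p P R c x)
    (φ : Cw (x ^ p) →* Multiplicative (ZMod (p ^ 2)))
    (hφ : ∀ (y : Cw (x ^ p)) (i : ℕ), (φ y).toAdd = (i : ZMod (p ^ 2)) ↔ ∀ d ∈ orbit P c, (y : G) • d = x ^ i • d)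
    {a : Ω} (y : Cw (x ^ p)) (e : (y : G) • a = a) : p ∣ (φ y).toAdd.val := by
  have := Fact.mk h.hp
  by_contra hn
  obtain ⟨n, hn'⟩ : ∃ n, n = Nat.card (fixingSubgroup G (orbit P c)) := ⟨_, rfl⟩
  have h1 : ¬ p ∣ n := hn' ▸ (h.cyc_act hP hC).2.1
  have h2 : ∀ j : ℕ, (φ (y ^ j)).toAdd = ((j * (φ y).toAdd.val : ℕ) : ZMod (p ^ 2)) := fun j => by
    rw [map_pow, toAdd_pow, nsmul_eq_mul, Nat.cast_mul, ZMod.natCast_zmod_val]
  have h3 : ((y : G) ^ n) ^ p ^ (1 + 1) = 1 := by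
    have h4 := (hφ (y ^ p ^ 2) 0).1 (by
      rw [h2, Nat.cast_mul, ZMod.natCast_self, zero_mul, Nat.cast_zero])
    have h5 : (y : G) ^ p ^ 2 ∈ fixingSubgroup G (orbit P c) :=
      (mem_fixingSubgroup_iff G).2 fun d hd => by simpa using h4 d hd
    rw [← pow_mul, mul_comm, pow_mul, hn']
    exact orderOf_dvd_iff_pow_eq_one.1 (Subgroup.orderOf_dvd_natCard _ h5)
  have h6 : ¬ ((y : G) ^ n) ^ p ^ 1 = 1 := fun h7 => by
    have h8 : y ^ (p * n) = 1 := Subtype.ext (by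
      rw [pow_one, ← pow_mul, mul_comm] at h7
      simpa using h7)
    have h9 := h2 (p * n)
    rw [h8, map_one, toAdd_one, eq_comm, ZMod.natCast_eq_zero_iff, mul_assoc] at h9
    have h10 : p * p ∣ p * (n * (φ y).toAdd.val) := (sq p).symm.dvd.trans h9
    exact (h.hp.dvd_mul.1 ((Nat.mul_dvd_mul_iff_left h.hp.pos).1 h10)).elim h1 hn
  have h7 := orderOf_eq_prime_pow h6 h3
  have h8 : Nat.card (Subgroup.zpowers ((y : G) ^ n)) = p ^ (1 + 1) := by rw [Nat.card_zpowers, h7]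
  have h9 := h.o_le hP _ (IsPGroup.of_card h8) a fun u hu =>
    (Subgroup.zpowers_le_of_mem (H := stabilizer G a) (pow_mem e n)) hu
  rw [h8, hC.hP, Nat.card_zpowers, hC.ord] at h9
  have h10 : p * p ^ 2 ≤ p ^ 2 := Nat.le_of_dvd (pow_pos h.hp.pos 2) h9
  have h11 := h.hp.one_lt
  have h12 := pow_pos h.hp.pos 2
  nlinarith

/-- Multiplicities of the linear characters in the permutation character. -/
theorem Hyp.chB_mult (h : Hyp G Ω p q) {P R : Subgroup G} (hP : Syl p P) {c : Ω} {x : G} (hC : Cyc p P R c x)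
    [Fintype (Cw (x ^ p))] (φ : Cw (x ^ p) →* Multiplicative (ZMod (p ^ 2)))
    (hφ : ∀ (y : Cw (x ^ p)) (i : ℕ), (φ y).toAdd = (i : ZMod (p ^ 2)) ↔ ∀ d ∈ orbit P c, (y : G) • d = x ^ i • d)
    (m : IrrCharacter G → ℕ) (hm : ∀ g : G, ∑ χ, (m χ : ℂ) * χ.1 g = (Nat.card (fixedBy Ω g) : ℂ)) (k : ZMod (p ^ 2)) :
    (IsUnit k → ∑ χ, m χ * S7.chdM χ (lc φ k) = 1) ∧ (¬ IsUnit k → 2 ≤ ∑ χ, m χ * S7.chdM χ (lc φ k)) := by
  classical
  have := Fintype.ofFinite Ω
  have hx : ∀ i : ℕ, x ^ i ∈ Cw (x ^ p) := fun i =>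
    Subgroup.mem_centralizer_singleton_iff.2 ((Commute.refl x).pow_pow i p).eq
  have h1 : ∀ i : ℕ, (φ ⟨x ^ i, hx i⟩).toAdd = i := fun i => (hφ _ i).2 fun _ _ => rfl
  have h2 : φ.range = ⊤ := MonoidHom.range_eq_top.2 fun z =>
    ⟨⟨x ^ z.toAdd.val, hx _⟩, Multiplicative.toAdd.injective (by rw [h1, ZMod.natCast_zmod_val])⟩
  have h3 : Nat.card (Cw (x ^ p)) = p ^ 2 * Nat.card φ.ker := by
    rw [← φ.ker.card_mul_index, Subgroup.index_ker, h2, Subgroup.card_top, Nat.card_congr Multiplicative.toAdd,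
      Nat.card_zmod, mul_comm]
  have h4 : ∑ a with a ∈ orbit P c, chBT (lc φ k) a = (Nat.card (Cw (x ^ p)) : ℂ) := by
    rw [Finset.sum_congr rfl (g := fun _ => (Nat.card φ.ker : ℂ)) fun a ha => ?_, Finset.sum_const,
      ← Fintype.card_subtype, ← Nat.card_eq_fintype_card, h3, nsmul_eq_mul, Nat.cast_mul]
    · exact congrArg (fun t : ℕ => (t : ℂ) * _) hC.long
    have ha' := (Finset.mem_filter.1 ha).2
    rw [chB_nat _ fun y e => by
      rw [lc_apply, (h.chB_long hP hC φ hφ ha' y).1 e, mul_zero, AddChar.map_zero_eq_one]]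
    exact congrArg Nat.cast (Nat.card_congr (Equiv.subtypeEquivRight fun y =>
      (h.chB_long hP hC φ hφ ha' y).trans Iff.rfl))
  have h5 := chB_sum m hm (lc φ k)
  rw [← Finset.sum_filter_add_sum_filter_not Finset.univ (· ∈ orbit P c), h4] at h5
  have h6 : 0 < Nat.card (Cw (x ^ p)) := Nat.card_pos
  generalize ∑ χ, m χ * S7.chdM χ (lc φ k) = A at h5 ⊢
  refine ⟨fun hk => ?_, fun hk => ?_⟩
  · rw [Finset.sum_eq_zero fun a ha => ?_, add_zero] at h5
    · exact_mod_cast (mul_eq_left₀ (Nat.cast_ne_zero.2 h6.ne')).1 h5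
    refine chB_zero _ ⟨x ^ p, hx p⟩
      ((hC.pw x (hC.hP ▸ Subgroup.mem_zpowers x)).2 a (Finset.mem_filter.1 ha).2) fun e => ?_
    rw [lc_apply, h1, ← (ZMod.stdAddChar (N := p ^ 2)).map_zero_eq_one] at e
    have e1 := hk.mul_right_eq_zero.1 (ZMod.injective_stdAddChar e)
    rw [ZMod.natCast_eq_zero_iff] at e1
    have e2 := Nat.le_of_dvd h.hp.pos e1
    have e3 := h.hp.one_lt
    nlinarith
  · have hk' : p ∣ k.val := by
      by_contra e
      rw [← ZMod.natCast_zmod_val k, ZMod.isUnit_iff_coprime] at hk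
      exact hk (((Nat.Prime.coprime_iff_not_dvd h.hp).2 e).symm.pow_right 2)
    rw [Finset.sum_congr rfl (g := fun a => (Nat.card {y : Cw (x ^ p) // (y : G) • a = a} : ℂ))
      fun a _ => chB_nat _ fun y e => ?_] at h5
    · have h7 : Nat.card (Cw (x ^ p)) * A = Nat.card (Cw (x ^ p)) +
          ∑ a with a ∉ orbit P c, Nat.card {y : Cw (x ^ p) // (y : G) • a = a} := by
        exact_mod_cast h5
      obtain ⟨b, hb⟩ := hC.ex
      have h8 : 0 < ∑ a with a ∉ orbit P c, Nat.card {y : Cw (x ^ p) // (y : G) • a = a} :=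
        Finset.sum_pos (fun a _ => by
          have : Nonempty {y : Cw (x ^ p) // (y : G) • a = a} := ⟨⟨1, one_smul _ _⟩⟩
          exact Nat.card_pos) ⟨b, Finset.mem_filter.2 ⟨Finset.mem_univ _, hb⟩⟩
      by_contra h9
      have h10 : Nat.card (Cw (x ^ p)) * A ≤ Nat.card (Cw (x ^ p)) * 1 :=
        Nat.mul_le_mul_left _ (by omega)
      omega
    · have e1 : k * (φ y).toAdd = 0 := by
        rw [← ZMod.natCast_zmod_val k, ← ZMod.natCast_zmod_val (φ y).toAdd, ← Nat.cast_mul,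
          ZMod.natCast_eq_zero_iff]
        exact (sq p).dvd.trans (mul_dvd_mul hk' (h.chB_short hP hC φ hφ y e))
      rw [lc_apply, e1, AddChar.map_zero_eq_one]

end Cfsg.Agent.EL
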