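import Mathlib
import Cfsg.Agent.EL.Defs
import Cfsg.Agent.S7.ChC

set_option autoImplicit false

namespace Cfsg.Agent.EL

open MulAction

theorem chC_two {I : Type*} [Fintype I] (m b : I → ℕ) {α β : I} (h : α ≠ β) (h1 : m α ≠ 0) (h2 : b α ≠ 0)
    (h3 : m β ≠ 0) (h4 : b β ≠ 0) : ∑ χ, m χ * b χ ≠ 1 := by
  have h5 := Finset.add_le_sum (f := fun χ => m χ * b χ) (s := Finset.univ) (fun _ _ => Nat.zero_le _)
    (Finset.mem_univ α) (Finset.mem_univ β) h
  have h6 := mul_ne_zero h1 h2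
  have h7 := mul_ne_zero h3 h4
  omega

/-- The combinatorics of the exceptional characters. `u k`: the `k`-th linear character is faithful. -/
theorem ch_comb {I Λ : Type*} [Fintype I] (r : Λ → Λ → Prop) (hr : Equivalence r) (u : Λ → Prop)
    (hu : ∀ k l, r k l → (u k ↔ u l)) (a : I → Λ → ℕ) (D : I → ℤ) (hD : ∀ χ, 0 < D χ) (m : I → ℕ) (e : I)
    (ha : ∀ χ k l, r k l → a χ k = a χ l)
    (orth : ∀ k l, ∑ χ, D χ * ((a χ k : ℤ) - a χ l) = 0)
    (two : ∀ k l, ¬ r k l → ∑ χ, ((a χ k : ℤ) - a χ l) ^ 2 = 2)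
    (three : ∃ k₁ k₂ k₃, u k₁ ∧ u k₂ ∧ u k₃ ∧ ¬ r k₁ k₂ ∧ ¬ r k₁ k₃ ∧ ¬ r k₂ k₃)
    (one : ∀ k, u k → ∑ χ, m χ * a χ k = 1) (ge : ∀ k, ¬ u k → 2 ≤ ∑ χ, m χ * a χ k) (ex : ∃ k, ¬ u k)
    (he : ∀ k, a e k = 0) (ker : ∀ χ, m χ ≠ 0 → (∀ k, u k → a χ k = 0) → χ = e) :
    (∀ k l, ¬ u k → ¬ u l → r k l) ∧ ∃ ψ, m ψ = 1 ∧ ∀ χ, χ ≠ e → χ ≠ ψ → m χ = 0 := by
  classical
  obtain ⟨k₁, k₂, k₃, u1, u2, u3, r12, r13, r23⟩ := three
  obtain ⟨f, hf⟩ := ex
  let s : Setoid Λ := ⟨r, hr⟩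
  have hq : ∀ k l : Λ, Quotient.mk s k = Quotient.mk s l ↔ r k l := fun k l => Quotient.eq
  obtain ⟨ε, c, x, hx, hε, hc⟩ := S7.chc_shape (J := Quotient s) (fun χ j => (a χ j.out : ℤ)) (Quotient.mk s k₁)
    (Quotient.mk s k₂) (fun e => r12 ((hq _ _).1 e.symm)) fun i j hij =>
      S7.chc_norm_two (fun χ => (a χ i.out : ℤ) - a χ j.out) D hD
        (two _ _ fun e => hij (by rw [← i.out_eq, ← j.out_eq]; exact (hq _ _).2 e)) (orth _ _)
  let y : Λ → I := fun k => x (Quotient.mk s k)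
  have hy : ∀ k l, y k = y l ↔ r k l := fun k l => hx.eq_iff.trans (hq k l)
  have hc' : ∀ φ k, (a φ k : ℤ) = c φ + if φ = y k then ε else 0 := fun φ k => by
    rw [← hc φ (Quotient.mk s k), ha φ _ k (Quotient.mk_out (s := s) k)]
  have hs : ∀ k, ((∑ χ, m χ * a χ k : ℕ) : ℤ) = (∑ χ, (m χ : ℤ) * c χ) + m (y k) * ε := fun k => by
    push_cast
    simp only [hc', mul_add, Finset.sum_add_distrib, mul_ite, mul_zero, Finset.sum_ite_eq', Finset.mem_univ, if_true]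
  have hgt : ∀ g f, u g → ¬ u f → (m (y g) : ℤ) * ε + 1 ≤ m (y f) * ε := fun g f hg hf => by
    have h1 := hs g
    have h2 := hs f
    have h3 := ge f hf
    rw [one g hg] at h1
    have h4 : (2 : ℤ) ≤ ((∑ χ, m χ * a χ f : ℕ) : ℤ) := by exact_mod_cast h3
    push_cast at h1
    omega
  rcases hε with rfl | rfl
  · have hm : ∀ f, ¬ u f → m (y f) ≠ 0 := fun f hf => by
      have := hgt k₁ f u1 hf
      omega
    have hne : ∀ g f, u g → ¬ u f → y f ≠ y g := fun g f hg hf e => hf ((hu _ _ ((hy _ _).1 e)).2 hg)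
    have hb : ∀ g f, u g → ¬ u f → a (y f) g ≠ 0 := fun g f hg hf e => by
      have h1 := hc' (y f) g
      rw [if_neg (hne g f hg hf), e] at h1
      have h2 : y f = _ := ker (y f) (hm f hf) fun k hk => by
        have h3 := hc' (y f) k
        rw [if_neg (hne k f hk hf)] at h3
        omega
      have h3 := hc' (y f) f
      rw [if_pos rfl] at h3
      have h4 := he f
      rw [← h2] at h4
      omega
    refine ⟨fun k l hk hl => (hy k l).1 ?_, y f, ?_, fun χ h1 h2 => ?_⟩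
    · by_contra e
      exact chC_two m (a · k₁) e (hm k hk) (hb k₁ k u1 hk) (hm l hl) (hb k₁ l u1 hl) (one k₁ u1)
    · have h1 := Finset.single_le_sum (f := fun χ => m χ * a χ k₁) (s := Finset.univ) (fun _ _ => Nat.zero_le _)
        (Finset.mem_univ (y f))
      rw [one k₁ u1] at h1
      have h2 := Nat.le_mul_of_pos_right (m (y f)) (Nat.pos_of_ne_zero (hb k₁ f u1 hf))
      have h3 := hm f hf
      omega
    · by_contra h3
      have h4 : ¬ ∀ k, u k → a χ k = 0 := fun h => h1 (ker χ h3 h)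
      push Not at h4
      obtain ⟨g, hg, h4⟩ := h4
      exact chC_two m (a · g) h2 h3 h4 (hm f hf) (hb g f hg hf) (one g hg)
  · exfalso
    have hm : ∀ g, u g → m (y g) ≠ 0 := fun g hg => by
      have := hgt g f hg hf
      omega
    have hb : ∀ g k, ¬ r g k → a (y g) k ≠ 0 := fun g k hk e => by
      have h1 := hc' (y g) k
      rw [if_neg (fun e => hk ((hy _ _).1 e)), e] at h1
      have h2 := hc' (y g) g
      rw [if_pos rfl] at h2
      omega
    exact chC_two m (a · k₃) (fun e => r12 ((hy _ _).1 e)) (hm k₁ u1) (hb k₁ k₃ r13) (hm k₂ u2) (hb k₂ k₃ r23)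
      (one k₃ u3)

end Cfsg.Agent.EL
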