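import Mathlib
import Cfsg.Agent.EL.Defs
import Cfsg.Agent.EL.Orb
import Cfsg.Agent.EL.TriA
import Cfsg.Agent.EL.TriC
import Cfsg.Agent.EL.CycA

set_option autoImplicit false

namespace Cfsg.Agent.EL

open MulAction

/-- The defect of a restriction at `W` is at least the contribution of its linear constituents. -/
theorem chK_low {G : Type*} [Group G] [Fintype G] {S : Subgroup G} [Fintype S] {K : Type*} (s : Finset K)
    (f : K → (S →* ℂˣ)) (hf : Function.Injective f) (χ : IrrCharacter G) (W : S) :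
    ∑ k ∈ s, (S7.chdM χ (f k) : ℝ) * (1 - (f k W : ℂ).re) ≤ (χ.1 1).re - (χ.1 W).re := by
  classical
  obtain ⟨n, hn1, hn2⟩ := (χ.isCharacter.restrict S).exists_mult
  have ev : ∀ y : S, (χ.1 y).re = ∑ ψ : IrrCharacter S, (n ψ : ℝ) * (ψ.1 y).re := fun y => by
    have := congrArg Complex.re (congrFun hn2 y)
    rw [this]
    simp [Finset.sum_apply]
  let e : K → IrrCharacter S := fun k => ⟨fun g => (f k g : ℂ), Ch.isIrrCharacter_monoidHom_units (f k)⟩
  have he : Function.Injective e := fun k l hkl =>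
    hf (MonoidHom.ext fun g => Units.ext (congrFun (congrArg Subtype.val hkl) g))
  have hne : ∀ k, S7.chdM χ (f k) = n (e k) := fun k => by
    refine Nat.cast_injective (R := ℂ) ?_
    rw [← S7.chdM_eq]
    exact hn1 (e k)
  have h1 := ev 1
  rw [OneMemClass.coe_one] at h1
  rw [h1, ev W, ← Finset.sum_sub_distrib]
  calc ∑ k ∈ s, (S7.chdM χ (f k) : ℝ) * (1 - (f k W : ℂ).re)
      = ∑ ψ ∈ s.image e, ((n ψ : ℝ) * (ψ.1 1).re - (n ψ : ℝ) * (ψ.1 W).re) := by
        rw [Finset.sum_image fun k _ l _ hkl => he hkl]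
        refine Finset.sum_congr rfl fun k _ => ?_
        rw [hne]
        simp only [e, map_one, Units.val_one, Complex.one_re]
        ring
    _ ≤ _ := Finset.sum_le_sum_of_subset_of_nonneg (Finset.subset_univ _) fun ψ _ _ => by
        rw [← mul_sub]
        exact mul_nonneg (Nat.cast_nonneg _) (sub_nonneg.2 (ψ.isCharacter.re_le W))

theorem chK_sum {p : ℕ} [NeZero (p ^ 2)] (hp : p.Prime) :
    ∑ k ∈ Finset.univ.filter (fun k : ZMod (p ^ 2) => IsUnit k),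
      (1 - (ZMod.stdAddChar (k * (p : ZMod (p ^ 2)))).re) = (p : ℝ) ^ 2 := by
  classical
  have p2 := hp.two_le
  have p0 : (p : ZMod (p ^ 2)) ≠ 0 := by
    rw [Ne, ZMod.natCast_eq_zero_iff]
    intro k
    have := Nat.le_of_dvd (by positivity) k
    nlinarith
  have h1 := AddChar.sum_mulShift (p : ZMod (p ^ 2)) (ZMod.isPrimitive_stdAddChar (p ^ 2))
  rw [if_neg p0, Nat.cast_zero] at h1
  rw [Finset.sum_filter_of_ne, Finset.sum_sub_distrib, ← Complex.re_sum, h1]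
  · simp [ZMod.card]
  · intro k _ hk
    by_contra hu
    apply hk
    have h2 : p ∣ k.val := by
      by_contra h3
      apply hu
      rw [← ZMod.natCast_zmod_val k, ZMod.isUnit_iff_coprime]
      exact ((hp.coprime_iff_not_dvd.2 h3).symm).pow_right 2
    obtain ⟨j, hj⟩ := h2
    have h4 : k * (p : ZMod (p ^ 2)) = 0 := by
      rw [← ZMod.natCast_zmod_val k, ← Nat.cast_mul, ZMod.natCast_eq_zero_iff, hj]
      exact ⟨j, by ring⟩
    rw [h4, AddChar.map_zero_eq_one, Complex.one_re, sub_self]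

variable {G Ω : Type*} [Group G] [Fintype G] [MulAction G Ω] [FaithfulSMul G Ω] [Finite Ω] {p q : ℕ} [NeZero (p ^ 2)]

omit [Fintype G] [FaithfulSMul G Ω] [NeZero (p ^ 2)] in
theorem chK_fix (hp : p.Prime) {P R : Subgroup G} {c : Ω} {x : G} (hC : Cyc p P R c x) :
    Nat.card (fixedBy Ω (1 : G)) = Nat.card (fixedBy Ω (x ^ p)) + p ^ 2 := by
  have hx : x ∈ P := hC.hP ▸ Subgroup.mem_zpowers x
  have h1 : fixedBy Ω (x ^ p) = (orbit P c)ᶜ := by
    ext a
    constructor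
    · intro ha hb
      have h2 := hC.blk a hb
      have h3 : orbit R a = {a} := by
        refine Set.eq_singleton_iff_unique_mem.2 ⟨mem_orbit_self a, ?_⟩
        rintro _ ⟨⟨y, hy⟩, rfl⟩
        rw [hC.hR] at hy
        obtain ⟨i, rfl⟩ := hy
        exact mem_stabilizer_iff.1 (Subgroup.zpow_mem _ (mem_stabilizer_iff.2 ha) i)
      rw [ol, h3, Nat.card_unique] at h2
      exact hp.one_lt.ne h2
    · intro ha
      exact (hC.pw x hx).2 a ha
  rw [fixedBy_one_eq_univ, h1, ← hC.long, ol, Nat.card_coe_set_eq, Nat.card_coe_set_eq,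
    Nat.card_coe_set_eq, Set.ncard_univ, add_comm, Set.ncard_add_ncard_compl]

/-- A constituent of the permutation character containing no faithful character of `C(w)/E` has `w` in its kernel. -/
theorem Hyp.chK (h : Hyp G Ω p q) {P R : Subgroup G} (hP : Syl p P) {c : Ω} {x : G} (hC : Cyc p P R c x)
    [Fintype (Cw (x ^ p))] (φ : Cw (x ^ p) →* Multiplicative (ZMod (p ^ 2)))
    (hφ : ∀ (y : Cw (x ^ p)) (i : ℕ), (φ y).toAdd = (i : ZMod (p ^ 2)) ↔ ∀ d ∈ orbit P c, (y : G) • d = x ^ i • d)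
    (m : IrrCharacter G → ℕ) (hm : ∀ g : G, ∑ χ, (m χ : ℂ) * χ.1 g = (Nat.card (fixedBy Ω g) : ℂ))
    (hmul : ∀ k : ZMod (p ^ 2), IsUnit k → ∑ χ, m χ * S7.chdM χ (lc φ k) = 1)
    (χ : IrrCharacter G) (hχ : m χ ≠ 0) (h0 : ∀ k : ZMod (p ^ 2), IsUnit k → S7.chdM χ (lc φ k) = 0) :
    χ.1 (x ^ p) = χ.1 1 := by
  classical
  have mC : ∀ i : ℕ, x ^ i ∈ Cw (x ^ p) := fun i =>
    Subgroup.mem_centralizer_singleton_iff.2 (Commute.pow_pow_self x i p)
  have hφi : ∀ i : ℕ, (φ ⟨x ^ i, mC i⟩).toAdd = (i : ZMod (p ^ 2)) := fun i =>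
    (hφ _ i).2 fun _ _ => rfl
  have hinj : Function.Injective (lc φ) := fun k l hkl => by
    have h1 : (lc φ k ⟨x ^ 1, mC 1⟩ : ℂ) = lc φ l ⟨x ^ 1, mC 1⟩ := by rw [hkl]
    rw [lc_apply, lc_apply, hφi, Nat.cast_one, mul_one, mul_one] at h1
    exact ZMod.injective_stdAddChar h1
  set s := Finset.univ.filter (fun k : ZMod (p ^ 2) => IsUnit k) with hs
  let W : Cw (x ^ p) := ⟨x ^ p, mC p⟩
  let t : ZMod (p ^ 2) → ℝ := fun k => 1 - (lc φ k W : ℂ).re
  let D : IrrCharacter G → ℝ := fun ψ =>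
    (ψ.1 1).re - (ψ.1 (x ^ p)).re - ∑ k ∈ s, (S7.chdM ψ (lc φ k) : ℝ) * t k
  have hD : ∀ ψ, 0 ≤ (m ψ : ℝ) * D ψ := fun ψ =>
    mul_nonneg (Nat.cast_nonneg _) (sub_nonneg.2 (chK_low s (lc φ) hinj ψ W))
  have ht : ∑ k ∈ s, t k = (p : ℝ) ^ 2 := by
    rw [← chK_sum h.hp]
    refine Finset.sum_congr rfl fun k _ => ?_
    simp only [t, W, lc_apply, hφi]
  have hre : ∀ g : G, ∑ ψ, (m ψ : ℝ) * (ψ.1 g).re = (Nat.card (fixedBy Ω g) : ℝ) := fun g => by
    have := congrArg Complex.re (hm g)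
    simpa using this
  have h2 : ∑ ψ, (m ψ : ℝ) * ∑ k ∈ s, (S7.chdM ψ (lc φ k) : ℝ) * t k = ∑ k ∈ s, t k := by
    simp only [Finset.mul_sum, ← mul_assoc]
    rw [Finset.sum_comm]
    refine Finset.sum_congr rfl fun k hk => ?_
    have h3 : ((∑ ψ, m ψ * S7.chdM ψ (lc φ k) : ℕ) : ℝ) = 1 := by
      rw [hmul k (Finset.mem_filter.1 hk).2, Nat.cast_one]
    push_cast at h3
    rw [← Finset.sum_mul, h3, one_mul]
  have hsum : ∑ ψ, (m ψ : ℝ) * D ψ = 0 := by
    simp only [D, mul_sub, Finset.sum_sub_distrib]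
    rw [hre, hre, h2, ht, chK_fix h.hp hC]
    push_cast
    ring
  have h4 := (Finset.sum_eq_zero_iff_of_nonneg fun ψ _ => hD ψ).1 hsum χ (Finset.mem_univ _)
  have h5 : D χ = 0 := (mul_eq_zero.1 h4).resolve_left (Nat.cast_ne_zero.2 hχ)
  have h6 : ∑ k ∈ s, (S7.chdM χ (lc φ k) : ℝ) * t k = 0 :=
    Finset.sum_eq_zero fun k hk => by rw [h0 k (Finset.mem_filter.1 hk).2, Nat.cast_zero, zero_mul]
  simp only [D, h6, sub_zero] at h5
  exact χ.isCharacter.eq_apply_one_of_re_eq (sub_eq_zero.1 h5).symm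

end Cfsg.Agent.EL
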