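import Mathlib
import Cfsg.Agent.EL.Defs
import Cfsg.Agent.EL.Orb
import Cfsg.Agent.EL.SQ
import Cfsg.Agent.EL.TriA
import Cfsg.Agent.EL.TriC
import Cfsg.Agent.EL.CycA

set_option autoImplicit false
set_option linter.unusedSectionVars false

namespace Cfsg.Agent.EL

open MulAction

variable {G Ω : Type*} [Group G] [Finite G] [MulAction G Ω] [FaithfulSMul G Ω] [Finite Ω] {p q : ℕ}

theorem CycB_dvd (A : Subgroup G) (S : Set Ω) (hS : ∀ y ∈ A, ∀ a ∈ S, y • a ∈ S) {k : ℕ}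
    (hk : ∀ a : Ω, k ∣ ol A a) : k ∣ Nat.card S := by
  classical
  have := Fintype.ofFinite Ω
  rw [Nat.card_eq_card_toFinset, Finset.card_eq_sum_card_image (fun a => orbit A a)]
  refine Finset.dvd_sum fun b hb => ?_
  obtain ⟨a, ha, rfl⟩ := Finset.mem_image.1 hb
  refine (hk a).trans (Dvd.intro_left 1 ?_)
  rw [one_mul, ol, Nat.card_eq_card_toFinset]
  congr 1
  ext e
  simp only [Finset.mem_filter, Set.mem_toFinset, orbit_eq_iff]
  exact ⟨fun h => ⟨by obtain ⟨y, rfl⟩ := h; exact hS y y.2 a (Set.mem_toFinset.1 ha), h⟩, fun h => h.2⟩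

theorem CycB_eq (tr : IsPretransitive G Ω) (M : Subgroup G) [M.Normal] (a b : Ω) : ol M a = ol M b := by
  obtain ⟨g, rfl⟩ := exists_smul_eq G a b
  rw [ol, ol, ← smul_orbit_eq_orbit_smul, Nat.card_coe_set_eq, Nat.card_coe_set_eq, Set.ncard_smul_set]

theorem CycB_dvd' (tr : IsPretransitive G Ω) (M : Subgroup G) [M.Normal] (a : Ω) : ol M a ∣ Nat.card Ω := by
  have := CycB_dvd M Set.univ (fun _ _ _ _ => trivial) fun b => (CycB_eq tr M a b).dvd
  rwa [Nat.card_univ] at this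

theorem CycB_mul (A : Subgroup G) (a : Ω) : Nat.card (stabilizer A a) * ol A a = Nat.card A := by
  rw [ol, Nat.card_coe_set_eq, ← index_stabilizer, Subgroup.card_mul_index]

theorem CycB_mono {A H : Subgroup G} (h : A ≤ H) (a : Ω) : ol A a ≤ ol H a :=
  Nat.card_mono (Set.toFinite _) fun _ ⟨y, e⟩ => ⟨⟨y, h y.2⟩, e⟩

theorem Hyp.CycB_top (h : Hyp G Ω p q) {H : Subgroup G} {c : Ω} (hc : 2 * p * q ≤ ol H c) : H = ⊤ := by
  have h1 : orbit H c = Set.univ := Set.eq_of_subset_of_ncard_le (Set.subset_univ _) (by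
    rwa [Set.ncard_univ, h.card])
  refine h.min H fun a b => ?_
  obtain ⟨g, rfl⟩ : a ∈ orbit H c := h1 ▸ trivial
  obtain ⟨k, rfl⟩ : b ∈ orbit H c := h1 ▸ trivial
  exact ⟨k * g⁻¹, mul_mem k.2 (inv_mem g.2), by simp [Subgroup.smul_def, smul_smul]⟩

theorem Hyp.CycB_two (h : Hyp G Ω p q) (M : Subgroup G) [M.Normal] (a : Ω) (h1 : ¬ p ∣ ol M a) (h2 : q < ol M a) :
    ol M a = 2 * q := by
  have h3 := CycB_dvd' h.tr M a
  rw [h.card, show 2 * p * q = p * (2 * q) by ring] at h3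
  have := h.q3
  exact (Nat.eq_of_dvd_of_lt_two_mul (by omega)
    (((h.hp.coprime_iff_not_dvd.2 h1).symm).dvd_of_dvd_mul_left h3) (by omega)).symm

theorem Hyp.CycB_R (h : Hyp G Ω p q) {P R : Subgroup G} {c : Ω} {x : G} (hC : Cyc p P R c x) : Nat.card R = p := by
  have := hC.idx
  rw [hC.hP, Nat.card_zpowers, hC.ord, pow_two] at this
  exact (Nat.eq_of_mul_eq_mul_left h.hp.pos this).symm

/-- There is no normal `p`-complement. -/
theorem Hyp.CycB_nc (h : Hyp G Ω p q) {P R : Subgroup G} (hP : Syl p P) {c : Ω} {x : G} (hC : Cyc p P R c x)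
    (L : Subgroup G) [hL : L.Normal] (h1 : ¬ p ∣ Nat.card L) (h2 : ∀ g : G, ∃ y ∈ L, ∃ i : ℕ, g = y * x ^ i) :
    False := by
  have := h.tr
  obtain ⟨a, ha⟩ := hC.ex
  have hx : x ∈ P := hC.hP ▸ Subgroup.mem_zpowers x
  have h3 : ∀ e : Ω, ∃ b ∈ orbit P a, e ∈ orbit L b := fun e => by
    obtain ⟨g, rfl⟩ := exists_smul_eq G a e
    obtain ⟨y, hy, i, rfl⟩ := h2 g
    exact ⟨x ^ i • a, ⟨⟨_, pow_mem hx i⟩, rfl⟩, ⟨y, hy⟩, (mul_smul _ _ _).symm⟩
  have h4 : Nat.card Ω ≤ ol P a * ol L c := by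
    have := Fintype.ofFinite (orbit P a)
    calc Nat.card Ω ≤ Nat.card (Σ b : orbit P a, orbit L (b : Ω)) :=
          Nat.card_le_card_of_surjective (fun s => (s.2 : Ω)) fun e => by
            obtain ⟨b, k1, k2⟩ := h3 e
            exact ⟨⟨⟨b, k1⟩, e, k2⟩, rfl⟩
      _ = _ := by
        rw [Nat.card_sigma, Finset.sum_congr rfl fun (b : orbit P a) _ => CycB_eq h.tr L (b : Ω) c,
          Finset.sum_const, Finset.card_univ, smul_eq_mul, ← Nat.card_eq_fintype_card]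
  rw [h.card, hC.short a ha, show 2 * p * q = p * (2 * q) by ring] at h4
  have h5 := Nat.le_of_mul_le_mul_left h4 h.hp.pos
  have h6 := h.CycB_two L c (fun k => h1 (k.trans (Dvd.intro_left _ (CycB_mul L c)))) (by have := h.q3; omega)
  have h7 := sq_triv h.hp h.hq h.q3 h.qp L R h1 (hP.pg.to_le hC.le) (fun r _ z hz => hL.conj_mem z hz r) c h6
    fun r hr => by
      obtain ⟨b, k1, y, k2⟩ := h3 c
      have k3 : b ∉ orbit P c := fun k => ha (by
        rw [← orbit_eq_iff.2 k, orbit_eq_iff.2 k1]; exact mem_orbit_self a)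
      refine ⟨⟨r * y * r⁻¹ * (y : G)⁻¹, mul_mem (hL.conj_mem _ y.2 r) (inv_mem y.2)⟩, ?_⟩
      have k4 : (y : G) • b = c := k2
      change (r * y * r⁻¹ * (y : G)⁻¹) • c = r • c
      rw [← k4, ← mul_smul, inv_mul_cancel_right, mul_smul, hC.fix b k3 _ (inv_mem hr), mul_smul]
  have h8 : orbit R c = {c} := Set.eq_singleton_iff_unique_mem.2 ⟨mem_orbit_self c, by
    rintro _ ⟨r, rfl⟩
    exact h7 r r.2⟩
  have h9 := hC.blk c (mem_orbit_self c)
  rw [ol, h8, Nat.card_unique] at h9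
  exact h.hp.one_lt.ne h9

/-- The conjugates of `w` generate `G`. -/
theorem Hyp.cyc_gen (h : Hyp G Ω p q) {P R : Subgroup G} (hP : Syl p P) {c : Ω} {x : G} (hC : Cyc p P R c x) :
    Subgroup.normalClosure ({x ^ p} : Set G) = ⊤ := by
  haveI : Fact p.Prime := ⟨h.hp⟩
  obtain ⟨M, hM⟩ : ∃ M, M = Subgroup.normalClosure ({x ^ p} : Set G) := ⟨_, rfl⟩
  haveI hn : M.Normal := hM ▸ inferInstance
  have hR : R ≤ M := by
    rw [hC.hR, Subgroup.zpowers_le, hM]
    exact Subgroup.subset_normalClosure rfl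
  rw [← hM]
  have hx : x ∈ P := hC.hP ▸ Subgroup.mem_zpowers x
  have qp := h.qp
  have q3 := h.q3
  by_cases hxM : x ∈ M
  · have h1 := CycB_mono (show P ≤ M by rw [hC.hP]; exact Subgroup.zpowers_le.2 hxM) c
    have h2 := CycB_dvd' h.tr M c
    rw [hC.long] at h1
    rw [h.card] at h2
    exact h.CycB_top (Nat.eq_of_dvd_of_lt_two_mul (Nat.mul_pos (by omega) (by omega)).ne' h2 (by nlinarith)).le
  exfalso
  have h1 : ∀ y ∈ M, y ∈ P → y ∈ R := fun y hy hy' => by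
    rw [hC.hP] at hy'
    obtain ⟨i, rfl⟩ := (mem_powers_iff_mem_zpowers).2 hy'
    by_cases k : p ∣ i
    · obtain ⟨j, rfl⟩ := k
      rw [hC.hR]
      exact ⟨j, by simp [pow_mul]⟩
    · have k1 : i.Coprime (orderOf x) := hC.ord ▸ ((h.hp.coprime_iff_not_dvd.2 k).symm.pow_right 2)
      obtain ⟨j, hj⟩ := exists_pow_eq_self_of_coprime k1
      exact absurd (hj ▸ pow_mem hy j) hxM
  have h2 : ¬ p ∣ ol M c := fun k => by
    obtain ⟨a, ha⟩ := hC.ex
    have k1 : p ∣ Nat.card (stabilizer M a) := by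
      rw [← h.CycB_R hC]
      exact Subgroup.card_dvd_of_injective ((Subgroup.inclusion hR).codRestrict _ fun r =>
        mem_stabilizer_iff.2 (hC.fix a ha r r.2)) fun r s e =>
          Subtype.ext (congrArg (fun z : stabilizer M a => (z.1 : G)) e)
    have k2 : p ^ 2 ∣ Nat.card M := by
      rw [← CycB_mul M a, pow_two, CycB_eq h.tr M a c]
      exact mul_dvd_mul k1 k
    obtain ⟨U, hU⟩ := Sylow.exists_subgroup_card_pow_prime p k2
    obtain ⟨g, hg⟩ := o_conj h.hp hP (U.map M.subtype) ((IsPGroup.of_card hU).map _)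
    have k3 := Nat.card_le_card_of_injective (fun u : U => (⟨g⁻¹ * u.1 * g,
      h1 _ (hn.conj_mem' _ u.1.2 g) (hg _ ⟨u.1, u.2, rfl⟩)⟩ : R)) fun u v e =>
        Subtype.ext (Subtype.ext (by simpa using e))
    rw [hU, h.CycB_R hC] at k3
    nlinarith
  have h3 := h.CycB_two M c h2 (qp.trans_le ((hC.blk c (mem_orbit_self c)).ge.trans (CycB_mono hR c)))
  have h4 : ∀ y ∈ M ⊔ P, ∀ a ∈ orbit (M ⊔ P : Subgroup G) c, y • a ∈ orbit (M ⊔ P : Subgroup G) c := by
    rintro y hy _ ⟨z, rfl⟩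
    exact ⟨⟨y, hy⟩ * z, mul_smul _ _ _⟩
  have h5 := CycB_dvd M _ (fun y hy => h4 y (Subgroup.mem_sup_left hy)) fun a =>
    (h3.symm.trans (CycB_eq h.tr M c a)).dvd
  have h6 := CycB_dvd P _ (fun y hy => h4 y (Subgroup.mem_sup_right hy)) (k := p) fun a =>
    (h.o_len hP a).elim (fun e => e.symm.dvd) fun e => e ▸ dvd_pow_self p two_ne_zero
  have h7 : M ⊔ P = ⊤ := h.CycB_top (c := c) (Nat.le_of_dvd (by
      have := CycB_mono (le_sup_left : M ≤ M ⊔ P) c
      omega) (by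
    rw [show 2 * p * q = p * (2 * q) by ring]
    exact (h.hp.coprime_iff_not_dvd.2 (h3 ▸ h2)).mul_dvd_of_dvd_of_dvd h6 h5))
  obtain ⟨L, -, k1, k2, k3⟩ := h.cyc_burn hP hC ⊤ le_top fun n _ hn' => .inl (h1 _ (by
    obtain ⟨y, hy, z, hz, rfl⟩ := Subgroup.mem_sup_of_normal_left.1 (h7.ge (Subgroup.mem_top n))
    rw [hC.hP] at hz
    obtain ⟨i, rfl⟩ := hz
    have := mul_mem hy (hn.conj_mem _ (inv_mem hy) x)
    convert this using 1
    group) (mul_mem hn' (inv_mem hx)))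
  haveI : L.Normal := ⟨fun y hy g => k2 g trivial y hy⟩
  exact h.CycB_nc hP hC L k1 fun g => k3 g trivial

end Cfsg.Agent.EL
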