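import Mathlib
import Cfsg.Agent.EL.Defs
import Cfsg.Agent.EL.Orb
import Cfsg.Agent.EL.TriA
import Cfsg.Agent.EL.TriC
import Cfsg.Agent.EL.CycA

set_option autoImplicit false

namespace Cfsg.Agent.EL

open MulAction

variable {G Ω : Type*} [Group G] [Finite G] [MulAction G Ω] [FaithfulSMul G Ω] [Finite Ω] {p q : ℕ}

omit [FaithfulSMul G Ω] [Finite Ω] in
theorem CycC.free {P R : Subgroup G} {c : Ω} {x : G} (hC : Cyc p P R c x) {a b : G} (ha : a ∈ P) (hb : b ∈ P)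
    (e : a • c = b • c) : a = b := by
  have h1 : Nat.card P = p ^ 2 := by rw [hC.hP, Nat.card_zpowers, hC.ord]
  have h2 := (stabilizer P c).card_mul_index
  rw [index_stabilizer, ← Nat.card_coe_set_eq, show Nat.card (orbit P c) = p ^ 2 from hC.long, ← h1] at h2
  have h3 : stabilizer P c = ⊥ := Subgroup.card_eq_one.1
    (Nat.eq_of_mul_eq_mul_right Nat.card_pos (h2.trans (one_mul _).symm))
  have h4 : (⟨b, hb⟩⁻¹ * ⟨a, ha⟩ : P) ∈ stabilizer P c := by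
    rw [mem_stabilizer_iff, mul_smul, inv_smul_eq_iff]
    exact e
  rw [h3, Subgroup.mem_bot, inv_mul_eq_one] at h4
  exact (congrArg Subtype.val h4).symm

omit [FaithfulSMul G Ω] [Finite Ω] [Finite G] in
theorem CycC.mem {P R : Subgroup G} {c : Ω} {x : G} (hC : Cyc p P R c x) (i : ℕ) : x ^ i ∈ P :=
  hC.hP ▸ Subgroup.npow_mem_zpowers x i

omit [FaithfulSMul G Ω] [Finite Ω] [Finite G] in
theorem CycC.pow_iff {P R : Subgroup G} {c : Ω} {x : G} (hC : Cyc p P R c x) {i j : ℕ} :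
    (i : ZMod (p ^ 2)) = j ↔ x ^ i = x ^ j := by
  rw [ZMod.natCast_eq_natCast_iff, pow_eq_pow_iff_modEq, hC.ord]

/-- The map of `C(w)` onto `ℤ / p²`. -/
theorem Hyp.cyc_phi (h : Hyp G Ω p q) {P R : Subgroup G} (hP : Syl p P) {c : Ω} {x : G} (hC : Cyc p P R c x) :
    ∃ φ : Cw (x ^ p) →* Multiplicative (ZMod (p ^ 2)),
      ∀ (y : Cw (x ^ p)) (i : ℕ), (φ y).toAdd = (i : ZMod (p ^ 2)) ↔ ∀ d ∈ orbit P c, (y : G) • d = x ^ i • d := by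
  choose f hf using (h.cyc_act hP hC).1
  have hc : c ∈ orbit P c := mem_orbit_self c
  refine ⟨MonoidHom.mk' (fun y => Multiplicative.ofAdd (f y.1 y.2 : ZMod (p ^ 2))) fun y z => ?_,
    fun y i => ⟨fun e d hd => ?_, fun e => ?_⟩⟩
  · rw [← ofAdd_add, ← Nat.cast_add, (CycC.pow_iff hC).2
      (CycC.free hC (CycC.mem hC _) (CycC.mem hC (f y.1 y.2 + f z.1 z.2)) ?_)]
    rw [← hf _ _ c hc, pow_add, mul_smul, ← hf y.1 y.2 (x ^ _ • c) ⟨⟨_, CycC.mem hC _⟩, rfl⟩, ← hf z.1 z.2 c hc,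
      ← mul_smul]
    rfl
  · rw [hf y.1 y.2 d hd, (CycC.pow_iff hC).1 e]
  · exact (CycC.pow_iff hC).2 (CycC.free hC (CycC.mem hC _) (CycC.mem hC _) ((hf y.1 y.2 c hc).symm.trans (e c hc)))

/-- If the non-zero non-units are all equivalent, all generators of `⟨w⟩` are conjugate. -/
theorem Hyp.cyc_pow (h : Hyp G Ω p q) {P R : Subgroup G} (hP : Syl p P) {c : Ω} {x : G} (hC : Cyc p P R c x)
    (φ : Cw (x ^ p) →* Multiplicative (ZMod (p ^ 2)))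
    (hφ : ∀ (y : Cw (x ^ p)) (i : ℕ), (φ y).toAdd = (i : ZMod (p ^ 2)) ↔ ∀ d ∈ orbit P c, (y : G) • d = x ^ i • d)
    (hD : PD φ) (he : ∀ k l : ZMod (p ^ 2), k ≠ 0 → l ≠ 0 → ¬ IsUnit k → ¬ IsUnit l → Eqv φ k l) (j : ℕ) (hj : ¬ p ∣ j) :
    ∃ g : G, g * x ^ p * g⁻¹ = (x ^ p) ^ j := by
  have hp := h.hp
  have nz : ∀ i : ℕ, ¬ p ∣ i → ((p * i : ℕ) : ZMod (p ^ 2)) ≠ 0 := fun i hi e => by
    rw [ZMod.natCast_eq_zero_iff, sq] at e
    exact hi (Nat.dvd_of_mul_dvd_mul_left hp.pos e)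
  have nu : ∀ i : ℕ, ¬ IsUnit ((p * i : ℕ) : ZMod (p ^ 2)) := fun i e =>
    hp.ne_one ((Nat.coprime_self p).1
      (((ZMod.isUnit_iff_coprime _ _).1 e).coprime_mul_right.coprime_dvd_right (dvd_pow_self p two_ne_zero)))
  obtain ⟨g, hg, hc⟩ := he _ _ (nz 1 hp.not_dvd_one) (nz j hj) (nu 1) (nu j)
  have hx : x ∈ Cw (x ^ p) := Subgroup.mem_centralizer_singleton_iff.2 (Commute.self_pow x p).eq
  have h1 : (φ ⟨x, hx⟩).toAdd = ((1 : ℕ) : ZMod (p ^ 2)) := (hφ _ 1).2 fun d _ => by rw [pow_one]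
  have h2 := hc ⟨x, hx⟩ ⟨_, hD.nc g hg x hx⟩ rfl
  rw [h1, Nat.cast_one, mul_one, mul_one, ← nsmul_eq_mul, ← toAdd_pow, ← map_pow, hφ] at h2
  have h3 : g * x ^ p * g⁻¹ ∈ P := hC.le (hC.hR ▸ (Subgroup.mem_normalizer_iff.1 hg _).1 (Subgroup.mem_zpowers _))
  refine ⟨g, (CycC.free hC h3 (CycC.mem hC (p * j)) ?_).trans (pow_mul x p j)⟩
  rw [← h2 c (mem_orbit_self c), ← conj_pow]
  rfl

end Cfsg.Agent.EL
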