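import Mathlib
import Cfsg.Agent.EL.Defs
import Cfsg.Agent.EL.Orb
import Cfsg.Agent.EL.TriA
import Cfsg.Agent.EL.TriC
import Cfsg.Agent.EL.CycA

set_option autoImplicit false
set_option linter.unusedSectionVars false

namespace Cfsg.Agent.EL

open MulAction

variable {G Ω : Type*} [Group G] [Finite G] [MulAction G Ω] [FaithfulSMul G Ω] [Finite Ω] {p q : ℕ}

theorem cycD_pp : (p : ZMod (p ^ 2)) * p = 0 := by
  rw [← pow_two, ← Nat.cast_pow, ZMod.natCast_self]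

theorem cycD_nu (hp : p.Prime) {t : ZMod (p ^ 2)} (ht : ¬ IsUnit t) : (p : ZMod (p ^ 2)) * t = 0 := by
  have : NeZero (p ^ 2) := ⟨pow_ne_zero _ hp.ne_zero⟩
  rw [← ZMod.natCast_zmod_val t] at ht ⊢
  rw [ZMod.isUnit_iff_coprime] at ht
  obtain ⟨s, hs⟩ : p ∣ t.val := by
    by_contra k
    exact ht (((Nat.Prime.coprime_iff_not_dvd hp).2 k).symm.pow_right 2)
  rw [hs, Nat.cast_mul, ← mul_assoc, cycD_pp, zero_mul]

theorem cycD_nc {w g y : G} (hg : g ∈ Nw w) (hy : y ∈ Cw w) : g * y * g⁻¹ ∈ Cw w := by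
  obtain ⟨k, hk⟩ := (Subgroup.mem_normalizer_iff''.1 hg w).1 (Subgroup.mem_zpowers w)
  have h1 : Commute y (g⁻¹ * w * g) := by
    rw [← hk]
    exact Commute.zpow_right (Subgroup.mem_centralizer_singleton_iff.1 hy) k
  rw [Subgroup.mem_centralizer_singleton_iff]
  calc g * y * g⁻¹ * w = g * (y * (g⁻¹ * w * g)) * g⁻¹ := by group
    _ = _ := by rw [h1.eq]; group

theorem cycD_cn {w : G} : Cw w ≤ Nw w := fun g hg =>
  Subgroup.mem_normalizer_fintype fun n ⟨k, hk⟩ => by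
    have : Commute g n := hk ▸ Commute.zpow_right (Subgroup.mem_centralizer_singleton_iff.1 hg) k
    rw [this.eq, mul_inv_cancel_right]
    exact ⟨k, hk⟩

section

variable (h : Hyp G Ω p q) {P R : Subgroup G} (hP : Syl p P) {c : Ω} {x : G} (hC : Cyc p P R c x)
include h hC

theorem cycD_w : (x ^ p) ^ p = 1 ∧ x ^ p ≠ 1 := by
  refine ⟨by rw [← pow_mul, ← pow_two, ← hC.ord, pow_orderOf_eq_one], fun e => ?_⟩
  have h1 := Nat.le_of_dvd h.hp.pos (hC.ord ▸ orderOf_dvd_of_pow_eq_one e)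
  have := h.hp.two_le
  nlinarith

theorem cycD_gen {r s : G} (hr : r ∈ R) (r1 : r ≠ 1) (hs : s ∈ R) : s ∈ Subgroup.zpowers r := by
  have := Fact.mk h.hp
  have h1 : Nat.card R = p := by
    rw [hC.hR, Nat.card_zpowers, orderOf_eq_prime (cycD_w h hC).1 (cycD_w h hC).2]
  have h2 : Subgroup.zpowers r = R := Subgroup.eq_of_le_of_card_ge (Subgroup.zpowers_le.2 hr) (by
    rw [h1, Nat.card_zpowers, orderOf_eq_prime (hC.exp r hr) r1])
  exact h2 ▸ hs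

include hP in
theorem cycD_ord {z : G} (hz : z ∈ Cw (x ^ p)) (zp : z ^ p = 1) : z ∈ R := by
  have := Fact.mk h.hp
  have pg : ∀ y : G, y ^ p = 1 → IsPGroup p (Subgroup.zpowers y) := fun y hy => by
    rintro ⟨_, k, rfl⟩
    refine ⟨1, Subtype.ext ?_⟩
    show (y ^ k) ^ p ^ 1 = 1
    rw [pow_one, ← zpow_natCast, ← zpow_mul, mul_comm, zpow_mul, zpow_natCast, hy, one_zpow]
  obtain ⟨g, hg⟩ := o_conj h.hp hP (Subgroup.zpowers z ⊔ Subgroup.zpowers (x ^ p))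
    ((pg z zp).to_sup_of_normal_right' (pg _ (cycD_w h hC).1) (Subgroup.zpowers_le.2 (cycD_cn hz)))
  have cj : ∀ y : G, y ^ p = 1 → (g⁻¹ * y * g) ^ p = 1 := fun y hy => by
    have := conj_pow (a := g⁻¹) (b := y) (i := p)
    rwa [inv_inv, hy, mul_one, inv_mul_cancel] at this
  have h1 := hC.om _ (hg z (Subgroup.mem_sup_left (Subgroup.mem_zpowers z))) (cj z zp)
  have h2 := hC.om _ (hg _ (Subgroup.mem_sup_right (Subgroup.mem_zpowers _))) (cj _ (cycD_w h hC).1)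
  obtain ⟨k, hk⟩ := cycD_gen h hC h2 (fun e => (cycD_w h hC).2 (by
    calc x ^ p = g * (g⁻¹ * x ^ p * g) * g⁻¹ := by group
      _ = 1 := by rw [e]; group)) h1
  have h3 := conj_zpow (a := g⁻¹) (b := x ^ p) (i := k)
  rw [inv_inv] at h3
  rw [hC.hR]
  exact ⟨k, mul_left_cancel (a := g⁻¹) (mul_right_cancel (b := g) (h3.symm.trans hk))⟩

end

theorem Hyp.cyc_pd (h : Hyp G Ω p q) {P R : Subgroup G} (hP : Syl p P) {c : Ω} {x : G} (hC : Cyc p P R c x)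
    (φ : Cw (x ^ p) →* Multiplicative (ZMod (p ^ 2)))
    (hφ : ∀ (y : Cw (x ^ p)) (i : ℕ), (φ y).toAdd = (i : ZMod (p ^ 2)) ↔ ∀ d ∈ orbit P c, (y : G) • d = x ^ i • d) :
    PD φ := by
  have := Fact.mk h.hp
  have : NeZero (p ^ 2) := ⟨pow_ne_zero _ h.hp.ne_zero⟩
  obtain ⟨-, hE, -⟩ := h.cyc_act hP hC
  let X : Cw (x ^ p) := ⟨x, Subgroup.mem_centralizer_singleton_iff.2 (Commute.self_pow x p)⟩
  have fX : (φ X).toAdd = 1 := by
    rw [← Nat.cast_one]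
    exact (hφ X 1).2 fun d _ => by rw [pow_one]
  have fi : ∀ i : ℕ, (φ (X ^ i)).toAdd = i := fun i => by rw [map_pow, toAdd_pow, fX, nsmul_one]
  have ker : ∀ y : Cw (x ^ p), (φ y).toAdd = 0 ↔ (y : G) ∈ fixingSubgroup G (orbit P c) := fun y => by
    rw [← Nat.cast_zero, hφ, mem_fixingSubgroup_iff]
    simp only [pow_zero, one_smul]
  have car : ∀ g (hg : g ∈ Nw (x ^ p)) (y y' : Cw (x ^ p)), (y' : G) = g * y * g⁻¹ →
      (φ y').toAdd = (φ ⟨_, cycD_nc hg X.2⟩).toAdd * (φ y).toAdd := fun g hg y y' e => by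
    have h1 : (φ (y * (X ^ (φ y).toAdd.val)⁻¹)).toAdd = 0 := by
      rw [map_mul, map_inv, toAdd_mul, toAdd_inv, fi, ZMod.natCast_zmod_val, add_neg_cancel]
    have h2 := (mem_fixingSubgroup_iff G).1 ((ker _).1 h1)
    have h3 : (φ (y' * ((⟨_, cycD_nc hg X.2⟩ : Cw (x ^ p)) ^ (φ y).toAdd.val)⁻¹)).toAdd = 0 := by
      refine (ker _).2 ((mem_fixingSubgroup_iff G).2 fun d hd => ?_)
      have h4 := h2 _ (((h.cfa_norm hP hC.toCfa).1 g⁻¹ (hC.hR ▸ inv_mem hg) d).2 hd)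
      have h5 : ((y' * ((⟨_, cycD_nc hg X.2⟩ : Cw (x ^ p)) ^ (φ y).toAdd.val)⁻¹ : Cw (x ^ p)) : G) =
          g * (y * (X ^ (φ y).toAdd.val)⁻¹ : Cw (x ^ p)) * g⁻¹ := by
        simp only [Subgroup.coe_mul, Subgroup.coe_inv, Subgroup.coe_pow, e, conj_pow]
        group
      rw [h5, mul_smul, mul_smul, h4, smul_inv_smul]
    rw [map_mul, map_inv, toAdd_mul, toAdd_inv, map_pow, toAdd_pow, nsmul_eq_mul, ZMod.natCast_zmod_val,
      add_neg_eq_zero] at h3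
    rw [h3, mul_comm]
  have pC : ∀ g (hg : g ∈ Nw (x ^ p)), (p : ZMod (p ^ 2)) * (φ ⟨_, cycD_nc hg X.2⟩).toAdd = p →
      g ∈ Cw (x ^ p) := fun g hg e => by
    have h1 := car g hg (X ^ p) ⟨_, cycD_nc hg (X ^ p).2⟩ rfl
    rw [fi, mul_comm, e] at h1
    have h2 : (φ (⟨_, cycD_nc hg (X ^ p).2⟩ * (X ^ p)⁻¹)).toAdd = 0 := by
      rw [map_mul, map_inv, toAdd_mul, toAdd_inv, fi, h1, add_neg_cancel]
    have h3 : g * x ^ p * g⁻¹ * (x ^ p)⁻¹ ∈ fixingSubgroup G (orbit P c) := (ker _).1 h2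
    have h4 : g * x ^ p * g⁻¹ * (x ^ p)⁻¹ ∈ R := by
      rw [hC.hR]
      exact mul_mem ((Subgroup.mem_normalizer_iff.1 hg _).1 (Subgroup.mem_zpowers _))
        (inv_mem (Subgroup.mem_zpowers _))
    have h5 : g * x ^ p * g⁻¹ * (x ^ p)⁻¹ = 1 := by
      by_contra k
      exact hE (orderOf_eq_prime (hC.exp _ h4) k ▸ Subgroup.orderOf_dvd_natCard _ h3)
    rw [Subgroup.mem_centralizer_singleton_iff, ← mul_inv_eq_iff_eq_mul]
    exact mul_inv_eq_one.1 h5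
  have ne : ∀ a b : ZMod (p ^ 2), Eqv φ (1 + a * (p : ZMod (p ^ 2))) (1 + b * (p : ZMod (p ^ 2))) →
      (a - b) * (p : ZMod (p ^ 2)) = 0 := by
    rintro a b ⟨g, hg, e⟩
    have h1 := e X ⟨_, cycD_nc hg X.2⟩ rfl
    rw [fX] at h1
    have h2 := pC g hg (by
      linear_combination (p : ZMod (p ^ 2)) * h1 +
        (b - a * (φ ⟨_, cycD_nc hg X.2⟩).toAdd) * cycD_pp (p := p))
    have h3 : (φ ⟨_, cycD_nc hg X.2⟩).toAdd = 1 := by
      rw [show (⟨_, cycD_nc hg X.2⟩ : Cw (x ^ p)) = ⟨g, h2⟩ * X * ⟨g, h2⟩⁻¹ from rfl, map_mul φ, map_mul φ,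
        map_inv φ, mul_inv_cancel_comm, fX]
    rw [h3] at h1
    linear_combination h1
  have un : ∀ a : ZMod (p ^ 2), IsUnit (1 + a * (p : ZMod (p ^ 2))) := fun a =>
    IsUnit.of_mul_eq_one (1 - a * (p : ZMod (p ^ 2))) (by linear_combination (-a ^ 2) * cycD_pp (p := p))
  have p3 : 3 < p := h.q3.trans_lt h.qp
  have nz : ∀ j : ℕ, 0 < j → j < 3 → ((j * p : ℕ) : ZMod (p ^ 2)) ≠ 0 := fun j h1 h2 e => by
    have := Nat.le_of_dvd (by positivity) ((ZMod.natCast_eq_zero_iff _ _).1 e)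
    nlinarith
  refine ⟨fun k => ⟨X ^ k.toAdd.val, Multiplicative.toAdd.injective (by rw [fi, ZMod.natCast_zmod_val])⟩,
    fun g hg y hy => cycD_nc hg hy, fun y hy g hg => ?_, fun g hg => ?_, fun g hg k hk e => ?_,
    _, _, _, un 0, un 1, un 2, fun e => nz 1 (by omega) (by omega) ?_,
    fun e => nz 2 (by omega) (by omega) ?_, fun e => nz 1 (by omega) (by omega) ?_⟩
  · have h1 : ((y ^ p ^ 2 : Cw (x ^ p)) : G) ∈ fixingSubgroup G (orbit P c) := (ker _).1 (by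
      rw [map_pow, toAdd_pow, nsmul_eq_mul, ZMod.natCast_self, zero_mul])
    set m := Nat.card (fixingSubgroup G (orbit P c))
    have h2 : ((y : G) ^ p ^ 2) ^ m = 1 := orderOf_dvd_iff_pow_eq_one.1 (Subgroup.orderOf_dvd_natCard _ h1)
    have h3 : (y : G) ^ m ≠ 1 := fun e => hy (by
      have h4 : (φ (y ^ m)).toAdd = 0 := by rw [show y ^ m = 1 from Subtype.ext e, map_one, toAdd_one]
      rw [map_pow, toAdd_pow, nsmul_eq_mul, ((ZMod.isUnit_iff_coprime _ _).2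
        (((Nat.Prime.coprime_iff_not_dvd h.hp).2 hE).symm.pow_right 2)).mul_right_eq_zero] at h4
      exact toAdd_eq_zero.1 h4)
    obtain ⟨j, j1, jp⟩ : ∃ j : ℕ, (y : G) ^ j ≠ 1 ∧ ((y : G) ^ j) ^ p = 1 := by
      by_cases k : ((y : G) ^ m) ^ p = 1
      · exact ⟨m, h3, k⟩
      · refine ⟨m * p, by rwa [pow_mul], ?_⟩
        rw [← h2, ← pow_mul, ← pow_mul]
        congr 1
        ring
    have h4 := cycD_ord h hP hC (pow_mem y.2 j) jp
    have h5 := cycD_ord h hP hC (pow_mem hg j) (by rw [conj_pow, conj_pow, jp, mul_one, mul_inv_cancel])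
    refine Subgroup.mem_normalizer_fintype fun n hn => ?_
    obtain ⟨k, rfl⟩ := cycD_gen h hC h4 j1 (hC.hR ▸ hn)
    show g * ((y : G) ^ j) ^ k * g⁻¹ ∈ Subgroup.zpowers (x ^ p)
    rw [← conj_zpow, ← conj_pow, ← hC.hR]
    exact zpow_mem h5 k
  · have h1 := car g hg ⟨_, cycD_nc (inv_mem hg) X.2⟩ X (by simp [mul_assoc])
    rw [fX] at h1
    exact ⟨(IsUnit.of_mul_eq_one _ h1.symm).unit, fun y y' e => by rw [one_mul, car g hg y y' e, IsUnit.unit_spec]⟩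
  · have h1 := e X ⟨_, cycD_nc hg X.2⟩ rfl
    rw [fX, ← sub_eq_zero, ← mul_sub] at h1
    have h2 := cycD_nu h.hp fun u => hk (u.mul_left_eq_zero.1 h1)
    exact pC g hg (by linear_combination h2)
  · push_cast
    linear_combination -ne _ _ e
  · push_cast
    linear_combination -ne _ _ e
  · push_cast
    linear_combination -ne _ _ e

end Cfsg.Agent.EL
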