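import Mathlib
import Cfsg.Agent.EL.Defs
import Cfsg.Agent.EL.Orb
import Cfsg.Agent.EL.TriA
import Cfsg.Agent.EL.TriC
import Cfsg.Agent.EL.CycA
import Cfsg.Agent.EL.CycB
import Cfsg.Agent.EL.CycC
import Cfsg.Agent.EL.CycD
import Cfsg.Agent.EL.ChA
import Cfsg.Agent.EL.ChB
import Cfsg.Agent.EL.ChK
import Cfsg.Agent.EL.ChC
import Cfsg.Agent.Perm.PermChar
import Cfsg.Agent.Ch.Kernel

set_option autoImplicit false

namespace Cfsg.Agent.EL

open MulAction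

variable {G Ω : Type*} [Group G] [Finite G] [MulAction G Ω] [FaithfulSMul G Ω] [Finite Ω] {p q : ℕ}

theorem chM_two {G Ω : Type*} [Group G] [Finite Ω] [MulAction G Ω]
    (h : Nat.card (orbitRel.Quotient G (Ω × Ω)) ≤ 2) (a b a' b' : Ω) (e : a ≠ b) (e' : a' ≠ b') :
    ∃ g : G, g • a = a' ∧ g • b = b' := by
  classical
  haveI := Fintype.ofFinite (orbitRel.Quotient G (Ω × Ω))
  have nd : ∀ u v : Ω, u ≠ v →
      (Quotient.mk'' (u, v) : orbitRel.Quotient G (Ω × Ω)) ≠ Quotient.mk'' (a, a) := by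
    intro u v huv k
    obtain ⟨g, hg⟩ := Quotient.exact' k
    exact huv ((congrArg Prod.fst hg).symm.trans (congrArg Prod.snd hg))
  have : (Quotient.mk'' (a', b') : orbitRel.Quotient G (Ω × Ω)) = Quotient.mk'' (a, b) := by
    by_contra k
    have := (Fintype.two_lt_card_iff (α := orbitRel.Quotient G (Ω × Ω))).2 ⟨_, _, _, k, nd _ _ e', nd _ _ e⟩
    rw [Nat.card_eq_fintype_card] at h
    omega
  obtain ⟨g, hg⟩ := Quotient.exact' this
  exact ⟨g, congrArg Prod.fst hg, congrArg Prod.snd hg⟩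

theorem chM_triv {G : Type*} [Group G] [Fintype G] {n : ℕ} [NeZero n] {w : G} [Fintype (Cw w)]
    {φ : Cw w →* Multiplicative (ZMod n)} (hs : Function.Surjective φ) {k : ZMod n} (hk : k ≠ 0) :
    S7.chdM (⟨fun _ => 1, IsIrrCharacter.one⟩ : IrrCharacter G) (lc φ k) = 0 := by
  have h1 := S7.chdM_sum' (⟨fun _ => 1, IsIrrCharacter.one⟩ : IrrCharacter G) (lc φ k)
  have h2 : (Units.coeHom ℂ).comp (lc φ k) ≠ 1 := by
    intro e
    obtain ⟨y, hy⟩ := hs (Multiplicative.ofAdd 1)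
    have h3 : (lc φ k y : ℂ) = 1 := DFunLike.congr_fun e y
    rw [lc_apply, hy, toAdd_ofAdd, mul_one, ← AddChar.map_zero_eq_one (ZMod.stdAddChar (N := n))] at h3
    exact hk (ZMod.injective_stdAddChar h3)
  have h3 : ∑ s : Cw w, (lc φ k s : ℂ) = 0 := sum_hom_units_eq_zero _ h2
  simp only [map_one, mul_one] at h1
  rw [h3] at h1
  have h4 : (Nat.card (Cw w) : ℂ) ≠ 0 := Nat.cast_ne_zero.2 Nat.card_pos.ne'
  exact_mod_cast (mul_eq_zero.1 h1.symm).resolve_left h4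

/-- `G` is doubly transitive and all generators of `⟨w⟩` are conjugate. -/
theorem Hyp.chM (h : Hyp G Ω p q) {P R : Subgroup G} (hP : Syl p P) {c : Ω} {x : G} (hC : Cyc p P R c x) :
    (∀ a b a' b' : Ω, a ≠ b → a' ≠ b' → ∃ g : G, g • a = a' ∧ g • b = b') ∧
      ∀ j : ℕ, ¬ p ∣ j → ∃ g : G, g * x ^ p * g⁻¹ = (x ^ p) ^ j := by
  classical
  have p2 := h.hp.two_le
  have p1 : 1 < p ^ 2 := by nlinarith
  haveI : NeZero (p ^ 2) := ⟨by omega⟩
  haveI : Fact (1 < p ^ 2) := ⟨p1⟩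
  haveI := Fintype.ofFinite G
  haveI := Fintype.ofFinite (Cw (x ^ p))
  obtain ⟨φ, hφ⟩ := h.cyc_phi hP hC
  have hD := h.cyc_pd hP hC φ hφ
  have hπ : IsCharacter G (Perm.permChar G Ω) := Ch.isCharacter_permChar Ω
  obtain ⟨m, hn1, hn2⟩ := hπ.exists_mult
  obtain ⟨n', hn1', hn3, -⟩ := hπ.exists_nat_classInner_self
  obtain rfl : m = n' := funext fun χ => by exact_mod_cast (hn1 χ).symm.trans (hn1' χ)
  have ev : ∀ g, ∑ χ, (m χ : ℂ) * χ.1 g = (Nat.card (fixedBy Ω g) : ℂ) := fun g => by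
    change _ = Perm.permChar G Ω g
    conv_rhs => rw [hn2]
    simp [Finset.sum_apply]
  have hB := h.chB_mult hP hC φ hφ m ev
  let e : IrrCharacter G := ⟨fun _ => 1, IsIrrCharacter.one⟩
  have hE := hD.eqv_equiv
  have p0 : (p : ZMod (p ^ 2)) ≠ 0 := by
    rw [Ne, ZMod.natCast_eq_zero_iff]
    intro k
    have := Nat.le_of_dvd (by omega) k
    nlinarith
  have pu : ¬ IsUnit (p : ZMod (p ^ 2)) := by
    rw [ZMod.isUnit_iff_coprime]
    intro k
    have := Nat.Coprime.eq_one_of_dvd k (dvd_pow_self p two_ne_zero)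
    omega
  obtain ⟨h1, ψ, mψ, h2⟩ := ch_comb (Λ := {k : ZMod (p ^ 2) // k ≠ 0}) (fun k l => Eqv φ k.1 l.1)
    ⟨fun k => hE.1 k.1, fun h => hE.2 h, fun h h' => hE.3 h h'⟩ (fun k => IsUnit k.1)
    (fun k l h => (hD.eqv_unit h).1) (fun χ k => S7.chdM χ (lc φ k.1)) (fun χ => (charDegree χ.1 : ℤ))
    (fun χ => by exact_mod_cast χ.2.charDegree_pos) m e (fun χ k l h => hD.a_eqv h χ)
    (fun k l => PD.a_orth k.1 l.1) (fun k l h => hD.a_two k.2 l.2 h)
    (by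
      obtain ⟨k₁, k₂, k₃, u1, u2, u3, r⟩ := hD.three
      exact ⟨⟨k₁, u1.ne_zero⟩, ⟨k₂, u2.ne_zero⟩, ⟨k₃, u3.ne_zero⟩, u1, u2, u3, r⟩)
    (fun k hk => (hB k.1).1 hk) (fun k hk => (hB k.1).2 hk) ⟨⟨p, p0⟩, pu⟩ (fun k => chM_triv hD.surj k.2)
    (fun χ h0 hk => by
      have hw := h.chK hP hC φ hφ m ev (fun k hk => (hB k).1 hk) χ h0 fun k u => hk ⟨k, u.ne_zero⟩ u
      have := χ.2.isCharacter.charKer_normal
      refine Subtype.ext (χ.2.eq_one_of_charKer_eq_top (top_le_iff.1 ?_))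
      rw [← h.cyc_gen hP hC]
      exact Subgroup.normalClosure_le_normal fun y hy => by
        rw [Set.mem_singleton_iff.1 hy]
        exact χ.2.mem_charKer.2 hw)
  refine ⟨chM_two ?_, h.cyc_pow hP hC φ hφ hD fun k l k0 l0 uk ul => h1 ⟨k, k0⟩ ⟨l, l0⟩ uk ul⟩
  haveI := h.tr
  haveI : Nonempty Ω := ⟨c⟩
  have me : m e = 1 := by exact_mod_cast (hn1 e).symm.trans Perm.classInner_permChar_one
  have hs2 : ∑ χ, m χ ^ 2 = ∑ χ ∈ ({e, ψ} : Finset (IrrCharacter G)), m χ ^ 2 := by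
    refine (Finset.sum_subset (Finset.subset_univ _) fun χ _ hχ => ?_).symm
    simp only [Finset.mem_insert, Finset.mem_singleton, not_or] at hχ
    rw [h2 χ hχ.1 hχ.2]; rfl
  have hs3 : ∑ χ ∈ ({e, ψ} : Finset (IrrCharacter G)), m χ ^ 2 ≤ 2 := by
    by_cases k : e = ψ
    · rw [← k, Finset.pair_eq_singleton, Finset.sum_singleton, me]; norm_num
    · rw [Finset.sum_pair k, me, mψ]; norm_num
  rw [Perm.classInner_permChar_self, hs2] at hn3
  have := Nat.cast_injective (R := ℂ) hn3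
  omega

end Cfsg.Agent.EL
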