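import Mathlib
import Cfsg.Agent.EL.Defs
import Cfsg.Agent.EL.Orb
import Cfsg.Agent.EL.TriA
import Cfsg.Agent.EL.TriC
import Cfsg.Agent.EL.CycA

set_option autoImplicit false

namespace Cfsg.Agent.EL

open MulAction

variable {G Ω : Type*} [Group G] [Finite G] [MulAction G Ω] [FaithfulSMul G Ω] [Finite Ω] {p q : ℕ}

/-- `N(R)` is doubly transitive on the short points. -/
theorem Hyp.endA_two (h : Hyp G Ω p q) {P R : Subgroup G} (hP : Syl p P) {c : Ω} (hC : Cfa p P R c)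
    (h2 : ∀ a b a' b' : Ω, a ≠ b → a' ≠ b' → ∃ g : G, g • a = a' ∧ g • b = b') {a b b' : Ω}
    (ha : a ∉ orbit P c) (hb : b ∉ orbit P c) (hb' : b' ∉ orbit P c) (h1 : a ≠ b) (h1' : a ≠ b') :
    ∃ n ∈ Subgroup.normalizer (R : Set G), n • a = a ∧ n • b = b' := by
  obtain ⟨g, g1, g2⟩ := h2 a b a b' h1 h1'
  obtain ⟨k, hk, hn⟩ := h.o_witt hP R (stabilizer G a ⊓ stabilizer G b') (hP.pg.to_le hC.le) hC.idx a
    (fun k hk => hk.1) (fun y hy => ⟨hC.fix a ha y hy, hC.fix b' hb' y hy⟩) g (fun y hy => ⟨show (g * y * g⁻¹) • a = a by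
      rw [mul_smul, mul_smul, inv_smul_eq_iff.2 g1.symm, hC.fix a ha y hy, g1], show (g * y * g⁻¹) • b' = b' by
      rw [mul_smul, mul_smul, inv_smul_eq_iff.2 g2.symm, hC.fix b hb y hy, g2]⟩)
  refine ⟨k * g, hn, ?_, ?_⟩
  · rw [mul_smul, g1]; exact hk.1
  · rw [mul_smul, g2]; exact hk.2

omit [Finite G] [FaithfulSMul G Ω] [Finite Ω] in
theorem endA_conj {n y : G} {a b : Ω} (h1 : n • a = a) (h2 : n • y • a = b) : (n * y * n⁻¹) • a = b := by
  rw [mul_smul, mul_smul, inv_smul_eq_iff.2 h1.symm, h2]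

theorem Hyp.endA_E (h : Hyp G Ω p q) {P R : Subgroup G} (hP : Syl p P) {c : Ω} {x : G} (hC : Cyc p P R c x)
    (h2 : ∀ a b a' b' : Ω, a ≠ b → a' ≠ b' → ∃ g : G, g • a = a' ∧ g • b = b') {e : G}
    (he : e ∈ fixingSubgroup G (orbit P c)) : e = 1 := by
  by_contra e1
  obtain ⟨a, ha⟩ : ∃ a : Ω, e • a ≠ a := by
    by_contra k
    push Not at k
    exact e1 (eq_of_smul_eq_smul (α := Ω) fun a => by rw [k, one_smul])
  have fx : ∀ y ∈ fixingSubgroup G (orbit P c), ∀ d ∈ orbit P c, y • d = d := fun y hy d hd =>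
    (mem_fixingSubgroup_iff G).1 hy d hd
  have out : ∀ y ∈ fixingSubgroup G (orbit P c), ∀ d, d ∉ orbit P c → y • d ∉ orbit P c := fun y hy d hd k =>
    hd (smul_left_cancel y (fx y hy _ k) ▸ k)
  have a0 : a ∉ orbit P c := fun k => ha (fx e he a k)
  have hs : orbit (fixingSubgroup G (orbit P c)) a = {b | b ∉ orbit P c} := by
    ext b
    constructor
    · rintro ⟨y, rfl⟩
      exact out y y.2 a a0
    · intro hb
      by_cases ab : a = b
      · exact ab ▸ mem_orbit_self a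
      obtain ⟨n, hn, n1, n2⟩ := h.endA_two hP hC.toCfa h2 a0 (out e he a a0) hb ha.symm ab
      refine ⟨⟨n * e * n⁻¹, (mem_fixingSubgroup_iff G).2 fun d hd => ?_⟩, endA_conj n1 n2⟩
      rw [mul_smul, mul_smul, fx e he _ (((h.cfa_norm hP hC.toCfa).1 _ (inv_mem hn) d).2 hd), smul_inv_smul]
  refine (h.cyc_act hP hC).2.1 (Dvd.dvd.trans (Dvd.intro_left (2 * q - p) rfl) ?_)
  rw [← (h.tri_num hC.toLng).2.1]
  have := Nat.card_congr (orbitProdStabilizerEquivGroup (fixingSubgroup G (orbit P c)) a)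
  rw [Nat.card_prod, hs] at this
  exact Dvd.intro _ this

theorem Hyp.endA (h : Hyp G Ω p q) {P R : Subgroup G} (hP : Syl p P) {c : Ω} {x : G} (hC : Cyc p P R c x)
    (h2 : ∀ a b a' b' : Ω, a ≠ b → a' ≠ b' → ∃ g : G, g • a = a' ∧ g • b = b') :
    2 * q = p + 1 ∧ Cw (x ^ p) = P ∧ ∀ a b : Ω, a ∉ orbit P c → b ∉ orbit P c → b ∈ orbit P a := by
  have xP : x ∈ P := hC.hP ▸ Subgroup.mem_zpowers x
  have hCP : Cw (x ^ p) = P := by
    refine le_antisymm (fun y hy => ?_) ?_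
    · obtain ⟨i, hi⟩ := (h.cyc_act hP hC).1 y hy
      have := h.endA_E hP hC h2 (e := (x ^ i)⁻¹ * y) ((mem_fixingSubgroup_iff G).2 fun d hd => by
        rw [mul_smul, hi d hd, inv_smul_smul])
      rw [inv_mul_eq_one] at this
      exact this ▸ pow_mem xP i
    · rw [hC.hP, Subgroup.zpowers_le, Subgroup.mem_centralizer_singleton_iff]
      exact (Commute.self_pow x p).eq
  have xR : x ∉ R := fun k => by
    have h1 := orderOf_dvd_of_pow_eq_one (hC.exp x k)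
    rw [hC.ord] at h1
    have h3 := Nat.le_of_dvd h.hp.pos h1
    have := h.hp.one_lt
    nlinarith
  have key : ∀ a b : Ω, a ∉ orbit P c → b ∉ orbit P c → b ∈ orbit P a := by
    intro a b ha hb
    by_cases ab : a = b
    · exact ab ▸ mem_orbit_self a
    have xa : x • a ∉ orbit P c := fun k => ha (by
      have := mapsTo_smul_orbit (⟨x⁻¹, inv_mem xP⟩ : P) c k
      simpa using this)
    obtain ⟨n, hn, n1, n2⟩ := h.endA_two hP hC.toCfa h2 ha xa hb (fun k => xR (hC.nofix a ha x xP k.symm)) ab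
    refine ⟨⟨n * x * n⁻¹, ?_⟩, endA_conj n1 n2⟩
    rw [← hCP, Subgroup.mem_centralizer_singleton_iff]
    have w : n⁻¹ * x ^ p * n⁻¹⁻¹ ∈ R :=
      (Subgroup.mem_normalizer_iff.1 (inv_mem hn) _).1 (hC.hR ▸ Subgroup.mem_zpowers _)
    rw [inv_inv] at w
    obtain ⟨k, hk⟩ := hC.hP ▸ hC.le w
    have cm : Commute x (n⁻¹ * x ^ p * n) := hk ▸ Commute.self_zpow x k
    calc n * x * n⁻¹ * x ^ p = n * (x * (n⁻¹ * x ^ p * n)) * n⁻¹ := by group
      _ = x ^ p * (n * x * n⁻¹) := by rw [cm.eq]; group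
  refine ⟨?_, hCP, key⟩
  obtain ⟨a, ha⟩ := hC.ex
  obtain ⟨h3, h4, -⟩ := h.tri_num hC.toLng
  have hs : orbit P a = {b | b ∉ orbit P c} := by
    ext b
    refine ⟨fun hb k => ha ?_, fun hb => key a b ha hb⟩
    rw [← orbit_eq_iff.2 k, orbit_eq_iff.2 hb]
    exact mem_orbit_self a
  have h5 := hC.short a ha
  rw [ol, hs] at h5
  have h6 : (2 * q - p) * p = 1 * p := by rw [← h4, one_mul]; exact h5
  have := Nat.eq_of_mul_eq_mul_right h.hp.pos h6
  omega

end Cfsg.Agent.EL
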