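import Mathlib
import Cfsg.Agent.EL.Defs
import Cfsg.Agent.EL.Orb
import Cfsg.Agent.EL.TriA
import Cfsg.Agent.EL.TriC
import Cfsg.Agent.EL.CycA

set_option autoImplicit false

namespace Cfsg.Agent.EL

open MulAction

variable {G Ω : Type*} [Group G] [Finite G] [MulAction G Ω] [FaithfulSMul G Ω] [Finite Ω] {p q : ℕ}

/-- A permutation of order `2 ^ a` whose non-trivial powers have exactly the same two fixed points. -/
theorem sign_neg {α : Type*} [Fintype α] [DecidableEq α] (σ : Equiv.Perm α) (L k : ℕ) (hL : orderOf σ = L) (hLe : Even L)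
    (hk : Odd k) (hc : Fintype.card α = k * L + 2) (hf : ∀ i : ℕ, ¬ L ∣ i → Nat.card {a : α // (σ ^ i) a = a} = 2) :
    Equiv.Perm.sign σ = -1 := by
  have L0 : 0 < L := hL ▸ orderOf_pos σ
  have h1 : Nat.card {a : α // σ a = a} = 2 := by
    simpa using hf 1 fun e => by rw [Nat.dvd_one.1 e] at hLe; exact absurd hLe (by decide)
  have h2 : ∀ n ∈ σ.cycleType, n = L := fun n hn => by
    refine Nat.dvd_antisymm (hL ▸ Equiv.Perm.dvd_of_mem_cycleType hn) ?_
    by_contra hd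
    obtain ⟨c, τ, e, hdis, hcy, hs⟩ := Equiv.Perm.mem_cycleType_iff.1 hn
    obtain ⟨a, ha, -⟩ := id hcy
    have t : τ a = a := (hdis a).resolve_left ha
    have h3 : (σ ^ n) a = a := by
      rw [e, hdis.commute.mul_pow, ← hs, ← hcy.orderOf, pow_orderOf_eq_one, one_mul]
      exact Equiv.Perm.pow_apply_eq_self_of_apply_eq_self t _
    have h4 : {a : α | σ a = a} = {a : α | (σ ^ n) a = a} :=
      Set.eq_of_subset_of_ncard_le (fun b hb => Equiv.Perm.pow_apply_eq_self_of_apply_eq_self hb _)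
        (le_of_eq ((hf n hd).trans h1.symm))
    have h5 : σ a = a := h4.ge h3
    rw [e, Equiv.Perm.mul_apply, t] at h5
    exact ha h5
  have h6 : Fintype.card (Function.fixedPoints σ) = 2 := by rw [← Nat.card_eq_fintype_card]; exact h1
  rw [Equiv.Perm.sign_of_cycleType_eq_replicate L0 (Multiset.eq_replicate.2 ⟨rfl, h2⟩),
    if_neg (Nat.not_odd_iff_even.2 hLe), h6, hc, Nat.add_sub_cancel, Nat.mul_div_cancel _ L0, hk.neg_one_pow]

omit [Finite G] [FaithfulSMul G Ω] in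
theorem endB_fix {g : G} {e : ℕ} (hg : orderOf g = 2 ^ e) (S : Set Ω) (hS : ∀ d, g • d ∈ S ↔ d ∈ S)
    (ho : ¬ 2 ∣ Nat.card S) : ∃ d ∈ S, g • d = d := by
  classical
  haveI := Fintype.ofFinite S
  let σ : Equiv.Perm S := (toPerm g).subtypePerm hS
  have h1 : ∀ (n : ℕ) (a : S), ((σ ^ n) a : Ω) = g ^ n • (a : Ω) := fun n => by
    induction n with
    | zero => intro a; simp
    | succ n ih => intro a; rw [pow_succ, pow_succ, mul_smul, Equiv.Perm.mul_apply, ih]; rfl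
  obtain ⟨a, ha⟩ := Equiv.Perm.exists_fixed_point_of_prime (p := 2) (n := e) (σ := σ)
    (by rwa [← Nat.card_eq_fintype_card])
    (Equiv.ext fun a => Subtype.ext (by rw [h1, ← hg, pow_orderOf_eq_one, one_smul]; rfl))
  exact ⟨a, a.2, congrArg Subtype.val ha⟩

theorem endB_gen (hp : p.Prime) {w r : G} (hw : orderOf w = p) (hr : r ∈ Subgroup.zpowers w) (r1 : r ≠ 1) :
    ∃ m : ℕ, r ^ m = w := by
  obtain ⟨j, rfl⟩ := (mem_powers_iff_mem_zpowers (y := r) (x := w)).2 hr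
  refine exists_pow_eq_self_of_coprime ?_
  rw [hw]
  exact ((Nat.Prime.coprime_iff_not_dvd hp).2 fun e => r1 (orderOf_dvd_iff_pow_eq_one.1 (hw ▸ e))).symm

/-- A non-trivial `2`-element normalising `⟨w⟩` has exactly two fixed points. -/
theorem Hyp.end_two (h : Hyp G Ω p q) {P R : Subgroup G} (hP : Syl p P) {c : Ω} {x : G} (hC : Cyc p P R c x)
    (hCw : Cw (x ^ p) = P) (hS : ∀ a b : Ω, a ∉ orbit P c → b ∉ orbit P c → b ∈ orbit P a) (hq : 2 * q = p + 1)
    (g : G) (hg : g ∈ Nw (x ^ p)) (hg1 : g ≠ 1) (hg2 : ∃ e : ℕ, orderOf g = 2 ^ e) : Nat.card (fixedBy Ω g) = 2 := by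
  obtain ⟨e, he⟩ := hg2
  have hp := h.hp
  have p2 : ¬ 2 ∣ p := by have := h.q3; omega
  have hw : orderOf (x ^ p) = p := by
    rw [orderOf_pow_of_dvd hp.ne_zero (by rw [hC.ord]; exact dvd_pow_self p two_ne_zero), hC.ord, sq,
      Nat.mul_div_cancel _ hp.pos]
  have hn : ∀ y ∈ P, g * y * g⁻¹ ∈ P := fun y hy => by
    rw [← hCw, Subgroup.mem_centralizer_singleton_iff] at hy ⊢
    obtain ⟨j, hj⟩ := (Subgroup.mem_normalizer_iff''.1 hg (x ^ p)).1 (Subgroup.mem_zpowers _)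
    have h1 : Commute y (g⁻¹ * x ^ p * g) := by rw [← hj]; exact Commute.zpow_right hy j
    calc g * y * g⁻¹ * x ^ p = g * (y * (g⁻¹ * x ^ p * g)) * g⁻¹ := by group
      _ = x ^ p * (g * y * g⁻¹) := by rw [h1.eq]; group
  -- `g` centralises no non-trivial element of `R`
  have key : ∀ r ∈ R, g * r * g⁻¹ = r → r = 1 := fun r hr er => by
    by_contra r1
    obtain ⟨m, hm⟩ := endB_gen hp hw (hC.hR ▸ hr) r1
    have gP : g ∈ P := by
      rw [← hCw, Subgroup.mem_centralizer_singleton_iff, ← hm]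
      exact Commute.pow_right (mul_inv_eq_iff_eq_mul.1 er) m
    obtain ⟨j, hj⟩ := hP.pg ⟨g, gP⟩
    have h1 : orderOf g ∣ p ^ j := orderOf_dvd_of_pow_eq_one (congrArg Subtype.val hj)
    refine hg1 (orderOf_eq_one_iff.1 (Nat.eq_one_of_dvd_coprimes (a := 2 ^ e) (b := p ^ j) ?_ (he ▸ dvd_rfl) h1))
    exact Nat.Coprime.pow _ _ ((Nat.Prime.coprime_iff_not_dvd Nat.prime_two).2 p2)
  have comm : ∀ y ∈ P, ∀ z ∈ P, Commute y z := fun y hy z hz => by
    rw [hC.hP] at hy hz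
    obtain ⟨i, rfl⟩ := hy
    obtain ⟨j, rfl⟩ := hz
    exact Commute.zpow_zpow_self x i j
  -- a general step: `y⁻¹ * (g y g⁻¹) ∈ R` forces `y ∈ R`
  have key2 : ∀ y ∈ P, y⁻¹ * (g * y * g⁻¹) ∈ R → y ∈ R := fun y hy hr => by
    refine hC.om y hy (key _ (hC.pw y hy).1 ?_)
    have h1 := (comm y hy _ (hC.le hr)).mul_pow p
    rw [mul_inv_cancel_left, hC.exp _ hr, mul_one, conj_pow] at h1
    exact h1
  have step : ∀ (y : G) (d : Ω), g • d = d → g • y • d = y • d → (y⁻¹ * (g * y * g⁻¹)) • d = d := fun y d h1 h2 => by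
    rw [mul_smul, mul_smul, mul_smul, inv_smul_eq_iff.2 h1.symm, h2, inv_smul_smul]
  have inv := (h.cfa_norm hP hC.toCfa).1 g (hC.hR ▸ hg)
  obtain ⟨d, hd, gd⟩ := endB_fix he (orbit P c) inv (by
    rw [show Nat.card (orbit P c) = p ^ 2 from hC.long]
    exact fun e => p2 (Nat.prime_two.dvd_of_dvd_pow e))
  obtain ⟨a, ha, ga⟩ := endB_fix he (orbit P c)ᶜ (fun d => not_congr (inv d)) (by
    rw [show Nat.card ↥(orbit P c)ᶜ = (2 * q - p) * p from (h.tri_num hC.toLng).2.1, hq, Nat.add_sub_cancel_left,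
      one_mul]
    exact p2)
  have reg : ∀ z ∈ P, z • d = d → z = 1 := fun z hz zd => by
    by_contra z1
    have zR : z ∈ R := hC.mv d hd z hz (by rw [zd]; exact mem_orbit_self d)
    obtain ⟨m, hm⟩ := endB_gen hp hw (hC.hR ▸ zR) z1
    have h1 : R ≤ stabilizer G d := by
      rw [hC.hR, Subgroup.zpowers_le, ← hm]
      exact pow_mem (show z ∈ stabilizer G d from zd) m
    have h2 : orbit R d = {d} := Set.eq_singleton_iff_unique_mem.2 ⟨mem_orbit_self d, by
      rintro _ ⟨r, rfl⟩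
      exact h1 r.2⟩
    have h3 := hC.blk d hd
    rw [ol, h2] at h3
    exact hp.one_lt.ne (by simpa using h3)
  have hF : fixedBy Ω g = {d, a} := by
    refine Set.Subset.antisymm (fun b hb => ?_) ?_
    · have gb : g • b = b := hb
      by_cases hb' : b ∈ orbit P c
      · obtain ⟨y, rfl⟩ : b ∈ orbit P d := (orbit_eq_iff.2 hd).ge hb'
        have h1 := reg _ (mul_mem (inv_mem y.2) (hn _ y.2)) (step y d gd gb)
        have h2 := key _ (key2 _ y.2 (h1 ▸ one_mem R)) (inv_mul_eq_one.1 h1).symm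
        left
        show (y : G) • d = d
        rw [h2, one_smul]
      · obtain ⟨y, rfl⟩ := hS a b ha hb'
        exact .inr (hC.fix a ha _ (key2 _ y.2
          (hC.nofix a ha _ (mul_mem (inv_mem y.2) (hn _ y.2)) (step y a ga gb))))
    · rintro b (rfl | rfl)
      · exact gd
      · exact ga
  rw [hF, Nat.card_coe_set_eq, Set.ncard_pair (show d ≠ a from fun e => ha (e ▸ hd))]

end Cfsg.Agent.EL
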