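import Mathlib
import Cfsg.Agent.EL.Defs
import Cfsg.Agent.EL.Orb
import Cfsg.Agent.EL.TriA
import Cfsg.Agent.EL.TriC
import Cfsg.Agent.EL.CycA
import Cfsg.Agent.EL.CycB
import Cfsg.Agent.EL.ChM
import Cfsg.Agent.EL.EndA
import Cfsg.Agent.EL.EndB

/-! The cyclic case: an odd permutation. -/

set_option autoImplicit false

namespace Cfsg.Agent.EL

open MulAction

variable {G Ω : Type*} [Group G] [Finite G] [MulAction G Ω] [FaithfulSMul G Ω] [Finite Ω] {p q : ℕ}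

omit [Finite G] in
theorem endC_pow {g w : G} {j : ℕ} (h : g * w * g⁻¹ = w ^ j) (m : ℕ) : g ^ m * w * (g ^ m)⁻¹ = w ^ j ^ m := by
  induction m with
  | zero => simp
  | succ m ih =>
    calc g ^ (m + 1) * w * (g ^ (m + 1))⁻¹ = g ^ m * (g * w * g⁻¹) * (g ^ m)⁻¹ := by rw [pow_succ]; group
      _ = w ^ j ^ (m + 1) := by rw [h, ← conj_pow, ih, ← pow_mul, pow_succ]

theorem endC_root (hp : p.Prime) : ∃ j : ℕ, ¬ p ∣ j ∧ ∀ m, j ^ m ≡ 1 [MOD p] ↔ p - 1 ∣ m := by
  have := Fact.mk hp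
  obtain ⟨u, hu⟩ := IsCyclic.exists_ofOrder_eq_natCard (α := (ZMod p)ˣ)
  rw [Nat.card_eq_fintype_card, ZMod.card_units] at hu
  refine ⟨(u : ZMod p).val, fun k => u.ne_zero ?_, fun m => ?_⟩
  · rw [← ZMod.natCast_eq_zero_iff, ZMod.natCast_zmod_val] at k
    exact k
  · rw [← ZMod.natCast_eq_natCast_iff, Nat.cast_pow, ZMod.natCast_zmod_val, Nat.cast_one, ← hu,
      orderOf_dvd_iff_pow_eq_one, ← Units.val_pow_eq_pow_val, Units.val_eq_one]

theorem Hyp.endC (h : Hyp G Ω p q) {P R : Subgroup G} (hP : Syl p P) {c : Ω} {x : G} (hC : Cyc p P R c x) : False := by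
  classical
  have := Fintype.ofFinite Ω
  have hp := h.hp
  have q3 := h.q3
  have qp := h.qp
  have po : Odd p := hp.odd_of_ne_two (by omega)
  obtain ⟨h2, hj⟩ := h.chM hP hC
  obtain ⟨hq, hCw, hS⟩ := h.endA hP hC h2
  obtain ⟨j, j0, j1⟩ := endC_root hp
  obtain ⟨g, hg⟩ := hj j j0
  have ow : orderOf (x ^ p) = p := by
    rw [orderOf_pow' _ hp.ne_zero, hC.ord, Nat.gcd_eq_right (dvd_pow_self p two_ne_zero), pow_two,
      Nat.mul_div_cancel _ hp.pos]
  have cw : ∀ m, g ^ m ∈ Cw (x ^ p) ↔ p - 1 ∣ m := fun m => by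
    rw [Subgroup.mem_centralizer_singleton_iff, ← mul_inv_eq_iff_eq_mul, endC_pow hg, ← j1]
    nth_rw 2 [← pow_one (x ^ p)]
    rw [pow_eq_pow_iff_modEq, ow]
  have gN : g ∈ Nw (x ^ p) := Subgroup.mem_normalizer_fintype fun n hn => by
    obtain ⟨k, rfl⟩ := Subgroup.mem_zpowers_iff.1 hn
    rw [← conj_zpow, hg]
    exact zpow_mem (pow_mem (Subgroup.mem_zpowers _) _) _
  obtain ⟨e, u, uo, hu⟩ := Nat.exists_eq_two_pow_mul_odd (n := p - 1) (by omega)
  have g1 : g ^ ((p - 1) * p ^ 2) = 1 := by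
    have := (cw _).2 dvd_rfl
    rw [hCw, hC.hP] at this
    rw [pow_mul, ← orderOf_dvd_iff_pow_eq_one, ← hC.ord]
    exact orderOf_dvd_of_mem_zpowers this
  have key : ∀ i, (g ^ (u * p ^ 2)) ^ i = 1 ↔ 2 ^ e ∣ i := fun i => by
    rw [← pow_mul]
    refine ⟨fun k => ?_, ?_⟩
    · have := (cw _).1 (k ▸ one_mem _)
      rw [hu] at this
      exact (Nat.Coprime.pow_left e (Nat.coprime_two_left.2 (uo.mul po.pow))).dvd_of_dvd_mul_left
        ((dvd_mul_right _ _).trans this)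
    · rintro ⟨k, rfl⟩
      rw [show u * p ^ 2 * (2 ^ e * k) = (p - 1) * p ^ 2 * k by rw [hu]; ring, pow_mul, g1, one_pow]
  have hN := pow_mem gN (u * p ^ 2)
  generalize g ^ (u * p ^ 2) = y at key hN
  have oy : orderOf y = 2 ^ e :=
    Nat.dvd_antisymm (orderOf_dvd_of_pow_eq_one ((key _).2 dvd_rfl)) ((key _).1 (pow_orderOf_eq_one y))
  have ev : Even (2 ^ e) := by
    have : Even (2 ^ e * u) := hu ▸ po.tsub_odd odd_one
    exact (Nat.even_mul.1 this).resolve_right (Nat.not_even_iff_odd.2 uo)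
  have s1 := sign_neg (toPermHom G Ω y) (2 ^ e) ((p + 2) * u)
    ((orderOf_injective _ toPerm_injective y).trans oy) ev ((po.add_even even_two).mul uo) (by
      rw [← Nat.card_eq_fintype_card, h.card, mul_assoc (p + 2), mul_comm u, ← hu, mul_right_comm, hq]
      obtain ⟨r, rfl⟩ : ∃ r, p = r + 1 := ⟨p - 1, by omega⟩
      rw [Nat.add_sub_cancel]
      ring) fun i hi => by
      rw [← map_pow]
      refine h.end_two hP hC hCw hS hq (y ^ i) (pow_mem hN i) (fun k => hi ((key i).1 k)) ?_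
      obtain ⟨k, -, hk⟩ := (Nat.dvd_prime_pow Nat.prime_two).1 (oy ▸ orderOf_pow_dvd i : orderOf (y ^ i) ∣ 2 ^ e)
      exact ⟨k, hk⟩
  have s2 : x ^ p ∈ (Equiv.Perm.sign.comp (toPermHom G Ω)).ker := by
    rw [MonoidHom.mem_ker]
    refine (Int.units_eq_one_or _).resolve_right fun k => ?_
    have := congrArg (Equiv.Perm.sign.comp (toPermHom G Ω)) (pow_orderOf_eq_one (x ^ p))
    rw [map_pow, k, ow, po.neg_one_pow, map_one] at this
    exact absurd this (by decide)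
  have s3 := Subgroup.normalClosure_le_normal (Set.singleton_subset_iff.2 s2)
  rw [h.cyc_gen hP hC] at s3
  have s4 : Equiv.Perm.sign (toPermHom G Ω y) = 1 := s3 (Subgroup.mem_top y)
  rw [s1] at s4
  exact absurd s4 (by decide)

end Cfsg.Agent.EL
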