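import Mathlib
import Cfsg.Agent.EL.Defs
import Cfsg.Agent.EL.Orb
import Cfsg.Agent.EL.UniB
import Cfsg.Agent.EL.TriA
import Cfsg.Agent.EL.TriC
import Cfsg.Agent.EL.BigC
import Cfsg.Agent.EL.EndC

set_option autoImplicit false

namespace Cfsg.Agent.EL

open MulAction

variable {G Ω : Type*} [Group G] [Finite G] [MulAction G Ω] [FaithfulSMul G Ω] [Finite Ω] {p q : ℕ}

theorem Hyp.false (h : Hyp G Ω p q) : False := by
  have : Fact p.Prime := ⟨h.hp⟩
  obtain ⟨S⟩ : Nonempty (Sylow p G) := inferInstance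
  have hP : Syl p (S : Subgroup G) := ⟨S.isPGroup', S.not_dvd_index⟩
  by_cases hs : ∀ a : Ω, ol (S : Subgroup G) a = p
  · exact h.uniB hP S le_rfl (fun y hy _ => hy) hs
  · push Not at hs
    obtain ⟨c, hc⟩ := hs
    have hc2 := (h.o_len hP c).resolve_left hc
    obtain ⟨R, hL⟩ := h.triA hP c hc2
    obtain ⟨x, hx⟩ := h.cyc hP (h.triC hP hL)
    exact h.endC hP hx

/-- No transitive group of degree `2pq` is elusive. -/
theorem not_elusive (htr : IsPretransitive G Ω) (hp : p.Prime) (hq : q.Prime) (q3 : 3 ≤ q) (qp : q < p)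
    (hc : Nat.card Ω = 2 * p * q) (elu : ∀ g : G, (orderOf g).Prime → ∃ ω : Ω, g • ω = ω) : False := by
  have hex : ∃ H : Subgroup G, ∀ a b : Ω, ∃ g ∈ H, g • a = b :=
    ⟨⊤, fun a b => (htr.exists_smul_eq a b).imp fun g hg => ⟨Subgroup.mem_top g, hg⟩⟩
  obtain ⟨H, hH⟩ := exists_minimal_of_wellFoundedLT (fun H : Subgroup G => ∀ a b : Ω, ∃ g ∈ H, g • a = b) hex
  have hy : Hyp H Ω p q :=
    { tr := ⟨fun a b => by
        obtain ⟨g, hg, e⟩ := hH.prop a b
        exact ⟨⟨g, hg⟩, e⟩⟩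
      hp := hp
      hq := hq
      q3 := q3
      qp := qp
      card := hc
      elu := fun g hg => elu g (by rwa [Subgroup.orderOf_coe])
      min := fun K hK => by
        have h1 : ∀ a b : Ω, ∃ g ∈ K.map H.subtype, g • a = b := fun a b => by
          obtain ⟨g, hg, e⟩ := hK a b
          exact ⟨g, ⟨g, hg, rfl⟩, e⟩
        have h2 : H ≤ K.map H.subtype := hH.le_of_le h1 (Subgroup.map_subtype_le K)
        rw [eq_top_iff]
        intro y _
        obtain ⟨z, hz, e⟩ := h2 y.2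
        obtain rfl : z = y := Subtype.ext e
        exact hz }
  exact hy.false

end Cfsg.Agent.EL
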